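import Cfsg.Agent.Lib.ExtraspecialIndexP.Setup

/-
The data from which the three frames are built.
Main results (namespace `Cfsg.Agent.ExtraspecialIndexP`): `Base`, `GData`, `LData`, `UData`.
-/

set_option autoImplicit false

universe u

namespace Cfsg.Agent.ExtraspecialIndexP

open scoped commutatorElement

variable {Ω : Type u} [Group Ω]

/-- `|Q| = p^5`, `Q` has exponent `p`, and `x` is an element of order `p` of `S` outside `Q`. -/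
structure Base (S : Subgroup Ω) (p : ℕ) (Q : Subgroup Ω) (x : Ω) : Prop where
  card_Q : Nat.card Q = p ^ 5
  pow_Q : ∀ q ∈ Q, q ^ p = 1
  xS : x ∈ S
  xQ : x ∉ Q
  xp : x ^ p = 1

/-- One block: `x` kills the third commutator of `q₁`, which pairs with `q₁`. -/
def GData (S : Subgroup Ω) (p : ℕ) (Q : Subgroup Ω) (z : Ω) : Prop :=
  5 ≤ p ∧ ∃ x q₁, Base S p Q x ∧ q₁ ∈ Q ∧ ⁅x, ⁅x, ⁅x, ⁅x, q₁⁆⁆⁆⁆ = 1 ∧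
    omega p z q₁ ⁅x, ⁅x, ⁅x, q₁⁆⁆⁆ ≠ 0

/-- Two blocks with a hyperbolic form. -/
def LData (S : Subgroup Ω) (p : ℕ) (Q : Subgroup Ω) (z : Ω) : Prop :=
  ∃ x q₁ q₂, Base S p Q x ∧ q₁ ∈ Q ∧ q₂ ∈ Q ∧ q₁ * q₂ = q₂ * q₁ ∧
    ⁅x, ⁅x, q₁⁆⁆ = 1 ∧ ⁅x, ⁅x, q₂⁆⁆ = 1 ∧ omega p z q₁ ⁅x, q₁⁆ = 0 ∧ omega p z q₂ ⁅x, q₂⁆ = 0 ∧
    omega p z q₁ ⁅x, q₂⁆ ≠ 0

/-- Two blocks with an anisotropic form. -/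
def UData (S : Subgroup Ω) (p : ℕ) (Q : Subgroup Ω) (z : Ω) : Prop :=
  ∃ x q₁ q₂, Base S p Q x ∧ q₁ ∈ Q ∧ q₂ ∈ Q ∧ q₁ * q₂ = q₂ * q₁ ∧
    ⁅x, ⁅x, q₁⁆⁆ = 1 ∧ ⁅x, ⁅x, q₂⁆⁆ = 1 ∧ omega p z q₁ ⁅x, q₂⁆ = 0 ∧ omega p z q₁ ⁅x, q₁⁆ ≠ 0 ∧
    ¬ IsSquare (-(omega p z q₂ ⁅x, q₂⁆) * omega p z q₁ ⁅x, q₁⁆)

end Cfsg.Agent.ExtraspecialIndexP
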