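import Cfsg.Agent.Lib.ExtraspecialIndexP.Weights
import Cfsg.Agent.Lib.ExtraspecialIndexP.Data

/-
A moved point inside `Q`.
Main results (namespace `Cfsg.Agent.ExtraspecialIndexP`): `InQ`, `InQ.card_Q` (`|Q| = p^5`), `InQ.exists_invert`,
`InQ.pow_Q`, `Mover.caseOne` : the data of the one-block or of the hyperbolic two-block frame.
-/

set_option autoImplicit false
set_option linter.style.haveILetI false
set_option linter.unusedSectionVars false

universe u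

namespace Cfsg.Agent.ExtraspecialIndexP

open Cfsg Cfsg.FusionSystem Cfsg.Agent.Fusion Cfsg.Agent.FusionChain
open scoped commutatorElement

variable {Ω : Type u} [Group Ω] {S : Subgroup Ω} {p : ℕ} {F : FusionSystem S} {Q : Subgroup Ω} {z : Ω}
variable {R : Subgroup Ω}

/-- A moved point inside `Q`. -/
structure InQ (M : Mover F p Q z R) (w : Ω) : Prop where
  moved : M.Moved w
  mem : w ∈ Q

namespace InQ

variable {M : Mover F p Q z R} {w : Ω} (C : InQ M w)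
include C

theorem wR : w ∈ R := M.moved_mem C.moved

theorem wS : w ∈ S := M.hRS C.wR

theorem notZ : w ∉ Subgroup.zpowers z := C.moved.2

theorem w_pow : w ^ p = 1 := M.moved_pow C.moved

theorem ordw : orderOf w = p :=
  haveI := Fact.mk M.setup.prime
  orderOf_eq_prime C.w_pow fun e => C.notZ (e ▸ one_mem _)

theorem zw_comm : Commute z w := (M.setup.z_comm C.wS).symm

theorem pow_mod {i j : ℕ} (h : (i : ZMod p) = j) : w ^ i = w ^ j := by
  rw [pow_eq_pow_iff_modEq, C.ordw]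
  exact (ZMod.natCast_eq_natCast_iff i j p).1 h

theorem zpow_mod {i j : ℕ} (h : (i : ZMod p) = j) : z ^ i = z ^ j := by
  rw [pow_eq_pow_iff_modEq, M.setup.ordz]
  exact (ZMod.natCast_eq_natCast_iff i j p).1 h

/-- The subgroup `⟨z, w⟩`. -/
theorem mem_W {v : Ω} :
    v ∈ Subgroup.zpowers z ⊔ Subgroup.zpowers w ↔ ∃ i j : ℕ, v = z ^ i * w ^ j := by
  have D := M.setup
  refine ⟨fun hv => ?_, fun ⟨i, j, e⟩ => e ▸ mul_mem (Subgroup.mem_sup_left (pow_mem (Subgroup.mem_zpowers z) i))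
    (Subgroup.mem_sup_right (pow_mem (Subgroup.mem_zpowers w) j))⟩
  have hn : Subgroup.zpowers z ≤ Subgroup.normalizer (Subgroup.zpowers w : Set Ω) := by
    refine le_trans ?_ (Subgroup.centralizer_le_normalizer _)
    rw [Subgroup.zpowers_le, Subgroup.mem_centralizer_iff]
    rintro _ ⟨k, rfl⟩
    exact ((C.zw_comm.zpow_right k).eq).symm
  rw [← SetLike.mem_coe, Subgroup.coe_mul_of_left_le_normalizer_right _ _ hn] at hv
  obtain ⟨a, ha, b, hb, rfl⟩ := hv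
  haveI := D.fin
  have hfin : IsOfFinOrder w := orderOf_pos_iff.1 (by rw [C.ordw]; exact D.prime.pos)
  classical
  obtain ⟨j, -, rfl⟩ := Finset.mem_image.1 (hfin.mem_zpowers_iff_mem_range_orderOf.1 hb)
  obtain ⟨i, rfl⟩ := D.exists_pow_eq ha
  exact ⟨i, j, rfl⟩

theorem coord_one {i j : ℕ} (h : z ^ i * w ^ j = 1) : (i : ZMod p) = 0 ∧ (j : ZMod p) = 0 := by
  have D := M.setup
  haveI := Fact.mk D.prime
  have hj : (j : ZMod p) = 0 := by
    by_contra hj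
    refine C.notZ ?_
    have e : w = (w ^ j) ^ ((j : ZMod p)⁻¹).val := by
      rw [← pow_mul]
      conv_lhs => rw [← pow_one w]
      refine C.pow_mod ?_
      push_cast
      rw [ZMod.natCast_zmod_val, mul_inv_cancel₀ hj]
    rw [e, eq_inv_of_mul_eq_one_right h]
    exact pow_mem (inv_mem (pow_mem (Subgroup.mem_zpowers z) i)) _
  have e : w ^ j = 1 := (C.pow_mod (j := 0) (by rw [hj, Nat.cast_zero])).trans (pow_zero w)
  rw [e, mul_one] at h
  refine ⟨?_, hj⟩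
  rw [ZMod.natCast_eq_zero_iff, ← D.ordz]
  exact orderOf_dvd_of_pow_eq_one h

theorem coord {i j i' j' : ℕ} (h : z ^ i * w ^ j = z ^ i' * w ^ j') :
    (i : ZMod p) = i' ∧ (j : ZMod p) = j' := by
  have D := M.setup
  haveI := Fact.mk D.prime
  obtain ⟨n, hn⟩ : ∃ n, n + 1 = p := ⟨p - 1, by have := D.prime.pos; omega⟩
  have e : z ^ (i + n * i') * w ^ (j + n * j') = 1 := by
    rw [pow_add, pow_add, (C.zw_comm.pow_pow (n * i') j).mul_mul_mul_comm, h,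
      ← (C.zw_comm.pow_pow (n * i') j').mul_mul_mul_comm, ← pow_add, ← pow_add,
      show i' + n * i' = p * i' by rw [← hn]; ring, show j' + n * j' = p * j' by rw [← hn]; ring,
      pow_mul, pow_mul, D.z_pow, C.w_pow, one_pow, one_pow, one_mul]
  obtain ⟨h1, h2⟩ := C.coord_one e
  have hn' : (n : ZMod p) = -1 := by
    rw [eq_neg_iff_add_eq_zero, ← Nat.cast_one, ← Nat.cast_add, hn, ZMod.natCast_self]
  push_cast [hn'] at h1 h2
  exact ⟨by linear_combination h1, by linear_combination h2⟩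

theorem W_le_Q : Subgroup.zpowers z ⊔ Subgroup.zpowers w ≤ Q :=
  sup_le M.setup.Z_le (Subgroup.zpowers_le.2 C.mem)

theorem W_le_R : Subgroup.zpowers z ⊔ Subgroup.zpowers w ≤ R :=
  sup_le (Subgroup.zpowers_le.2 M.zR) (Subgroup.zpowers_le.2 C.wR)

theorem W_comm {v r : Ω} (hv : v ∈ Subgroup.zpowers z ⊔ Subgroup.zpowers w) (hr : r ∈ R) : r * v = v * r := by
  obtain ⟨i, j, rfl⟩ := C.mem_W.1 hv
  have h1 : Commute r z := M.setup.z_comm (M.hRS hr)
  have h2 : Commute r w := M.moved_comm C.moved hr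
  exact ((h1.pow_right i).mul_right (h2.pow_right j)).eq

theorem card_W : Nat.card (Subgroup.zpowers z ⊔ Subgroup.zpowers w : Subgroup Ω) = p * p := by
  have D := M.setup
  haveI := D.fin
  haveI := Fact.mk D.prime
  have hb : Function.Bijective (fun c : Fin p × Fin p =>
      (⟨z ^ (c.1 : ℕ) * w ^ (c.2 : ℕ), C.mem_W.2 ⟨_, _, rfl⟩⟩ :
        (Subgroup.zpowers z ⊔ Subgroup.zpowers w : Subgroup Ω))) := by
    refine ⟨fun c d h => ?_, fun v => ?_⟩
    · obtain ⟨h1, h2⟩ := C.coord (congrArg Subtype.val h)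
      rw [ZMod.natCast_eq_natCast_iff'] at h1 h2
      rw [Nat.mod_eq_of_lt c.1.2, Nat.mod_eq_of_lt d.1.2] at h1
      rw [Nat.mod_eq_of_lt c.2.2, Nat.mod_eq_of_lt d.2.2] at h2
      exact Prod.ext (Fin.ext h1) (Fin.ext h2)
    · obtain ⟨i, j, e⟩ := C.mem_W.1 v.2
      refine ⟨(⟨i % p, Nat.mod_lt _ D.prime.pos⟩, ⟨j % p, Nat.mod_lt _ D.prime.pos⟩), Subtype.ext ?_⟩
      show z ^ (i % p) * w ^ (j % p) = v
      rw [e, C.zpow_mod (ZMod.natCast_mod i p), C.pow_mod (ZMod.natCast_mod j p)]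
  rw [← Nat.card_eq_of_bijective _ hb, Nat.card_prod, Nat.card_eq_fintype_card, Fintype.card_fin]

theorem mem_inf {q : Ω} : q ∈ R ⊓ Q ↔ q ∈ Q ∧ q * w = w * q :=
  ⟨fun h => ⟨h.2, M.moved_comm C.moved h.1⟩, fun ⟨h1, h2⟩ =>
    ⟨(M.moved_centralizer C.moved).2 ⟨M.setup.hQS h1, h2⟩, h1⟩⟩

theorem card_inf : p * Nat.card (R ⊓ Q : Subgroup Ω) = Nat.card Q := by
  have D := M.setup
  haveI := D.fin
  have h := D.card_centralizer_mul C.W_le_Q (Subgroup.mem_sup_left (Subgroup.mem_zpowers z))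
  rw [C.card_W, mul_assoc] at h
  have h' := Nat.eq_of_mul_eq_mul_left D.prime.pos h
  rw [← h']
  congr 1
  rw [show R ⊓ Q = Q ⊓ Subgroup.centralizer ((Subgroup.zpowers z ⊔ Subgroup.zpowers w : Subgroup Ω) : Set Ω) from
    le_antisymm (fun q hq => ⟨hq.2, Subgroup.mem_centralizer_iff.2 fun v hv => (C.W_comm hv hq.1).symm⟩)
      fun q hq => C.mem_inf.2 ⟨hq.1, (Subgroup.mem_centralizer_iff.1 hq.2 w
        (Subgroup.mem_sup_right (Subgroup.mem_zpowers w))).symm⟩]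

theorem card_R : Nat.card R = Nat.card Q := by
  have D := M.setup
  haveI := D.fin
  haveI := M.finR
  haveI := Fact.mk D.prime
  rw [← C.card_inf]
  refine le_antisymm (D.card_le_mul_inf M.hRS) ?_
  obtain ⟨x, hxR, hxQ⟩ := SetLike.not_le_iff_exists.1 M.not_le
  have hlt : (R ⊓ Q).subgroupOf S < R.subgroupOf S := by
    refine lt_of_le_of_ne (fun s hs => (Subgroup.mem_subgroupOf.1 hs).1) fun e => hxQ ?_
    have h : (⟨x, M.hRS hxR⟩ : S) ∈ (R ⊓ Q).subgroupOf S := by rw [e]; exact hxR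
    exact (Subgroup.mem_subgroupOf.1 h).2
  have := PGroup.mul_card_le_of_lt D.hS hlt
  rwa [Nat.card_congr (Subgroup.subgroupOfEquivOfLe (inf_le_left.trans M.hRS)).toEquiv,
    Nat.card_congr (Subgroup.subgroupOfEquivOfLe M.hRS).toEquiv] at this

theorem R_conj {s r : Ω} (hs : s ∈ S) (hr : r ∈ R) : s * r * s⁻¹ ∈ R := by
  have D := M.setup
  haveI := D.fin
  haveI := Fact.mk D.prime
  have h1 := Subgroup.card_mul_index (R.subgroupOf S)
  rw [Nat.card_congr (Subgroup.subgroupOfEquivOfLe M.hRS).toEquiv, C.card_R, D.card_S, mul_comm p] at h1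
  haveI := D.finQ
  have hidx := Nat.eq_of_mul_eq_mul_left Nat.card_pos h1
  have key : IsCoatom (R.subgroupOf S) := by
    refine ⟨fun h => M.lt_S.not_ge (Subgroup.subgroupOf_eq_top.1 h), fun K hK => ?_⟩
    by_contra hne
    have a1 := PGroup.mul_card_le_of_lt D.hS hK
    have a2 := PGroup.mul_card_le_of_lt D.hS (lt_top_iff_ne_top.2 hne)
    have a3 := Subgroup.card_mul_index (R.subgroupOf S)
    rw [hidx] at a3
    rw [Subgroup.card_top, ← a3] at a2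
    have := (Nat.mul_le_mul_left p a1).trans a2
    rw [mul_comm (Nat.card _) p] at this
    have := Nat.le_of_mul_le_mul_left this D.prime.pos
    have h0 : 0 < Nat.card (R.subgroupOf S) := Nat.card_pos
    nlinarith [D.prime.two_le]
  exact (PGroup.isCoatom_normal D.hS key).conj_mem ⟨r, M.hRS hr⟩ hr ⟨s, hs⟩

theorem S_norm : S ≤ normalizerIn S R := fun s hs =>
  haveI := M.finR
  mem_normalizerIn_of_conj hs fun _ hr => C.R_conj hs hr

/-- Every element of `R` is a product of a power of `x` and an element of `R ∩ Q`. -/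
theorem decomp {x : Ω} (hx : x ∈ R) (hxQ : x ∉ Q) {r : Ω} (hr : r ∈ R) :
    ∃ i : ℕ, ∃ q ∈ R ⊓ Q, r = x ^ i * q := by
  have D := M.setup
  haveI := Fact.mk D.prime
  have hxp : x ^ p ∈ Q := by
    haveI := D.fin
    haveI := D.normalQ
    have h := pow_card_eq_one' (x := ((⟨x, M.hRS hx⟩ : S) : S ⧸ Q.subgroupOf S))
    rw [← Subgroup.index_eq_card, D.index, ← QuotientGroup.mk_pow,
      QuotientGroup.eq_one_iff (N := Q.subgroupOf S)] at h
    exact h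
  obtain ⟨k, q, hq, rfl⟩ := D.exists_decomp (M.hRS hx) hxQ (M.hRS hr)
  have hp0 : (p : ℤ) ≠ 0 := Int.natCast_ne_zero.2 D.prime.ne_zero
  refine ⟨(k % p).toNat, (x ^ p) ^ (k / p) * q, ⟨?_, mul_mem (zpow_mem hxp _) hq⟩, ?_⟩
  · have hqR : q ∈ R := by
      have := mul_mem (inv_mem (zpow_mem hx k)) hr
      rwa [inv_mul_cancel_left] at this
    exact mul_mem (zpow_mem (pow_mem hx p) _) hqR
  · rw [← zpow_natCast, ← zpow_natCast x p, Int.toNat_of_nonneg (Int.emod_nonneg _ hp0), ← zpow_mul,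
      ← mul_assoc, ← zpow_add, Int.emod_add_mul_ediv]

theorem card_Q : Nat.card Q = p ^ 5 := by
  have D := M.setup
  haveI := D.fin
  haveI := Fact.mk D.prime
  haveI := M.finR
  obtain ⟨⟨g, hg, hgz⟩, -⟩ := C.moved
  have hf := (mem_autGroup_iff M.hRS).1 hg
  obtain ⟨n, hn2, hn, -⟩ := D.exists_card
  set B := (R ⊓ Q).subgroupOf R
  set A := (B ⊓ B.map g.toMonoidHom).map R.subtype
  have hAQ : A ≤ Q := by
    rintro _ ⟨a, ha, rfl⟩
    exact (Subgroup.mem_subgroupOf.1 ha.1).2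
  have hA : ∀ a ∈ A, ∀ b ∈ A, a * b = b * a := by
    rintro _ ⟨a, ha, rfl⟩ _ ⟨b, hb, rfl⟩
    obtain ⟨a', ha', hga⟩ := ha.2
    obtain ⟨b', hb', hgb⟩ := hb.2
    rw [← commutatorElement_eq_one_iff_mul_comm]
    have h1 : ⁅(a : Ω), (b : Ω)⁆ ∈ Subgroup.zpowers z :=
      D.comm_mem (Subgroup.mem_subgroupOf.1 ha.1).2 (Subgroup.mem_subgroupOf.1 hb.1).2
    obtain ⟨i, hi⟩ := D.exists_pow_eq
      (D.comm_mem (Subgroup.mem_subgroupOf.1 ha').2 (Subgroup.mem_subgroupOf.1 hb').2)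
    obtain ⟨j, hj⟩ := D.exists_pow_eq h1
    have hzi : (⟨z, M.zR⟩ : R) ^ i = ⁅a', b'⁆ := Subtype.ext hi
    have h2 : ((⁅a, b⁆ : R) : Ω) = w ^ i := by
      rw [← hga, ← hgb, ← map_commutatorElement, ← hzi, map_pow, SubmonoidClass.coe_pow]
      show ((g ⟨z, M.zR⟩ : R) : Ω) ^ i = w ^ i
      rw [← autFn_apply g M.zR, hgz]
    change ⁅(a : Ω), (b : Ω)⁆ = w ^ i at h2
    show ⁅(a : Ω), (b : Ω)⁆ = 1
    have h3 := C.coord (i := j) (j := 0) (i' := 0) (j' := i) (by rw [pow_zero, pow_zero, mul_one, one_mul, hj, h2])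
    rw [← hj, C.zpow_mod h3.1, pow_zero]
  have hcB : p * Nat.card B = Nat.card R := by
    rw [Nat.card_congr (Subgroup.subgroupOfEquivOfLe inf_le_left).toEquiv, C.card_inf, C.card_R]
  have hcard : Nat.card R ≤ p * p * Nat.card A := by
    rw [Subgroup.card_map_of_injective R.subtype_injective]
    have hm : Nat.card (B.map g.toMonoidHom) = Nat.card B := Subgroup.card_map_of_injective g.injective
    have h1 := Subgroup.card_mul_index ((B ⊓ B.map g.toMonoidHom).subgroupOf B)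
    rw [Nat.card_congr (Subgroup.subgroupOfEquivOfLe inf_le_left).toEquiv] at h1
    have h2 : ((B ⊓ B.map g.toMonoidHom).subgroupOf B).index ≤ p := by
      show (B ⊓ B.map g.toMonoidHom).relIndex B ≤ p
      rw [Subgroup.inf_relIndex_left]
      have h3 := Subgroup.card_mul_index (B.map g.toMonoidHom)
      rw [hm, ← hcB, mul_comm p] at h3
      have h4 := Nat.eq_of_mul_eq_mul_left Nat.card_pos h3
      refine le_trans (Subgroup.relIndex_le_of_le_right le_top ?_) ?_ <;>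
        rw [Subgroup.relIndex_top_right, h4]
      exact D.prime.ne_zero
    calc Nat.card R = p * Nat.card B := hcB.symm
      _ ≤ p * (Nat.card (B ⊓ B.map g.toMonoidHom : Subgroup R) * p) :=
          Nat.mul_le_mul_left _ (h1 ▸ Nat.mul_le_mul_left _ h2)
      _ = p * p * Nat.card (B ⊓ B.map g.toMonoidHom : Subgroup R) := by ring
  have hsq := D.card_abelian_sq hAQ hA
  rw [C.card_R, hn] at hcard
  rw [hn] at hsq ⊢
  have h5 : p ^ (2 * n + 1) * p ^ (2 * n + 1) ≤ p ^ (2 * n + 6) := by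
    calc p ^ (2 * n + 1) * p ^ (2 * n + 1) ≤ (p * p * Nat.card A) * (p * p * Nat.card A) :=
          Nat.mul_le_mul hcard hcard
      _ = p * p * (p * p) * (Nat.card A * Nat.card A) := by ring
      _ ≤ p * p * (p * p) * (p * p ^ (2 * n + 1)) := Nat.mul_le_mul_left _ hsq
      _ = p ^ (2 * n + 6) := by ring
  rw [← pow_add, Nat.pow_le_pow_iff_right D.prime.one_lt] at h5
  obtain rfl : n = 2 := by omega
  rfl

theorem card_inf_eq : Nat.card (R ⊓ Q : Subgroup Ω) = p ^ 4 := by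
  refine Nat.eq_of_mul_eq_mul_left M.setup.prime.pos ?_
  rw [C.card_inf, C.card_Q]; ring

theorem centralizer_inf {q : Ω} (hq : q ∈ Q) (h : ∀ r ∈ R ⊓ Q, r * q = q * r) :
    q ∈ Subgroup.zpowers z ⊔ Subgroup.zpowers w := by
  have D := M.setup
  haveI := D.fin
  have h1 := D.card_centralizer_mul (H := R ⊓ Q) inf_le_right ⟨M.zR, D.z_mem⟩
  rw [C.card_inf_eq, C.card_Q] at h1
  set K := Q ⊓ Subgroup.centralizer ((R ⊓ Q : Subgroup Ω) : Set Ω)
  have hle : Subgroup.zpowers z ⊔ Subgroup.zpowers w ≤ K := fun v hv =>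
    ⟨C.W_le_Q hv, Subgroup.mem_centralizer_iff.2 fun r hr => C.W_comm hv hr.1⟩
  haveI : Finite K := finite_of_le (S := S) (inf_le_left.trans D.hQS)
  have hK : Nat.card K ≤ p * p := by
    refine Nat.le_of_mul_le_mul_left (le_of_eq (h1.trans ?_)) (pow_pos D.prime.pos 4)
    ring
  exact (Subgroup.eq_of_le_of_card_ge hle (hK.trans C.card_W.ge)).ge ⟨hq, Subgroup.mem_centralizer_iff.2 h⟩

theorem exists_y : ∃ y ∈ Q, y ∉ R := by
  obtain ⟨y, hy, hy'⟩ := SetLike.exists_of_lt (show R ⊓ Q < Q from lt_of_le_of_ne inf_le_right fun e => by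
    have h := C.card_inf
    rw [e] at h
    haveI := M.setup.finQ
    exact M.setup.prime.one_lt.ne' (by
      have := Nat.eq_of_mul_eq_mul_right (Nat.card_pos (α := Q)) (h.trans (one_mul _).symm)
      exact this))
  exact ⟨y, hy, fun h => hy' ⟨h, hy⟩⟩

variable {x : Ω} (hx : x ∈ R) (hxQ : x ∉ Q)
include hx hxQ

theorem comm_mem_im1 {a b : Ω} (ha : a ∈ R) (hb : b ∈ R) : ⁅a, b⁆ ∈ im1 (R ⊓ Q) z x := by
  have D := M.setup
  have hxS := M.hRS hx
  set X := im1 (R ⊓ Q) z x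
  have hconj : ∀ r ∈ R, ∀ v ∈ X, r * v * r⁻¹ ∈ X := by
    have hzX : Subgroup.zpowers z ≤ X := fun v hv =>
      (D.mem_im1 hxS inf_le_right).2 ⟨1, one_mem _, v, hv, by simp⟩
    have hxn : ∀ i : ℕ, ∀ v ∈ X, x ^ i * v * (x ^ i)⁻¹ ∈ X := by
      intro i
      induction i with
      | zero => simp
      | succ i ih =>
        intro v hv
        have h1 : x * v * x⁻¹ ∈ X := by
          obtain ⟨q, hq, t, ht, rfl⟩ := (D.mem_im1 hxS inf_le_right).1 hv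
          refine (D.mem_im1 hxS inf_le_right).2 ⟨x * q * x⁻¹,
            ⟨R.mul_mem (R.mul_mem hx hq.1) (R.inv_mem hx), D.conj_Q hxS hq.2⟩, t, ht, ?_⟩
          have e : x * (⁅x, q⁆ * t) * x⁻¹ = ⁅x, x * q * x⁻¹⁆ * (x * t * x⁻¹) := by
            simp only [commutatorElement_def]; group
          rw [e, D.zpow_comm hxS ht, mul_inv_cancel_right]
        have := ih _ h1
        rw [pow_succ]
        simpa [mul_assoc] using this
    intro r hr v hv
    obtain ⟨i, q, hq, rfl⟩ := C.decomp hx hxQ hr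
    have e : x ^ i * q * v * (x ^ i * q)⁻¹ = x ^ i * (⁅q, v⁆ * v) * (x ^ i)⁻¹ := by
      simp only [commutatorElement_def]; group
    rw [e]
    exact hxn i _ (mul_mem (hzX (D.comm_mem hq.2 (D.im1_le_Q hxS inf_le_right hv))) hv)
  have h1 : ∀ r ∈ R, ∀ q ∈ R ⊓ Q, ⁅r, q⁆ ∈ X := by
    intro r hr q hq
    obtain ⟨i, q', hq', rfl⟩ := C.decomp hx hxQ hr
    clear hr
    induction i with
    | zero =>
      rw [pow_zero, one_mul]
      exact (D.mem_im1 hxS inf_le_right).2 ⟨1, one_mem _, _, D.comm_mem hq'.2 hq.2, by simp⟩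
    | succ i ih =>
      have e : ⁅x ^ (i + 1) * q', q⁆ = x * ⁅x ^ i * q', q⁆ * x⁻¹ * ⁅x, q⁆ := by
        rw [pow_succ']; simp only [commutatorElement_def]; group
      rw [e]
      exact mul_mem (hconj x hx _ ih) ((D.mem_im1 hxS inf_le_right).2 ⟨q, hq, 1, one_mem _, (mul_one _).symm⟩)
  obtain ⟨i, q, hq, rfl⟩ := C.decomp hx hxQ ha
  obtain ⟨j, q', hq', rfl⟩ := C.decomp hx hxQ hb
  have e : ⁅x ^ i * q, x ^ j * q'⁆ =
      x ^ i * ⁅x ^ j * q', q⁆⁻¹ * (x ^ i)⁻¹ * (x ^ j * ⁅x ^ i, q'⁆ * (x ^ j)⁻¹) := by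
    simp only [commutatorElement_def]; group
  rw [e]
  exact mul_mem (hconj _ (pow_mem hx i) _ (inv_mem (h1 _ (mul_mem (pow_mem hx j) hq'.1) q hq)))
    (hconj _ (pow_mem hx j) _ (h1 _ (pow_mem hx i) q' hq'))

theorem w_mem_im1 : w ∈ im1 (R ⊓ Q) z x := by
  have D := M.setup
  haveI := D.fin
  haveI := Fact.mk D.prime
  obtain ⟨⟨g, hg, hgz⟩, -⟩ := C.moved
  obtain ⟨a, ha, b, hb, hab⟩ : ∃ a ∈ R ⊓ Q, ∃ b ∈ R ⊓ Q, ⁅a, b⁆ ≠ 1 := by
    by_contra hc
    push Not at hc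
    have h := D.card_abelian_sq (A := R ⊓ Q) inf_le_right fun a ha b hb =>
      commutatorElement_eq_one_iff_mul_comm.1 (hc a ha b hb)
    rw [C.card_inf_eq, C.card_Q, ← pow_add, ← pow_succ', Nat.pow_le_pow_iff_right D.prime.one_lt] at h
    omega
  obtain ⟨k, hk⟩ := D.exists_pow_eq (D.comm_mem ha.2 hb.2)
  have hk0 : (k : ZMod p) ≠ 0 := fun h0 => hab (by
    rw [← hk, C.zpow_mod (j := 0) (by rw [h0, Nat.cast_zero]), pow_zero])
  have h1 : (⟨z, M.zR⟩ : R) ^ k = ⁅(⟨a, ha.1⟩ : R), ⟨b, hb.1⟩⁆ := Subtype.ext hk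
  have h2 := congrArg (fun r : R => ((g r : R) : Ω)) h1
  simp only [map_pow, map_commutatorElement, SubmonoidClass.coe_pow] at h2
  rw [← autFn_apply g M.zR, hgz] at h2
  have h3 : w ^ k ∈ im1 (R ⊓ Q) z x := h2 ▸ C.comm_mem_im1 hx hxQ (g ⟨a, ha.1⟩).2 (g ⟨b, hb.1⟩).2
  have e : w = (w ^ k) ^ ((k : ZMod p)⁻¹).val := by
    rw [← pow_mul]
    conv_lhs => rw [← pow_one w]
    refine C.pow_mod ?_
    push_cast
    rw [ZMod.natCast_zmod_val, mul_inv_cancel₀ hk0]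
  rw [e]
  exact pow_mem h3 _

theorem W_le_im1 : Subgroup.zpowers z ⊔ Subgroup.zpowers w ≤ im1 (R ⊓ Q) z x :=
  sup_le (fun v hv => (M.setup.mem_im1 (M.hRS hx) inf_le_right).2 ⟨1, one_mem _, v, hv, by simp⟩)
    (Subgroup.zpowers_le.2 (C.w_mem_im1 hx hxQ))

theorem W_le_lev : Subgroup.zpowers z ⊔ Subgroup.zpowers w ≤ lev Q z x 1 := fun v hv =>
  (M.setup.mem_lev_succ (M.hRS hx) 0).2 ⟨C.W_le_Q hv, by
    rw [commutatorElement_eq_one_iff_mul_comm.2 (C.W_comm hv hx)]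
    exact one_mem _⟩

theorem im1_le : im1 Q z x ≤ R ⊓ Q := fun v hv =>
  C.mem_inf.2 ⟨M.setup.im1_le_Q (M.hRS hx) le_rfl hv,
    (M.setup.im1_comm (M.hRS hx) hv (C.W_le_lev hx hxQ (Subgroup.mem_sup_right (Subgroup.mem_zpowers w)))).symm⟩

theorem lev_one_le : lev Q z x 1 ≤ R ⊓ Q := fun q hq => by
  have D := M.setup
  have hxS := M.hRS hx
  refine C.mem_inf.2 ⟨D.lev_le_Q hxS 1 hq, D.im1_comm hxS ?_ hq⟩
  obtain ⟨a, ha, v, hv, e⟩ := (D.mem_im1 hxS inf_le_right).1 (C.w_mem_im1 hx hxQ)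
  exact (D.mem_im1 hxS le_rfl).2 ⟨a, ha.2, v, hv, e⟩

theorem card_im1_inf : Nat.card (im1 (R ⊓ Q) z x) * Nat.card (lev Q z x 1) = p ^ 5 := by
  have h := M.setup.card_im1 (M.hRS hx) (inf_le_right : R ⊓ Q ≤ Q)
  rw [inf_eq_right.2 (C.lev_one_le hx hxQ), C.card_inf_eq] at h
  rw [h]; ring

theorem card_im1_Q : Nat.card (im1 Q z x) * Nat.card (lev Q z x 1) = p ^ 6 := by
  have h := M.setup.card_im1 (M.hRS hx) (le_refl Q)
  rw [inf_eq_right.2 (M.setup.lev_le_Q (M.hRS hx) 1), C.card_Q] at h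
  rw [h]; ring

theorem card_lev_one : Nat.card (lev Q z x 1) = p ^ 2 ∨ Nat.card (lev Q z x 1) = p ^ 3 := by
  have D := M.setup
  haveI := D.fin
  haveI := Fact.mk D.prime
  have hxS := M.hRS hx
  haveI := finite_of_le (S := S) (D.lev_le_S hxS 1)
  haveI := finite_of_le (S := S) ((D.im1_le_Q hxS (inf_le_right : R ⊓ Q ≤ Q)).trans D.hQS)
  have h := C.card_im1_inf hx hxQ
  obtain ⟨e, he, heq⟩ := (Nat.dvd_prime_pow D.prime).1 (Dvd.intro_left _ h)
  have h2 := Subgroup.card_le_of_le (C.W_le_lev hx hxQ)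
  have h3 := Subgroup.card_le_of_le (C.W_le_im1 hx hxQ)
  rw [C.card_W] at h2 h3
  rw [heq] at h h2 ⊢
  have e2 : 2 ≤ e := by
    rw [← pow_two, Nat.pow_le_pow_iff_right D.prime.one_lt] at h2; exact h2
  have e3 : e ≤ 3 := by
    have h4 := Nat.mul_le_mul_right (p ^ e) h3
    rw [h, ← pow_two, ← pow_add, Nat.pow_le_pow_iff_right D.prime.one_lt] at h4
    omega
  interval_cases e
  · exact Or.inl rfl
  · exact Or.inr rfl

theorem map_mem_Q {f : Ω → Ω} (hf : IsMap F S f) (hfz : f z ∈ Subgroup.zpowers z) {q : Ω} (hq : q ∈ Q) :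
    f q ∈ Q := by
  refine M.setup.map_mem_Q (M.hRS hx) hxQ ?_ hf hfz hq
  rw [C.card_Q]
  rcases C.card_lev_one hx hxQ with h | h <;> rw [h, ← pow_succ'] <;>
    exact Nat.pow_lt_pow_right M.setup.prime.one_lt (by omega)

theorem central_mem {r : Ω} (hr : r ∈ R) (h : ∀ s ∈ R, s * r = r * s) :
    r ∈ Subgroup.zpowers z ⊔ Subgroup.zpowers w := by
  by_cases hrQ : r ∈ Q
  · exact C.centralizer_inf hrQ fun s hs => h s hs.1
  · exfalso
    have D := M.setup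
    obtain ⟨a, ha, v, hv, e⟩ := (D.mem_im1 (M.hRS hr) inf_le_right).1 (C.w_mem_im1 hr hrQ)
    rw [commutatorElement_eq_one_iff_mul_comm.2 (h a ha.1).symm, one_mul] at e
    exact C.notZ (e ▸ hv)

omit hx hxQ

theorem exists_x : ∃ x ∈ R, x ∉ Q := SetLike.not_le_iff_exists.1 M.not_le

theorem aut_W {g : MulAut R} {v : Ω} (hv : v ∈ Subgroup.zpowers z ⊔ Subgroup.zpowers w) :
    autFn g v ∈ Subgroup.zpowers z ⊔ Subgroup.zpowers w := by
  obtain ⟨x, hx, hxQ⟩ := C.exists_x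
  refine C.central_mem hx hxQ (autFn_mem g (C.W_le_R hv)) fun s hs => ?_
  obtain ⟨t, ht⟩ := g.surjective ⟨s, hs⟩
  rw [autFn_apply g (C.W_le_R hv)]
  have h : t * ⟨v, C.W_le_R hv⟩ = ⟨v, C.W_le_R hv⟩ * t := Subtype.ext (C.W_comm hv t.2)
  have h2 := congrArg g h
  rw [map_mul, map_mul, ht] at h2
  exact congrArg Subtype.val h2

theorem comm_S {s : Ω} (hs : s ∈ S) : ∃ c : ℕ, s * w * s⁻¹ = w * z ^ c := by
  have D := M.setup
  obtain ⟨x, hx, hxQ⟩ := C.exists_x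
  obtain ⟨k, q, hq, rfl⟩ := D.exists_decomp (M.hRS hx) hxQ hs
  obtain ⟨c, hc⟩ := D.exists_pow_eq (D.comm_mem hq C.mem)
  refine ⟨c, ?_⟩
  have e : x ^ k * q * w * (x ^ k * q)⁻¹ = x ^ k * (⁅q, w⁆ * w) * (x ^ k)⁻¹ := by
    simp only [commutatorElement_def]; group
  have h1 : Commute (x ^ k) w := M.moved_comm C.moved (zpow_mem hx k)
  have h2 : Commute (x ^ k) (z ^ c) :=
    ((show Commute (x ^ k) z from D.z_comm (zpow_mem (M.hRS hx) k))).pow_right c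
  rw [e, ← hc, (C.zw_comm.pow_left c).eq, (h1.mul_right h2).eq, mul_inv_cancel_right]

theorem exists_transvection_pair :
    ∃ a ∈ autInducedBy S R, ∃ b ∈ F.autGroup R, ∃ k m : ℕ, (k : ZMod p) ≠ 0 ∧ (m : ZMod p) ≠ 0 ∧
      a ⟨w, C.wR⟩ = ⟨w, C.wR⟩ * ⟨z, M.zR⟩ ^ k ∧
      b ⟨w, C.wR⟩ = ⟨w, C.wR⟩ ∧ b ⟨z, M.zR⟩ = ⟨z, M.zR⟩ * ⟨w, C.wR⟩ ^ m := by
  have D := M.setup
  haveI := Fact.mk D.prime
  obtain ⟨y, hyQ, hyR⟩ := C.exists_y
  obtain ⟨⟨g, hg, hgz⟩, -⟩ := C.moved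
  set zR : R := ⟨z, M.zR⟩
  set wR : R := ⟨w, C.wR⟩
  set a := normConj S R ⟨y, C.S_norm (D.hQS hyQ)⟩
  have ha : a ∈ autInducedBy S R := M.normConj_mem _
  have haL : a ∈ F.autGroup R := autInducedBy_le_autGroup F le_rfl M.hRS ha
  have haz : a zR = zR := Subtype.ext ((autFn_apply a M.zR).symm.trans (M.inducedBy_fix ha))
  obtain ⟨k, hk⟩ := C.comm_S (D.hQS hyQ)
  have haw : a wR = wR * zR ^ k := Subtype.ext (by
    rw [Subgroup.coe_mul, SubmonoidClass.coe_pow]; exact hk)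
  have hk0 : (k : ZMod p) ≠ 0 := fun h0 => hyR ((M.moved_centralizer C.moved).2 ⟨D.hQS hyQ, by
    rw [C.zpow_mod (j := 0) (by rw [h0, Nat.cast_zero]), pow_zero, mul_one, mul_inv_eq_iff_eq_mul] at hk
    exact hk⟩)
  have hgzR : g zR = wR := Subtype.ext (by rw [← autFn_apply g M.zR]; exact hgz)
  obtain ⟨i, j, hij⟩ := C.mem_W.1 (C.aut_W (g := g⁻¹) (Subgroup.mem_sup_left (Subgroup.mem_zpowers z)))
  have hij' : g⁻¹ zR = zR ^ i * wR ^ j := Subtype.ext (by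
    rw [Subgroup.coe_mul, SubmonoidClass.coe_pow, SubmonoidClass.coe_pow, ← autFn_apply g⁻¹ M.zR]; exact hij)
  have hj0 : (j : ZMod p) ≠ 0 := fun h0 => C.notZ (by
    have hgs : g⁻¹ ∈ M.stab := ⟨inv_mem hg, by
      rw [hij, C.pow_mod (j := 0) (by rw [h0, Nat.cast_zero]), pow_zero, mul_one]
      exact pow_mem (Subgroup.mem_zpowers z) i⟩
    rw [← hgz]
    exact (inv_inv g ▸ inv_mem hgs : g ∈ M.stab).2)
  refine ⟨a, ha, g * a * g⁻¹, mul_mem (mul_mem hg haL) (inv_mem hg), k, k * j, hk0,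
    by rw [Nat.cast_mul]; exact mul_ne_zero hk0 hj0, haw, ?_, ?_⟩
  · show g (a (g⁻¹ wR)) = wR
    rw [← hgzR, MulAut.inv_apply_self, haz]
  · show g (a (g⁻¹ zR)) = _
    have hc : Commute wR (zR ^ k) := Subtype.ext (by
      show w * z ^ k = z ^ k * w
      exact ((C.zw_comm.pow_left k).eq).symm)
    rw [hij', map_mul a, map_pow a, map_pow a, haz, haw, hc.mul_pow, ← pow_mul, ← mul_assoc, ← hij', map_mul g,
      map_pow g, hgzR, MulAut.apply_inv_self]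

/-- An element of `Aut_S(R)` with a prescribed shear. -/
theorem exists_shear (c : ℕ) :
    ∃ α ∈ autInducedBy S R, α ⟨z, M.zR⟩ = ⟨z, M.zR⟩ ∧ α ⟨w, C.wR⟩ = ⟨w, C.wR⟩ * ⟨z, M.zR⟩ ^ c := by
  have D := M.setup
  obtain ⟨a, ha, -, -, k, -, hk0, -, haw, -, -⟩ := C.exists_transvection_pair
  have haz : a ⟨z, M.zR⟩ = ⟨z, M.zR⟩ := Subtype.ext ((autFn_apply a M.zR).symm.trans (M.inducedBy_fix ha))
  obtain ⟨i, hi⟩ := D.exists_mul_eq (i := (k : ℤ)) (by rwa [Int.cast_natCast]) (c : ℤ)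
  refine ⟨a ^ i, pow_mem ha i, ?_, ?_⟩
  · exact Subtype.ext ((autFn_apply _ M.zR).symm.trans (M.inducedBy_fix (pow_mem ha i)))
  · rw [transvection_pow (by rw [map_pow, haz]) haw i, ← pow_mul]
    refine congrArg _ (Subtype.ext ?_)
    rw [SubmonoidClass.coe_pow, SubmonoidClass.coe_pow]
    refine C.zpow_mod ?_
    push_cast at hi ⊢
    rw [mul_comm]; exact hi

theorem exists_w0 :
    ∃ α ∈ F.autGroup R, α ⟨z, M.zR⟩ = (⟨z, M.zR⟩ : R)⁻¹ ∧ α ⟨w, C.wR⟩ = (⟨w, C.wR⟩ : R)⁻¹ := by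
  have D := M.setup
  haveI := Fact.mk D.prime
  set zR : R := ⟨z, M.zR⟩
  set wR : R := ⟨w, C.wR⟩
  obtain ⟨-, -, b, hb, -, m, -, hm, -, hbw, hbz⟩ := C.exists_transvection_pair
  obtain ⟨A, hA, hAz, hAw⟩ := C.exists_shear 1
  rw [pow_one] at hAw
  obtain ⟨j, hj⟩ := D.exists_mul_eq (i := (m : ℤ)) (by rwa [Int.cast_natCast]) (-1)
  have hUw : (b ^ j) wR = wR := by
    clear hj
    induction j with
    | zero => rfl
    | succ j ih => rw [pow_succ, MulAut.mul_apply, hbw]; exact ih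
  have hUz : (b ^ j) zR = zR * wR⁻¹ := by
    rw [transvection_pow (by rw [map_pow, hbw]) hbz j, ← pow_mul]
    congr 1
    rw [eq_inv_iff_mul_eq_one, ← pow_succ]
    refine Subtype.ext ?_
    rw [SubmonoidClass.coe_pow, Subgroup.coe_one]
    show w ^ (m * j + 1) = 1
    rw [C.pow_mod (j := 0) (by push_cast at hj ⊢; linear_combination hj), pow_zero]
  have hc : Commute zR wR := Subtype.ext C.zw_comm.eq
  have e1 : (A * b ^ j * A) wR = zR := by
    show A ((b ^ j) (A wR)) = _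
    rw [hAw, map_mul (b ^ j), hUw, hUz, hc.inv_right.eq, mul_inv_cancel_left, hAz]
  have e2 : (A * b ^ j * A) zR = wR⁻¹ := by
    show A ((b ^ j) (A zR)) = _
    rw [hAz, hUz, map_mul A, map_inv A, hAz, hAw, mul_inv_rev, mul_inv_cancel_left]
  have hAL : A ∈ F.autGroup R := autInducedBy_le_autGroup F le_rfl M.hRS hA
  have hU : A * b ^ j * A ∈ F.autGroup R := mul_mem (mul_mem hAL (pow_mem hb j)) hAL
  refine ⟨(A * b ^ j * A) * (A * b ^ j * A), mul_mem hU hU, ?_, ?_⟩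
  · rw [MulAut.mul_apply, e2, map_inv, e1]
  · rw [MulAut.mul_apply, e1, e2]

/-- An automorphism of `S` inverting `⟨z, w⟩`. -/
theorem exists_invert :
    ∃ f, IsMap F S f ∧ f z = z⁻¹ ∧ f w = w⁻¹ ∧ (∀ r ∈ R, f r ∈ R) ∧ ∀ q ∈ Q, f q ∈ Q := by
  have D := M.setup
  haveI := D.fin
  haveI := M.finAut
  haveI := Fact.mk D.prime
  set zR : R := ⟨z, M.zR⟩
  set wR : R := ⟨w, C.wR⟩
  obtain ⟨w0, hw0, hw0z, hw0w⟩ := C.exists_w0
  let H : Subgroup (MulAut R) :=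
    { carrier := {α | α ∈ F.autGroup R ∧ α zR = zR ∧ ∃ v ∈ Subgroup.zpowers zR, α wR = wR * v}
      one_mem' := ⟨one_mem _, rfl, 1, one_mem _, (mul_one _).symm⟩
      mul_mem' := fun {α β} ha hb => by
        obtain ⟨ha0, haz, v, hv, ha'⟩ := ha
        obtain ⟨hb0, hbz, v', hv', hb'⟩ := hb
        refine ⟨mul_mem ha0 hb0, by rw [MulAut.mul_apply, hbz, haz], v * v', mul_mem hv hv', ?_⟩
        obtain ⟨i, rfl⟩ := Subgroup.mem_zpowers_iff.1 hv'
        rw [MulAut.mul_apply, hb', map_mul, map_zpow, haz, ha', mul_assoc]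
      inv_mem' := fun {α} ha => by
        obtain ⟨ha0, haz, v, hv, ha'⟩ := ha
        obtain ⟨i, rfl⟩ := Subgroup.mem_zpowers_iff.1 hv
        have hzi : α⁻¹ zR = zR := α.injective (by rw [MulAut.apply_inv_self, haz])
        refine ⟨inv_mem ha0, hzi, (zR ^ i)⁻¹, inv_mem hv, α.injective ?_⟩
        rw [MulAut.apply_inv_self, map_mul, map_inv, map_zpow, haz, ha', mul_inv_cancel_right] }
  set T := autInducedBy S R
  have hT : T ≤ H := by
    intro α hα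
    refine ⟨autInducedBy_le_autGroup F le_rfl M.hRS hα,
      Subtype.ext ((autFn_apply α M.zR).symm.trans (M.inducedBy_fix hα)), ?_⟩
    obtain ⟨s, hs, hsa⟩ := mem_autInducedBy_iff.1 hα
    obtain ⟨c, hc⟩ := C.comm_S hs
    refine ⟨zR ^ c, pow_mem (Subgroup.mem_zpowers zR) c, Subtype.ext ?_⟩
    rw [hsa, Subgroup.coe_mul, SubmonoidClass.coe_pow]
    exact hc
  have hHn : ∀ α ∈ H, w0 * α * w0⁻¹ ∈ H := by
    rintro α ⟨ha0, haz, v, hv, ha'⟩
    have e1 : w0⁻¹ zR = zR⁻¹ := w0.injective (by rw [MulAut.apply_inv_self, map_inv, hw0z, inv_inv])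
    have e2 : w0⁻¹ wR = wR⁻¹ := w0.injective (by rw [MulAut.apply_inv_self, map_inv, hw0w, inv_inv])
    obtain ⟨i, rfl⟩ := Subgroup.mem_zpowers_iff.1 hv
    refine ⟨mul_mem (mul_mem hw0 ha0) (inv_mem hw0), ?_, zR ^ i, hv, ?_⟩
    · show w0 (α (w0⁻¹ zR)) = zR
      rw [e1, map_inv, haz, map_inv, hw0z, inv_inv]
    · show w0 (α (w0⁻¹ wR)) = _
      rw [e2, map_inv, ha', map_inv, map_mul, map_zpow, hw0w, hw0z]
      have hc : Commute wR zR := Subtype.ext C.zw_comm.symm.eq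
      rw [mul_inv_rev, inv_inv, ← inv_zpow, inv_inv, (hc.zpow_right i).eq]
  have hsyl : IsSylowIn p T H := M.sylow.mono hT fun _ h => h.1
  obtain ⟨h, hh, hconj⟩ := hsyl.exists_conj_le (H := T.map (MulAut.conj w0).toMonoidHom)
    (hsyl.isPGroup.map _) (by rintro _ ⟨t, ht, rfl⟩; exact hHn t (hT ht))
  obtain ⟨hh0, hhz, v, hv, hhw⟩ := hh
  obtain ⟨i, rfl⟩ := Subgroup.mem_zpowers_iff.1 hv
  obtain ⟨A, hA, hAz, hAw⟩ := C.exists_shear (-(i : ZMod p)).val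
  set ν := A * (h * w0)
  have hν : ν ∈ F.autGroup R := mul_mem (autInducedBy_le_autGroup F le_rfl M.hRS hA) (mul_mem hh0 hw0)
  have hνT : ∀ t ∈ T, ν * t * ν⁻¹ ∈ T := by
    intro t ht
    have h1 := mul_mem (mul_mem hA (hconj _ ⟨t, ht, rfl⟩)) (inv_mem hA)
    simpa [ν, mul_assoc, mul_inv_rev] using h1
  have hνz : ν zR = zR⁻¹ := by
    show A (h (w0 zR)) = _
    rw [hw0z, map_inv, hhz, map_inv, hAz]
  have hνw : ν wR = wR⁻¹ := by
    show A (h (w0 wR)) = _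
    rw [hw0w, map_inv, hhw, map_inv, map_mul, map_zpow, hAz, hAw, inv_inj, mul_assoc, mul_eq_left]
    refine Subtype.ext ?_
    rw [Subgroup.coe_mul, Subgroup.coe_zpow, SubmonoidClass.coe_pow, Subgroup.coe_one]
    show z ^ (-(i : ZMod p)).val * z ^ i = 1
    rw [← zpow_natCast, ← zpow_add, ← zpow_zero z]
    refine D.zpow_eq_iff.2 ?_
    push_cast
    rw [ZMod.natCast_zmod_val, neg_add_cancel]
  obtain ⟨f, hf, hfν⟩ := exists_extension (receptive_of_fullyNormalized D.hS D.hF M.fn) hν C.S_norm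
    fun g hg => hνT _ (M.normConj_mem _)
  have hfS : IsMap F S f := hf.mono le_sup_right
  have hfz : f z = z⁻¹ := by
    rw [hfν z M.zR, autFn_apply ν M.zR]
    show ((ν zR : R) : Ω) = _
    rw [hνz]; rfl
  refine ⟨f, hfS, hfz, ?_, fun r hr => by rw [hfν r hr]; exact autFn_mem ν hr, ?_⟩
  · rw [hfν w C.wR, autFn_apply ν C.wR]
    show ((ν wR : R) : Ω) = _
    rw [hνw]; rfl
  · obtain ⟨x, hx, hxQ⟩ := C.exists_x
    intro q hq
    exact C.map_mem_Q hx hxQ hfS (hfz ▸ inv_mem (Subgroup.mem_zpowers z)) hq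

theorem map_pow' {P : Subgroup Ω} {f : Ω → Ω} (hf : IsMap F P f) {a : Ω} (ha : a ∈ P) (n : ℕ) :
    f (a ^ n) = f a ^ n := by
  have _ := C
  induction n with
  | zero => simpa using hf.map_one
  | succ n ih => rw [pow_succ, hf.map_mul (pow_mem ha n) ha, ih, pow_succ]

/-- Exponent `p` of `R ∩ Q` gives exponent `p` of `Q`. -/
theorem pow_Q (h : ∀ r ∈ R ⊓ Q, r ^ p = 1) : ∀ q ∈ Q, q ^ p = 1 := by
  have D := M.setup
  haveI := Fact.mk D.prime
  obtain ⟨f, hf, hfz, hfw, -, hfQ⟩ := C.exists_invert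
  intro q hq
  have hqS := D.hQS hq
  obtain ⟨c, hc⟩ := C.comm_S hqS
  have h1 := hf.map_conj hqS C.wS
  rw [hc, hf.map_mul C.wS (pow_mem D.z_memS c), C.map_pow' hf D.z_memS, hfz, hfw] at h1
  have hfq : f q * w * (f q)⁻¹ = w * z ^ c := by
    have h2 := congrArg (·⁻¹) h1
    simp only [mul_inv_rev, inv_inv, inv_pow, mul_assoc] at h2
    rw [mul_assoc, ← h2]
    exact C.zw_comm.pow_left c |>.eq
  have hd : q⁻¹ * f q ∈ R ⊓ Q := by
    refine C.mem_inf.2 ⟨mul_mem (inv_mem hq) (hfQ q hq), ?_⟩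
    have h3 : f q * w * (f q)⁻¹ = q * w * q⁻¹ := hfq.trans hc.symm
    calc q⁻¹ * f q * w = q⁻¹ * (f q * w * (f q)⁻¹) * f q := by group
      _ = w * (q⁻¹ * f q) := by rw [h3]; group
  have h4 : f (q ^ p) = q ^ p := by
    rw [C.map_pow' hf hqS]
    conv_lhs => rw [← mul_inv_cancel_left q (f q)]
    rw [D.mul_pow_Q hq hd.2, h _ hd, mul_one]
  obtain ⟨e, he⟩ := D.exists_pow_eq (D.pth_mem hq)
  rw [← he, C.map_pow' hf D.z_memS, hfz, inv_pow, inv_eq_iff_mul_eq_one, ← pow_add] at h4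
  have h5 : (2 : ZMod p) * e = 0 := by
    have := (C.coord_one (i := e + e) (j := 0) (by rw [h4, pow_zero, mul_one])).1
    push_cast at this
    linear_combination this
  have h2 : (2 : ZMod p) ≠ 0 := by
    intro h0
    have := (ZMod.natCast_eq_zero_iff 2 p).1 (by exact_mod_cast h0)
    exact D.odd ((Nat.prime_dvd_prime_iff_eq D.prime Nat.prime_two).1 this)
  rw [← he, C.zpow_mod (j := 0) (by rw [(mul_eq_zero.1 h5).resolve_left h2, Nat.cast_zero]), pow_zero]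

theorem pow_of_mem_zpowers (h : ∀ r ∈ R, r ^ p ∈ Subgroup.zpowers z) : ∀ r ∈ R, r ^ p = 1 := by
  have D := M.setup
  haveI := Fact.mk D.prime
  intro r hr
  obtain ⟨⟨g, hg, hgz⟩, -⟩ := C.moved
  obtain ⟨e, he⟩ := D.exists_pow_eq (h r hr)
  obtain ⟨e', he'⟩ := D.exists_pow_eq (h _ (autFn_mem g hr))
  have hf := (mem_autGroup_iff M.hRS).1 hg
  have h1 : z ^ e' = w ^ e := by
    rw [he', ← hgz, ← C.map_pow' hf M.zR, he, C.map_pow' hf hr]
  have h2 := (C.coord (i := e') (j := 0) (i' := 0) (j' := e) (by rw [pow_zero, pow_zero, mul_one, one_mul, h1])).2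
  rw [← he, C.zpow_mod h2.symm, pow_zero]

/-- An invariant cyclic image of the power map lies in `⟨z⟩`. -/
theorem pow_of_line {v : Ω} (hv : v ∈ Subgroup.zpowers z ⊔ Subgroup.zpowers w)
    (hgen : ∃ r ∈ R, r ^ p = v) (h : ∀ r ∈ R, ∃ i : ℕ, r ^ p = v ^ i) : ∀ r ∈ R, r ^ p = 1 := by
  have D := M.setup
  haveI := Fact.mk D.prime
  refine C.pow_of_mem_zpowers ?_
  obtain ⟨d, e, rfl⟩ := C.mem_W.1 hv
  have he0 : (e : ZMod p) = 0 := by
    obtain ⟨r₀, hr₀, hr₀v⟩ := hgen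
    obtain ⟨A, hA, hAz, hAw⟩ := C.exists_shear 1
    have hf := (mem_autGroup_iff M.hRS).1 (autInducedBy_le_autGroup F le_rfl M.hRS hA)
    obtain ⟨i, hi⟩ := h _ (autFn_mem A hr₀)
    rw [← C.map_pow' hf hr₀, hr₀v, autFn_apply A (C.W_le_R hv),
      show (⟨z ^ d * w ^ e, C.W_le_R hv⟩ : R) = ⟨z, M.zR⟩ ^ d * ⟨w, C.wR⟩ ^ e from rfl, map_mul,
      map_pow, map_pow, hAz, hAw, pow_one] at hi
    change z ^ d * (w * z) ^ e = (z ^ d * w ^ e) ^ i at hi
    rw [C.zw_comm.symm.mul_pow, (C.zw_comm.pow_pow e e).symm.eq, ← mul_assoc, ← pow_add,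
      (C.zw_comm.pow_pow d e).mul_pow, ← pow_mul, ← pow_mul] at hi
    obtain ⟨h1, h2⟩ := C.coord hi
    push_cast at h1 h2
    by_contra hne
    have hi1 : (i : ZMod p) = 1 := mul_left_cancel₀ hne (by rw [← h2, mul_one])
    rw [hi1, mul_one, add_eq_left] at h1
    exact hne h1
  intro r hr
  obtain ⟨i, hi⟩ := h r hr
  rw [hi, C.pow_mod (j := 0) (by rw [he0, Nat.cast_zero]), pow_zero, mul_one]
  exact pow_mem (pow_mem (Subgroup.mem_zpowers z) d) i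

theorem omega_Z_right {a v : Ω} (ha : a ∈ Q) (hv : v ∈ Subgroup.zpowers z) : omega p z a v = 0 :=
  (M.setup.omega_eq_zero ha (M.setup.Z_le hv)).2 (M.setup.zpow_comm (M.setup.hQS ha) hv)

theorem im1_pow {x : Ω} (hx : x ∈ S) {v : Ω} (hv : v ∈ im1 Q z x) : v ^ p = 1 := by
  have D := M.setup
  obtain ⟨q, hq, t, ht, rfl⟩ := (D.mem_im1 hx le_rfl).1 hv
  have hc : ⁅x, q⁆ ∈ Q := D.comm_S_mem hx (D.hQS hq)
  obtain ⟨i, rfl⟩ := D.exists_pow_eq ht
  have h0 : (z ^ i) ^ p = 1 := by rw [← pow_mul, mul_comm, pow_mul, D.z_pow, one_pow]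
  have h1 : (x * q * x⁻¹) ^ p = q ^ p := by
    rw [conj_pow, D.zpow_comm hx (D.pth_mem hq), mul_inv_cancel_right]
  rw [D.mul_pow_Q hc (D.Z_le ht), h0, mul_one, commutatorElement_def, D.mul_pow_Q (D.conj_Q hx hq) (inv_mem hq),
    h1, inv_pow, mul_inv_cancel]

/-- The one-block case. -/
theorem gData {x : Ω} (hx : x ∈ R) (hxQ : x ∉ Q) (hK : Nat.card (lev Q z x 1) = p ^ 2) :
    GData S p Q z := by
  have D := M.setup
  haveI := D.fin
  haveI := D.finQ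
  haveI := M.finR
  haveI := Fact.mk D.prime
  have hxS := M.hRS hx
  have hfl : ∀ i, Finite (lev Q z x i) := fun i => finite_of_le (S := S) (D.lev_le_S hxS i)
  have hWK : Subgroup.zpowers z ⊔ Subgroup.zpowers w = lev Q z x 1 := by
    haveI := hfl 1
    exact Subgroup.eq_of_le_of_card_ge (C.W_le_lev hx hxQ) (by rw [hK, C.card_W, pow_two])
  have hXR : im1 Q z x = R ⊓ Q := by
    refine eq_of_le_of_card (inf_le_left.trans M.hRS) (C.im1_le hx hxQ) (le_of_eq ?_)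
    have h := C.card_im1_Q hx hxQ
    rw [hK, show p ^ 6 = p ^ 4 * p ^ 2 by ring] at h
    rw [C.card_inf_eq, Nat.eq_of_mul_eq_mul_right (pow_pos D.prime.pos 2) h]
  have hup : ∀ i, Nat.card (lev Q z x (i + 1)) ≤ p * Nat.card (lev Q z x i) := by
    intro i
    haveI := hfl i
    have h := D.card_im1 hxS (D.lev_le_Q hxS (i + 1))
    rw [inf_eq_right.2 (D.lev_mono hxS (by omega : 1 ≤ i + 1)), hK] at h
    have hle : im1 (lev Q z x (i + 1)) z x ≤ lev Q z x i := by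
      intro v hv
      obtain ⟨a, ha, t, ht, rfl⟩ := (D.mem_im1 hxS (D.lev_le_Q hxS (i + 1))).1 hv
      exact mul_mem ((D.mem_lev_succ hxS i).1 ha).2 (D.Z_le_lev hxS i ht)
    have h2 := Nat.mul_le_mul_right (p ^ 2) (Subgroup.card_le_of_le hle)
    rw [h] at h2
    exact Nat.le_of_mul_le_mul_left (h2.trans_eq (by ring)) D.prime.pos
  have hlev : ∀ i ≤ 4, Nat.card (lev Q z x i) = p ^ (i + 1) := by
    intro i
    induction i with
    | zero => intro _; show Nat.card (Subgroup.zpowers z) = _; rw [D.card_Z, zero_add, pow_one]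
    | succ i ih =>
      intro hi
      have hI := ih (by omega)
      refine le_antisymm ((hup i).trans_eq (by rw [hI]; ring)) ?_
      have hlt : (lev Q z x i).subgroupOf S < (lev Q z x (i + 1)).subgroupOf S := by
        refine lt_of_le_of_ne (fun v hv => D.lev_le_succ hxS i hv) fun e => ?_
        have e' : lev Q z x i = lev Q z x (i + 1) := by
          rw [← Subgroup.map_subgroupOf_eq_of_le (D.lev_le_S hxS i), e,
            Subgroup.map_subgroupOf_eq_of_le (D.lev_le_S hxS (i + 1))]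
        have hconst : ∀ j, lev Q z x (i + j) = lev Q z x i := by
          intro j
          induction j with
          | zero => rfl
          | succ j ihj =>
            ext q
            rw [← add_assoc, D.mem_lev_succ hxS, ihj, ← D.mem_lev_succ hxS, ← e']
        have htop : lev Q z x i = Q := by
          refine le_antisymm (D.lev_le_Q hxS i) ?_
          rw [← hconst p]
          exact (D.lev_eq_top_of_pow_mem hxS).ge.trans (D.lev_mono hxS (by omega))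
        have h' := congrArg (fun H : Subgroup Ω => Nat.card H) htop
        simp only [hI, C.card_Q] at h'
        have := Nat.pow_right_injective D.prime.two_le h'
        omega
      have := PGroup.mul_card_le_of_lt D.hS hlt
      rw [Nat.card_congr (Subgroup.subgroupOfEquivOfLe (D.lev_le_S hxS i)).toEquiv, hI,
        Nat.card_congr (Subgroup.subgroupOfEquivOfLe (D.lev_le_S hxS (i + 1))).toEquiv] at this
      exact le_trans (le_of_eq (by ring)) this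
  have hp5 : 5 ≤ p := by
    by_contra hp
    have hp3 : p = 3 := by
      have h1 := D.prime.two_le
      have h2 := D.odd
      have : p ≠ 4 := fun e => by have := D.prime; rw [e] at this; exact absurd this (by decide)
      omega
    have h := hlev p (by omega)
    rw [D.lev_eq_top_of_pow_mem hxS, C.card_Q] at h
    have := Nat.pow_right_injective D.prime.two_le h
    omega
  have htop : lev Q z x 4 = Q := eq_of_le_of_card D.hQS (D.lev_le_Q hxS 4) (by rw [hlev 4 le_rfl, C.card_Q])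
  have hlev3 : lev Q z x 3 = R ⊓ Q := by
    haveI := hfl 3
    refine (Subgroup.eq_of_le_of_card_ge ?_ (by rw [hlev 3 (by omega), C.card_inf_eq])).symm
    rw [← hXR]
    intro v hv
    obtain ⟨a, ha, t, ht, rfl⟩ := (D.mem_im1 hxS le_rfl).1 hv
    exact mul_mem ((D.mem_lev_succ hxS 3).1 (htop.ge ha)).2 (D.Z_le_lev hxS 3 ht)
  have hXpow : ∀ v ∈ R ⊓ Q, v ^ p = 1 := fun v hv => C.im1_pow hxS (hXR.ge hv)
  have hxp : x ^ p ∈ Subgroup.zpowers z ⊔ Subgroup.zpowers w := by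
    rw [hWK]
    refine (D.mem_lev_succ hxS 0).2 ⟨?_, ?_⟩
    · haveI := D.normalQ
      have h := pow_card_eq_one' (x := ((⟨x, hxS⟩ : S) : S ⧸ Q.subgroupOf S))
      rw [← Subgroup.index_eq_card, D.index, ← QuotientGroup.mk_pow,
        QuotientGroup.eq_one_iff (N := Q.subgroupOf S)] at h
      exact h
    · rw [commutatorElement_eq_one_iff_commute.2 (Commute.self_pow x p)]
      exact one_mem _
  have hcen : ∀ v : R, (v : Ω) ∈ Subgroup.zpowers z ⊔ Subgroup.zpowers w → v ∈ Subgroup.center R :=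
    fun v hv => Subgroup.mem_center_iff.2 fun r => Subtype.ext (C.W_comm hv r.2)
  have hthree : ∀ a b c : R, ⁅a, ⁅b, c⁆⁆ ∈ Subgroup.center R := by
    intro a b c
    refine hcen _ ?_
    show ⁅(a : Ω), ⁅(b : Ω), (c : Ω)⁆⁆ ∈ _
    have h2 : ⁅(b : Ω), (c : Ω)⁆ ∈ lev Q z x 2 := by
      obtain ⟨q, hq, t, ht, e⟩ := (D.mem_im1 hxS inf_le_right).1 (C.comm_mem_im1 hx hxQ b.2 c.2)
      rw [e]
      exact mul_mem ((D.mem_lev_succ hxS 2).1 (hlev3.ge hq)).2 (D.Z_le_lev hxS 2 ht)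
    rw [hWK]
    have haS := M.hRS a.2
    by_cases haQ : (a : Ω) ∈ Q
    · exact D.Z_le_lev hxS 1 (D.comm_mem haQ (D.lev_le_Q hxS 2 h2))
    · exact (D.comm_lev_iff hxS hxQ haS haQ (D.lev_le_Q hxS 2 h2) 1).2 ((D.mem_lev_succ hxS 1).1 h2).2
  have hline : ∀ r ∈ R, ∃ i : ℕ, r ^ p = (x ^ p) ^ i := by
    intro r hr
    obtain ⟨i, q, hq, rfl⟩ := C.decomp hx hxQ hr
    refine ⟨i, ?_⟩
    have hqp : (⟨q, hq.1⟩ : R) ^ p = 1 := Subtype.ext (hXpow q hq)
    have hxi : ((⟨x, hx⟩ : R) ^ i) ^ p ∈ Subgroup.center R := by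
      rw [← pow_mul, mul_comm, pow_mul]
      exact pow_mem (hcen _ (by rw [SubmonoidClass.coe_pow]; exact hxp)) i
    have h := PGroup.mul_pow_classThree D.prime (by omega) hthree hxi (hqp ▸ one_mem _)
    rw [hqp, mul_one] at h
    have h' : (x ^ i * q) ^ p = (x ^ i) ^ p := congrArg Subtype.val h
    rw [h', ← pow_mul, ← pow_mul, mul_comm]
  have hR := C.pow_of_line hxp ⟨x, hx, rfl⟩ hline
  have hQp := C.pow_Q fun r hr => hR r hr.1
  obtain ⟨q₁, hq₁, hq₁R⟩ := C.exists_y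
  have h3 : ⁅x, q₁⁆ ∈ lev Q z x 3 := ((D.mem_lev_succ hxS 3).1 (htop.ge hq₁)).2
  have h2 : ⁅x, ⁅x, q₁⁆⁆ ∈ lev Q z x 2 := ((D.mem_lev_succ hxS 2).1 h3).2
  have h1 : ⁅x, ⁅x, ⁅x, q₁⁆⁆⁆ ∈ lev Q z x 1 := ((D.mem_lev_succ hxS 1).1 h2).2
  have h1n : ⁅x, ⁅x, ⁅x, q₁⁆⁆⁆ ∉ lev Q z x 0 := by
    intro h
    have a1 : ⁅x, ⁅x, q₁⁆⁆ ∈ lev Q z x 1 := (D.mem_lev_succ hxS 0).2 ⟨D.lev_le_Q hxS 2 h2, h⟩
    have a2 : ⁅x, q₁⁆ ∈ lev Q z x 2 := (D.mem_lev_succ hxS 1).2 ⟨D.lev_le_Q hxS 3 h3, a1⟩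
    exact hq₁R (hlev3.le ((D.mem_lev_succ hxS 2).2 ⟨hq₁, a2⟩)).1
  have hW := hWK.ge h1
  refine ⟨hp5, x, q₁, ⟨C.card_Q, hQp, hxS, hxQ, hR x hx⟩, hq₁,
    commutatorElement_eq_one_iff_mul_comm.2 (C.W_comm hW hx), fun h0 => ?_⟩
  obtain ⟨i, j, hij⟩ := C.mem_W.1 hW
  rw [hij, D.omega_mul_right hq₁ (pow_mem D.z_mem i) (pow_mem C.mem j),
    C.omega_Z_right hq₁ (pow_mem (Subgroup.mem_zpowers z) i), zero_add, D.omega_pow_right hq₁ C.mem,
    mul_eq_zero] at h0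
  rcases h0 with hj | hqw
  · refine h1n ?_
    rw [hij, C.pow_mod (j := 0) (by rw [hj, Nat.cast_zero]), pow_zero, mul_one]
    exact pow_mem (Subgroup.mem_zpowers z) i
  · exact hq₁R (C.mem_inf.2 ⟨hq₁, (D.omega_eq_zero hq₁ C.mem).1 hqw⟩).1

/-- The two-block case. -/
theorem lData {x₀ : Ω} (hx₀ : x₀ ∈ R) (hx₀Q : x₀ ∉ Q) (hK₀ : Nat.card (lev Q z x₀ 1) = p ^ 3) :
    LData S p Q z := by
  have D := M.setup
  haveI := D.fin
  haveI := D.finQ
  haveI := M.finR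
  haveI := Fact.mk D.prime
  have hx₀S := M.hRS hx₀
  set K := lev Q z x₀ 1 with hKdef
  have hKR : K ≤ R ⊓ Q := C.lev_one_le hx₀ hx₀Q
  haveI hKfin : Finite K := finite_of_le (S := S) (D.lev_le_S hx₀S 1)
  have hWK : Subgroup.zpowers z ⊔ Subgroup.zpowers w ≤ K := C.W_le_lev hx₀ hx₀Q
  -- a subgroup of `K` above `⟨z, w⟩` and one more element is everything
  have hfull : ∀ H : Subgroup Ω, (∀ v ∈ Subgroup.zpowers z ⊔ Subgroup.zpowers w, v ∈ H) →
      ∀ k ∈ K, k ∈ H → k ∉ Subgroup.zpowers z ⊔ Subgroup.zpowers w → K ≤ H := by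
    intro H hH k hk hkH hkW
    haveI := finite_of_le (S := S) ((inf_le_left : K ⊓ H ≤ K).trans (D.lev_le_S hx₀S 1))
    have h1 : (Subgroup.zpowers z ⊔ Subgroup.zpowers w).subgroupOf S < (K ⊓ H).subgroupOf S := by
      refine lt_of_le_of_ne (fun v hv => ⟨hWK hv, hH _ hv⟩) fun e => hkW ?_
      have h : (⟨k, D.lev_le_S hx₀S 1 hk⟩ : S) ∈ (Subgroup.zpowers z ⊔ Subgroup.zpowers w).subgroupOf S := by
        rw [e]; exact ⟨hk, hkH⟩
      exact h
    have h2 := PGroup.mul_card_le_of_lt D.hS h1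
    rw [Nat.card_congr (Subgroup.subgroupOfEquivOfLe (C.W_le_R.trans M.hRS)).toEquiv, C.card_W,
      Nat.card_congr (Subgroup.subgroupOfEquivOfLe (inf_le_left.trans (D.lev_le_S hx₀S 1))).toEquiv] at h2
    have h3 : K ⊓ H = K := Subgroup.eq_of_le_of_card_ge inf_le_left (by
      rw [hK₀]; exact le_trans (le_of_eq (by ring)) h2)
    exact inf_eq_left.1 h3
  have hKab : ∀ a ∈ K, ∀ b ∈ K, a * b = b * a := by
    intro a ha b hb
    by_cases haW : a ∈ Subgroup.zpowers z ⊔ Subgroup.zpowers w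
    · exact (C.W_comm haW (hKR hb).1).symm
    · have h := hfull (Subgroup.centralizer {a}) (fun v hv => Subgroup.mem_centralizer_singleton_iff.2
        (C.W_comm hv (hKR ha).1).symm) a ha (Subgroup.mem_centralizer_singleton_iff.2 rfl) haW hb
      exact (Subgroup.mem_centralizer_singleton_iff.1 h).symm
  obtain ⟨k, hk, hkW⟩ : ∃ k ∈ K, k ∉ Subgroup.zpowers z ⊔ Subgroup.zpowers w := by
    by_contra hc
    push Not at hc
    haveI := finite_of_le (S := S) (C.W_le_R.trans M.hRS)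
    have h := Subgroup.card_le_of_le (show K ≤ Subgroup.zpowers z ⊔ Subgroup.zpowers w from hc)
    rw [hK₀, C.card_W] at h
    nlinarith [D.prime.two_le, sq_nonneg p]
  have hkQ : k ∈ Q := (hKR hk).2
  -- move `x₀` to centralize `K`
  obtain ⟨a, ha, hak⟩ : ∃ a ∈ R ⊓ Q, omega p z a k ≠ 0 := by
    by_contra hc
    push Not at hc
    exact hkW (C.centralizer_inf hkQ fun r hr => (D.omega_eq_zero hr.2 hkQ).1 (hc r hr))
  obtain ⟨c, hc⟩ := D.exists_pow_eq ((D.mem_lev_succ hx₀S 0).1 hk).2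
  set t := (-(c : ZMod p) / omega p z a k).val
  set x := a ^ t * x₀
  have hat : a ^ t ∈ R ⊓ Q := pow_mem ha t
  have hx : x ∈ R := mul_mem hat.1 hx₀
  have hxS := M.hRS hx
  have hxQ : x ∉ Q := fun h => hx₀Q (by
    have := Q.mul_mem (Q.inv_mem hat.2) h
    rwa [inv_mul_cancel_left] at this)
  have hKx : lev Q z x 1 = K := D.lev_one_congr hxS hxQ hx₀S hx₀Q ▸ rfl
  have hxk : x * k = k * x := by
    rw [← commutatorElement_eq_one_iff_mul_comm,
      D.comm_mul_left (D.hQS hat.2) (hc ▸ pow_mem (Subgroup.mem_zpowers z) c)]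
    have hm1 : ⁅x₀, k⁆ ∈ Subgroup.zpowers z := hc ▸ pow_mem (Subgroup.mem_zpowers z) c
    have hm2 : ⁅a ^ t, k⁆ ∈ Subgroup.zpowers z := D.comm_mem hat.2 hkQ
    refine (D.zlog_eq_zero (mul_mem hm1 hm2)).1 ?_
    rw [D.zlog_mul hm1 hm2, ← hc, ← zpow_natCast, D.zlog_zpow, Int.cast_natCast]
    show (c : ZMod p) + omega p z (a ^ t) k = 0
    rw [D.omega_pow_left ha.2 hkQ, ZMod.natCast_zmod_val, div_mul_cancel₀ _ hak, add_neg_cancel]
  have hxK : ∀ v ∈ K, x * v = v * x := fun v hv =>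
    (Subgroup.mem_centralizer_singleton_iff.1 (hfull (Subgroup.centralizer {x})
      (fun v' hv' => Subgroup.mem_centralizer_singleton_iff.2 (C.W_comm hv' hx).symm) k hk
      (Subgroup.mem_centralizer_singleton_iff.2 hxk.symm) hkW hv)).symm
  have hKX : im1 Q z x = K := by
    haveI := finite_of_le (S := S) ((D.im1_le_Q hxS (le_refl Q)).trans D.hQS)
    refine (Subgroup.eq_of_le_of_card_ge ?_ (le_of_eq ?_)).symm
    · rw [D.im1_eq_centralizer hxS, hKx]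
      exact fun v hv => ⟨(hKR hv).2, Subgroup.mem_centralizer_iff.2 fun b hb => hKab b hb v hv⟩
    · have h := C.card_im1_Q hx hxQ
      rw [hKx, hK₀, show p ^ 6 = p ^ 3 * p ^ 3 by ring] at h
      rw [hK₀]; exact Nat.eq_of_mul_eq_mul_right (pow_pos D.prime.pos 3) h
  have hX0 : im1 (R ⊓ Q) z x = Subgroup.zpowers z ⊔ Subgroup.zpowers w := by
    haveI := finite_of_le (S := S) ((D.im1_le_Q hxS (inf_le_right : R ⊓ Q ≤ Q)).trans D.hQS)
    refine (Subgroup.eq_of_le_of_card_ge (C.W_le_im1 hx hxQ) (le_of_eq ?_)).symm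
    have h := C.card_im1_inf hx hxQ
    rw [hKx, hK₀, show p ^ 5 = p ^ 2 * p ^ 3 by ring] at h
    rw [C.card_W, ← pow_two]; exact Nat.eq_of_mul_eq_mul_right (pow_pos D.prime.pos 3) h
  have hcen : ∀ v : R, (v : Ω) ∈ Subgroup.zpowers z ⊔ Subgroup.zpowers w → v ∈ Subgroup.center R :=
    fun v hv => Subgroup.mem_center_iff.2 fun r => Subtype.ext (C.W_comm hv r.2)
  have htwo : ∀ a b : R, ⁅a, b⁆ ∈ Subgroup.center R := fun a b =>
    hcen _ (hX0.le (C.comm_mem_im1 hx hxQ a.2 b.2))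
  have hKpow : ∀ v ∈ K, v ^ p = 1 := fun v hv => C.im1_pow hxS (hKX.ge hv)
  obtain ⟨m, hm, v₀, hv₀, hwm⟩ := (D.mem_im1 hxS inf_le_right).1 (C.w_mem_im1 hx hxQ)
  obtain ⟨a₀, ha₀⟩ := D.exists_pow_eq (inv_mem hv₀)
  have hxm : ⁅x, m⁆ = z ^ a₀ * w := by
    rw [ha₀, hwm, ← D.zpow_comm (D.hQS (mul_mem (D.comm_S_mem hxS (D.hQS hm.2)) (D.Z_le hv₀))) (inv_mem hv₀),
      mul_inv_cancel_right]
  -- commutators with `x` on `R ∩ Q`
  have hxpow : ∀ j : ℕ, ⁅x, m ^ j⁆ = z ^ (a₀ * j) * w ^ j := by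
    intro j
    have h : ⁅(⟨x, hx⟩ : R), (⟨m, hm.1⟩ : R) ^ j⁆ = ⁅(⟨x, hx⟩ : R), (⟨m, hm.1⟩ : R)⁆ ^ j :=
      comm_pow_right (htwo _ _) j
    have h' : ⁅x, m ^ j⁆ = ⁅x, m⁆ ^ j := congrArg Subtype.val h
    rw [h', hxm, (C.zw_comm.pow_left a₀).mul_pow, ← pow_mul]
  have hxmk : ∀ j : ℕ, ∀ v ∈ K, ⁅x, m ^ j * v⁆ = z ^ (a₀ * j) * w ^ j := by
    intro j v hv
    have e : ⁅x, m ^ j * v⁆ = ⁅x, m ^ j⁆ * (m ^ j * ⁅x, v⁆ * (m ^ j)⁻¹) := by
      simp only [commutatorElement_def]; group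
    rw [e, commutatorElement_eq_one_iff_mul_comm.2 (hxK v hv), mul_one, mul_inv_cancel, mul_one, hxpow]
  have hsplit : ∀ q ∈ R ⊓ Q, ∃ j : ℕ, ∃ v ∈ K, q = m ^ j * v := by
    intro q hq
    obtain ⟨i, j, hij⟩ := C.mem_W.1 (hX0.le ((D.mem_im1 hxS inf_le_right).2 ⟨q, hq, 1, one_mem _, (mul_one _).symm⟩))
    refine ⟨j, (m ^ j)⁻¹ * q, ?_, by rw [mul_inv_cancel_left]⟩
    rw [← hKx, D.mem_lev_succ hxS 0]
    refine ⟨mul_mem (inv_mem (pow_mem hm.2 j)) hq.2, ?_⟩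
    have e : ⁅x, (m ^ j)⁻¹ * q⁆ = (m ^ j)⁻¹ * (⁅x, m ^ j⁆⁻¹ * ⁅x, q⁆) * m ^ j := by
      simp only [commutatorElement_def]; group
    have h1 : ⁅x, m ^ j⁆⁻¹ * ⁅x, q⁆ ∈ Subgroup.zpowers z := by
      rw [hxpow, hij]
      have e1 : (z ^ (a₀ * j) * w ^ j)⁻¹ * (z ^ i * w ^ j) =
          (w ^ j)⁻¹ * ((z ^ (a₀ * j))⁻¹ * z ^ i) * (w ^ j)⁻¹⁻¹ := by group
      rw [e1]
      exact D.conj_mem_zpowers (inv_mem (pow_mem C.wS j))
        (mul_mem (inv_mem (pow_mem (Subgroup.mem_zpowers z) _)) (pow_mem (Subgroup.mem_zpowers z) _))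
    rw [e]
    show _ ∈ Subgroup.zpowers z
    simpa using D.conj_mem_zpowers (inv_mem (D.hQS (pow_mem hm.2 j))) h1
  -- exponent
  have hxpQ : x ^ p ∈ Q := by
    haveI := D.normalQ
    have h := pow_card_eq_one' (x := ((⟨x, hxS⟩ : S) : S ⧸ Q.subgroupOf S))
    rw [← Subgroup.index_eq_card, D.index, ← QuotientGroup.mk_pow,
      QuotientGroup.eq_one_iff (N := Q.subgroupOf S)] at h
    exact h
  have hzpc : ∀ v : R, (v : Ω) ∈ Subgroup.zpowers z → v ∈ Subgroup.center R :=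
    fun v hv => hcen v (Subgroup.mem_sup_left hv)
  have hxp : x ^ p ∈ Subgroup.zpowers z ⊔ Subgroup.zpowers w := by
    refine C.central_mem hx hxQ (pow_mem hx p) fun r hr => ?_
    rw [← commutatorElement_eq_one_iff_mul_comm]
    have h : ⁅(⟨r, hr⟩ : R), (⟨x, hx⟩ : R) ^ p⁆ = ⁅(⟨r, hr⟩ : R), (⟨x, hx⟩ : R)⁆ ^ p :=
      comm_pow_right (htwo _ _) p
    have h' : ⁅r, x ^ p⁆ = ⁅r, x⁆ ^ p := congrArg Subtype.val h
    have h2 : ⁅r, x⁆ ∈ Subgroup.zpowers z ⊔ Subgroup.zpowers w := hX0.le (C.comm_mem_im1 hx hxQ hr hx)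
    rw [h']
    exact hKpow _ (hWK h2)
  have hqpow : ∀ j : ℕ, ∀ v ∈ K, (m ^ j * v) ^ p = (m ^ p) ^ j := by
    intro j v hv
    rw [D.mul_pow_Q (pow_mem hm.2 j) (hKR hv).2, hKpow v hv, mul_one, ← pow_mul, ← pow_mul, mul_comm]
  have hrpow : ∀ i : ℕ, ∀ q ∈ R ⊓ Q, (x ^ i * q) ^ p = (x ^ p) ^ i * q ^ p := by
    intro i q hq
    have h := PGroup.mul_pow_classTwo D.prime D.odd htwo (x := (⟨x, hx⟩ : R) ^ i) (y := ⟨q, hq.1⟩)
      (hzpc _ (by rw [SubmonoidClass.coe_pow]; exact D.pth_mem hq.2))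
    have h' : (x ^ i * q) ^ p = (x ^ i) ^ p * q ^ p := congrArg Subtype.val h
    rw [h', ← pow_mul, ← pow_mul, mul_comm p i]
  obtain ⟨d, e, hde⟩ := C.mem_W.1 hxp
  obtain ⟨c', hc'⟩ := D.exists_pow_eq (D.pth_mem hm.2)
  have himg : ∀ r ∈ R, ∃ i j : ℕ, ∃ q ∈ K, r = x ^ i * (m ^ j * q) ∧ r ^ p = (x ^ p) ^ i * (m ^ p) ^ j := by
    intro r hr
    obtain ⟨i, q, hq, rfl⟩ := C.decomp hx hxQ hr
    obtain ⟨j, v, hv, rfl⟩ := hsplit q hq
    exact ⟨i, j, v, hv, rfl, by rw [hrpow i _ hq, hqpow j v hv]⟩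
  have hR : ∀ r ∈ R, r ^ p = 1 := by
    by_cases he0 : (e : ZMod p) = 0
    · refine C.pow_of_mem_zpowers fun r hr => ?_
      obtain ⟨i, j, q, -, -, h⟩ := himg r hr
      rw [h, ← hc', hde, C.pow_mod (j := 0) (by rw [he0, Nat.cast_zero]), pow_zero, mul_one]
      exact mul_mem (pow_mem (pow_mem (Subgroup.mem_zpowers z) d) i) (pow_mem (pow_mem (Subgroup.mem_zpowers z) c') j)
    by_cases hc0 : (c' : ZMod p) = 0
    · refine C.pow_of_line hxp ⟨x, hx, rfl⟩ fun r hr => ?_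
      obtain ⟨i, j, q, -, -, h⟩ := himg r hr
      refine ⟨i, ?_⟩
      rw [h, ← hc', C.zpow_mod (j := 0) (by rw [hc0, Nat.cast_zero]), pow_zero, one_pow, mul_one]
    exfalso
    obtain ⟨f, hf, hfz, hfw, hfR, hfQ⟩ := C.exists_invert
    obtain ⟨i, q, hq, hfx⟩ := C.decomp hx hxQ (hfR x hx)
    obtain ⟨j, v, hv, rfl⟩ := hsplit q hq
    obtain ⟨j', v', hv', hfm⟩ := hsplit (f m) ⟨hfR m hm.1, hfQ m hm.2⟩
    have hzS : z ∈ S := D.z_memS
    -- `f` on the powers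
    have e1 : z ^ (d * i + c' * j + d) * w ^ (e * i + e) = 1 := by
      have h1 := C.map_pow' hf hxS p
      rw [hfx, hrpow i _ hq, hqpow j v hv, hde, hf.map_mul (pow_mem hzS d) (pow_mem C.wS e),
        C.map_pow' hf hzS, C.map_pow' hf C.wS, hfz, hfw, ← hc', (C.zw_comm.pow_pow d e).mul_pow,
        ← pow_mul, ← pow_mul, ← pow_mul, mul_assoc, (C.zw_comm.pow_pow (c' * j) (e * i)).symm.eq,
        ← mul_assoc, ← pow_add] at h1
      rw [pow_add (z) _ d, pow_add w, (C.zw_comm.pow_pow d (e * i)).mul_mul_mul_comm, ← h1, inv_pow, inv_pow,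
        ← mul_inv_rev, (C.zw_comm.pow_pow d e).eq, inv_mul_cancel]
    obtain ⟨h1, h2⟩ := C.coord_one e1
    have e2 : z ^ (c' * j' + c') * w ^ 0 = 1 := by
      have h1 := C.map_pow' hf (D.hQS hm.2) p
      rw [hfm, hqpow j' v' hv', ← hc', C.map_pow' hf hzS, hfz, inv_pow, ← pow_mul] at h1
      rw [pow_zero, mul_one, pow_add, ← h1, inv_mul_cancel]
    have h3 := (C.coord_one e2).1
    push_cast at h1 h2 h3
    have hi : (i : ZMod p) = -1 := mul_left_cancel₀ he0 (by linear_combination h2)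
    have hj' : (j' : ZMod p) = -1 := mul_left_cancel₀ hc0 (by linear_combination h3)
    -- `f` on the commutator
    have hxmS : ⁅x, m⁆ = x * m * x⁻¹ * m⁻¹ := commutatorElement_def x m
    have e3 : f ⁅x, m⁆ = ⁅f x, f m⁆ := by
      rw [hxmS, commutatorElement_def, hf.map_mul (mul_mem (mul_mem hxS (D.hQS hm.2)) (inv_mem hxS))
        (inv_mem (D.hQS hm.2)), hf.map_conj hxS (D.hQS hm.2), hf.map_inv (D.hQS hm.2)]
    rw [hxm, hf.map_mul (pow_mem hzS a₀) C.wS, C.map_pow' hf hzS, hfz, hfw, hfx, hfm] at e3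
    have hq' : m ^ j' * v' ∈ R ⊓ Q := ⟨R.mul_mem (R.pow_mem hm.1 j') (hKR hv').1,
      Q.mul_mem (Q.pow_mem hm.2 j') (hKR hv').2⟩
    obtain ⟨s', hs'⟩ := D.exists_pow_eq (D.comm_mem hq.2 hq'.2)
    have e4 : ⁅x ^ i * (m ^ j * v), m ^ j' * v'⁆ = z ^ (s' + a₀ * j' * i) * w ^ (j' * i) := by
      have h : ⁅(⟨x, hx⟩ : R) ^ i, (⟨_, hq'.1⟩ : R)⁆ = ⁅(⟨x, hx⟩ : R), (⟨_, hq'.1⟩ : R)⁆ ^ i :=
        comm_pow_left (htwo _ _) i
      have h' : ⁅x ^ i, m ^ j' * v'⁆ = ⁅x, m ^ j' * v'⁆ ^ i := congrArg Subtype.val h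
      have e5 : ⁅x ^ i * (m ^ j * v), m ^ j' * v'⁆ =
          x ^ i * ⁅m ^ j * v, m ^ j' * v'⁆ * (x ^ i)⁻¹ * ⁅x ^ i, m ^ j' * v'⁆ := by
        simp only [commutatorElement_def]; group
      rw [e5, ← hs', h', hxmk j' v' hv', D.zpow_comm (pow_mem hxS i) (pow_mem (Subgroup.mem_zpowers z) s'),
        mul_inv_cancel_right, (C.zw_comm.pow_pow _ _).mul_pow, ← pow_mul, ← pow_mul, ← mul_assoc, ← pow_add]
    rw [e4, inv_pow, ← mul_inv_rev, inv_eq_iff_mul_eq_one] at e3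
    have e6 : z ^ (a₀ + (s' + a₀ * j' * i)) * w ^ (1 + j' * i) = 1 := by
      rw [pow_add z a₀, pow_add w, pow_one, ← (C.zw_comm.symm.pow_right (s' + a₀ * j' * i)).mul_mul_mul_comm,
        ← e3, C.zw_comm.pow_left a₀ |>.eq]
    obtain ⟨-, h5⟩ := C.coord_one e6
    push_cast at h5
    rw [hi, hj', neg_mul_neg, one_mul] at h5
    have := (ZMod.natCast_eq_zero_iff 2 p).1 (by exact_mod_cast (show (2 : ZMod p) = 0 by linear_combination h5))
    exact D.odd ((Nat.prime_dvd_prime_iff_eq D.prime Nat.prime_two).1 this)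
  have hQp := C.pow_Q fun r hr => hR r hr.1
  -- the bilinear form
  have hcQ : ∀ {q : Ω}, q ∈ Q → ⁅x, q⁆ ∈ Q := fun hq => D.comm_S_mem hxS (D.hQS hq)
  have hcK : ∀ {q : Ω}, q ∈ Q → ⁅x, q⁆ ∈ K := fun {q} hq =>
    hKX.le ((D.mem_im1 hxS le_rfl).2 ⟨q, hq, 1, one_mem _, (mul_one _).symm⟩)
  have hadd : ∀ {a b b' : Ω}, a ∈ Q → b ∈ Q → b' ∈ Q →
      omega p z a ⁅x, b * b'⁆ = omega p z a ⁅x, b⁆ + omega p z a ⁅x, b'⁆ := by
    intro a b b' ha hb hb'
    have e1 : ⁅x, b * b'⁆ = ⁅x, b⁆ * (⁅b, ⁅x, b'⁆⁆ * ⁅x, b'⁆) := by simp only [commutatorElement_def]; group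
    rw [e1, D.omega_mul_right ha (hcQ hb) (Q.mul_mem (D.Z_le (D.comm_mem hb (hcQ hb'))) (hcQ hb')),
      D.omega_mul_right ha (D.Z_le (D.comm_mem hb (hcQ hb'))) (hcQ hb'),
      C.omega_Z_right ha (D.comm_mem hb (hcQ hb')), zero_add]
  have hsym : ∀ {a b : Ω}, a ∈ Q → b ∈ Q → omega p z a ⁅x, b⁆ = omega p z b ⁅x, a⁆ := by
    intro a b ha hb
    have h := D.omega_conj hxS ha hb
    have hea : x * a * x⁻¹ = ⁅x, a⁆ * a := by rw [commutatorElement_def, inv_mul_cancel_right]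
    have heb : x * b * x⁻¹ = ⁅x, b⁆ * b := by rw [commutatorElement_def, inv_mul_cancel_right]
    rw [hea, heb, D.omega_mul_left (hcQ ha) ha (Q.mul_mem (hcQ hb) hb), D.omega_mul_right (hcQ ha) (hcQ hb) hb,
      D.omega_mul_right ha (hcQ hb) hb,
      (D.omega_eq_zero (hcQ ha) (hcQ hb)).2 (hKab _ (hcK ha) _ (hcK hb)), D.omega_swap hb (hcQ ha)] at h
    linear_combination h
  obtain ⟨y, hy, hyR⟩ := C.exists_y
  set β := omega p z y w
  have hβ : β ≠ 0 := fun h0 => hyR (C.mem_inf.2 ⟨hy, (D.omega_eq_zero hy C.mem).1 h0⟩).1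
  have hym : omega p z y ⁅x, m⁆ = β := by
    rw [hxm, D.omega_mul_right hy (pow_mem D.z_mem a₀) C.mem,
      C.omega_Z_right hy (pow_mem (Subgroup.mem_zpowers z) a₀), zero_add]
  have hmm : ∀ r ∈ R ⊓ Q, omega p z r ⁅x, m⁆ = 0 := fun r hr => by
    refine (D.omega_eq_zero hr.2 (hcQ hm.2)).2 ?_
    exact C.W_comm (hX0.le ((D.mem_im1 hxS inf_le_right).2 ⟨m, hm, 1, one_mem _, (mul_one _).symm⟩)) hr.1
  have h2 : (2 : ZMod p) ≠ 0 := fun h0 => D.odd ((Nat.prime_dvd_prime_iff_eq D.prime Nat.prime_two).1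
    ((ZMod.natCast_eq_zero_iff 2 p).1 (by exact_mod_cast h0)))
  set n := (-(omega p z y ⁅x, y⁆) / (2 * β)).val
  have hn : (n : ZMod p) * (2 * β) = -(omega p z y ⁅x, y⁆) := by
    rw [ZMod.natCast_zmod_val, div_mul_cancel₀ _ (mul_ne_zero h2 hβ)]
  have hxmn : ∀ a ∈ Q, omega p z a ⁅x, m ^ n⁆ = (n : ZMod p) * omega p z a ⁅x, m⁆ := by
    intro a ha
    rw [hxpow, hxm, D.omega_mul_right ha (pow_mem D.z_mem _) (pow_mem C.mem n),
      D.omega_mul_right ha (pow_mem D.z_mem _) C.mem, C.omega_Z_right ha (pow_mem (Subgroup.mem_zpowers z) _),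
      C.omega_Z_right ha (pow_mem (Subgroup.mem_zpowers z) _), zero_add, zero_add, D.omega_pow_right ha C.mem]
  set q₂ := y * m ^ n
  have hmn : m ^ n ∈ Q := pow_mem hm.2 n
  have hq₂ : q₂ ∈ Q := mul_mem hy hmn
  have hmy : omega p z m ⁅x, q₂⁆ = β := by
    rw [hadd hm.2 hy hmn, hxmn m hm.2, hmm m hm, mul_zero, add_zero, hsym hm.2 hy, hym]
  have hqq : omega p z q₂ ⁅x, q₂⁆ = 0 := by
    rw [D.omega_mul_left hy hmn (hcQ hq₂), D.omega_pow_left hm.2 (hcQ hq₂), hmy, hadd hy hy hmn, hxmn y hy, hym]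
    linear_combination hn
  have hwq : omega p z w q₂ = -β := by
    rw [D.omega_mul_right C.mem hy hmn, D.omega_swap hy C.mem,
      (D.omega_eq_zero C.mem hmn).2 (M.moved_comm C.moved (pow_mem hm.1 n)).symm, add_zero]
  set k₁ := (omega p z m q₂ / β).val
  have hk₁ : (k₁ : ZMod p) * β = omega p z m q₂ := by
    rw [ZMod.natCast_zmod_val, div_mul_cancel₀ _ hβ]
  set q₁ := m * w ^ k₁
  have hwk : w ^ k₁ ∈ K := pow_mem (hWK (Subgroup.mem_sup_right (Subgroup.mem_zpowers w))) k₁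
  have hq₁ : q₁ ∈ R ⊓ Q := ⟨R.mul_mem hm.1 (hKR hwk).1, Q.mul_mem hm.2 (hKR hwk).2⟩
  have hxq₁ : ⁅x, q₁⁆ = ⁅x, m⁆ := by
    have h := hxmk 1 (w ^ k₁) hwk
    rw [pow_one] at h
    rw [h, hxm, mul_one, pow_one]
  have hbase : Base S p Q x := ⟨C.card_Q, hQp, hxS, hxQ, hR x hx⟩
  refine ⟨x, q₁, q₂, hbase, hq₁.2, hq₂, ?_, commutatorElement_eq_one_iff_mul_comm.2 (hxK _ (hcK hq₁.2)),
    commutatorElement_eq_one_iff_mul_comm.2 (hxK _ (hcK hq₂)), ?_, hqq, ?_⟩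
  · refine (D.omega_eq_zero hq₁.2 hq₂).1 ?_
    rw [D.omega_mul_left hm.2 (hKR hwk).2 hq₂, D.omega_pow_left C.mem hq₂, hwq]
    linear_combination -hk₁
  · rw [hxq₁]; exact hmm q₁ hq₁
  · rw [D.omega_mul_left hm.2 (hKR hwk).2 (hcQ hq₂), hmy, (D.omega_eq_zero (hKR hwk).2 (hcQ hq₂)).2
      (hKab _ hwk _ (hcK hq₂)), add_zero]
    exact hβ

end InQ

/-- A moved point inside `Q` yields the data of a one-block or of a hyperbolic two-block frame. -/
theorem Mover.caseOne (M : Mover F p Q z R) {w : Ω} (hw : M.Moved w) (hwQ : w ∈ Q) :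
    GData S p Q z ∨ LData S p Q z := by
  have C : InQ M w := ⟨hw, hwQ⟩
  obtain ⟨x, hx, hxQ⟩ := C.exists_x
  rcases C.card_lev_one hx hxQ with h | h
  · exact Or.inl (C.gData hx hxQ h)
  · exact Or.inr (C.lData hx hxQ h)

end Cfsg.Agent.ExtraspecialIndexP
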