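import Cfsg.Agent.Lib.ExtraspecialIndexP.Levels

/-
The case where every moved point lies outside `Q`.
Main results (namespace `Cfsg.Agent.ExtraspecialIndexP.Mover`): `AllOut`, `out_decomp`, `out_abelian`, `out_pow`,
`mem_inf_iff` : `R ∩ Q` is the centralizer of a moved point in `Q`.
-/

set_option autoImplicit false

universe u

namespace Cfsg.Agent.ExtraspecialIndexP

open Cfsg Cfsg.FusionSystem Cfsg.Agent.Fusion
open scoped commutatorElement

variable {Ω : Type u} [Group Ω] {S : Subgroup Ω} {p : ℕ} {F : FusionSystem S} {Q : Subgroup Ω} {z : Ω}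
variable {R : Subgroup Ω}

namespace Setup

variable (D : Setup F p Q z)
include D

theorem card_le_mul_inf {H : Subgroup Ω} (hH : H ≤ S) :
    Nat.card H ≤ p * Nat.card (H ⊓ Q : Subgroup Ω) := by
  haveI := D.fin
  haveI := Fact.mk D.prime
  have h1 := Subgroup.card_mul_index ((H ⊓ Q).subgroupOf H)
  rw [Nat.card_congr (Subgroup.subgroupOfEquivOfLe inf_le_left).toEquiv] at h1
  rw [← h1, mul_comm]
  refine Nat.mul_le_mul_right _ ?_
  have h2 : ((H ⊓ Q).subgroupOf H).index = Q.relIndex H := Subgroup.inf_relIndex_left H Q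
  have h3 : Q.relIndex H ≤ Q.relIndex S := Subgroup.relIndex_le_of_le_right hH
    (by rw [Subgroup.relIndex, D.index]; exact D.prime.ne_zero)
  rw [h2]
  exact h3.trans (le_of_eq D.index)

/-- A multiple of the exponent reaching a prescribed residue. -/
theorem exists_mul_eq {i : ℤ} (hi : (i : ZMod p) ≠ 0) (j : ℤ) : ∃ k : ℕ, ((k * i : ℤ) : ZMod p) = j := by
  haveI := Fact.mk D.prime
  refine ⟨((j : ZMod p) * (i : ZMod p)⁻¹).val, ?_⟩
  rw [Int.cast_mul, Int.cast_natCast, ZMod.natCast_zmod_val, mul_assoc, inv_mul_cancel₀ hi, mul_one]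

end Setup

namespace Mover

/-- All moved points lie outside `Q`. -/
def AllOut (M : Mover F p Q z R) : Prop := ∀ w, M.Moved w → w ∉ Q

variable (M : Mover F p Q z R) (hout : M.AllOut)
include M hout

theorem moved_zpow_mem_Q {x : Ω} (hx : M.Moved x) {k : ℤ} (hk : x ^ k ∈ Q) : (k : ZMod p) = 0 := by
  by_contra h
  obtain ⟨j, hj⟩ := M.setup.exists_mul_eq h 1
  refine hout x hx ?_
  have hxo : orderOf x = p := haveI := Fact.mk M.setup.prime; orderOf_eq_prime (M.moved_pow hx)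
    fun e => hx.2 (e ▸ one_mem _)
  have e : x ^ ((j : ℤ) * k) = x := by
    conv_rhs => rw [← zpow_one x]
    rw [zpow_eq_zpow_iff_modEq, hxo, ← ZMod.intCast_eq_intCast_iff, hj]
  rw [← e, mul_comm, zpow_mul]
  exact zpow_mem hk _

theorem out_decomp {x : Ω} (hx : M.Moved x) {r : Ω} (hr : r ∈ R) :
    ∃ k : ℤ, ∃ q ∈ Q, q ∈ R ∧ q * x = x * q ∧ r = x ^ k * q := by
  have hxR := M.moved_mem hx
  obtain ⟨k, q, hq, e⟩ := M.setup.exists_decomp (M.hRS hxR) (hout x hx) (M.hRS hr)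
  have hqR : q ∈ R := by
    have := mul_mem (inv_mem (zpow_mem hxR k)) hr
    rwa [e, inv_mul_cancel_left] at this
  exact ⟨k, q, hq, hqR, M.moved_comm hx hqR, e⟩

theorem out_comm_mem : ∀ a ∈ R, ∀ b ∈ R, ⁅a, b⁆ ∈ Subgroup.zpowers z := by
  intro a ha b hb
  obtain ⟨x, hx⟩ := M.exists_moved
  obtain ⟨i, q, hq, hqR, hqx, rfl⟩ := M.out_decomp hout hx ha
  obtain ⟨j, q', hq', hq'R, hq'x, rfl⟩ := M.out_decomp hout hx hb
  have e1 : Commute q (x ^ j) := (show Commute q x from hqx).zpow_right j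
  have e2 : Commute q' (x ^ i) := (show Commute q' x from hq'x).zpow_right i
  have e3 : Commute (x ^ i) (x ^ j) := (Commute.refl x).zpow_zpow i j
  have e : ⁅x ^ i * q, x ^ j * q'⁆ = ⁅q, q'⁆ := by
    rw [commutatorElement_def, commutatorElement_def]
    calc x ^ i * q * (x ^ j * q') * (x ^ i * q)⁻¹ * (x ^ j * q')⁻¹
        = x ^ i * (q * x ^ j) * (q' * q⁻¹) * ((x ^ i)⁻¹ * q'⁻¹) * (x ^ j)⁻¹ := by group
      _ = x ^ i * x ^ j * (q * q' * q⁻¹ * q'⁻¹) * ((x ^ i)⁻¹ * (x ^ j)⁻¹) := by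
          rw [e1.eq, e2.inv_inv.eq.symm]; group
      _ = q * q' * q⁻¹ * q'⁻¹ := by
          have h : Commute (x ^ i * x ^ j) (q * q' * q⁻¹ * q'⁻¹) := by
            have a1 : Commute (x ^ i) q := (show Commute q x from hqx).symm.zpow_left i
            have a2 : Commute (x ^ j) q := (show Commute q x from hqx).symm.zpow_left j
            have a3 : Commute (x ^ j) q' := (show Commute q' x from hq'x).symm.zpow_left j
            exact (((a1.mul_left a2).mul_right (e2.symm.mul_left a3)).mul_right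
              (a1.mul_left a2).inv_right).mul_right (e2.symm.mul_left a3).inv_right
          rw [h.eq, e3.eq]; group
  rw [e]
  exact M.setup.comm_mem hq hq'

theorem out_abelian : ∀ a ∈ R, ∀ b ∈ R, a * b = b * a := M.abelian_of_comm (M.out_comm_mem hout)

theorem out_pow : ∀ r ∈ R, r ^ p = 1 := by
  intro r hr
  have D := M.setup
  haveI := Fact.mk D.prime
  obtain ⟨x, hx⟩ := M.exists_moved
  obtain ⟨i, q, hq, hqR, hqx, e⟩ := M.out_decomp hout hx hr
  have hrp : r ^ p = q ^ p := by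
    rw [e, ((show Commute q x from hqx).zpow_right i).symm.mul_pow, ← zpow_natCast (x ^ i), ← zpow_mul,
      mul_comm i, zpow_mul, zpow_natCast, M.moved_pow hx, one_zpow, one_mul]
  by_contra hne
  obtain ⟨k, hk⟩ := Subgroup.mem_zpowers_iff.1 (D.pth_mem hq)
  have hk0 : (k : ZMod p) ≠ 0 := fun h0 => hne (by
    rw [hrp, ← hk, ← zpow_zero z]; exact D.zpow_eq_iff.2 (by simpa using h0))
  obtain ⟨j, hj⟩ := D.exists_mul_eq hk0 1
  obtain ⟨g, hg, hgz⟩ := M.ex
  refine hgz ?_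
  have hz : z = (r ^ p) ^ j := by
    rw [hrp, ← hk, ← zpow_natCast, ← zpow_mul]
    conv_lhs => rw [← zpow_one z]
    exact D.zpow_eq_iff.2 (by rw [mul_comm, hj])
  have hgr : autFn g r ∈ R := autFn_mem g hr
  have hgrp : autFn g z = (autFn g r) ^ (p * j) := by
    have e' : (⟨z, M.zR⟩ : R) = (⟨r, hr⟩ : R) ^ (p * j) := Subtype.ext (by
      rw [SubmonoidClass.coe_pow, pow_mul]; exact hz)
    rw [autFn_apply g M.zR, e', map_pow, SubmonoidClass.coe_pow, autFn_apply g hr]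
  obtain ⟨i', q', hq', hq'R, hq'x, e'⟩ := M.out_decomp hout hx hgr
  rw [hgrp, pow_mul, e', ((show Commute q' x from hq'x).zpow_right i').symm.mul_pow, ← zpow_natCast (x ^ i'),
    ← zpow_mul, mul_comm i', zpow_mul, zpow_natCast, M.moved_pow hx, one_zpow, one_mul]
  exact pow_mem (D.pth_mem hq') j

theorem mem_inf_iff {x : Ω} (hx : M.Moved x) {q : Ω} : q ∈ R ⊓ Q ↔ q ∈ Q ∧ q * x = x * q :=
  ⟨fun h => ⟨h.2, M.moved_comm hx h.1⟩, fun ⟨h1, h2⟩ =>
    ⟨(M.moved_centralizer hx).2 ⟨M.setup.hQS h1, h2⟩, h1⟩⟩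

end Mover

end Cfsg.Agent.ExtraspecialIndexP
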