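import Cfsg.Agent.Lib.ExtraspecialIndexP.Tower
import Cfsg.Agent.Lib.PGroup.Omega
import Cfsg.Agent.Lib.PGroup.PolySeq
import Mathlib.GroupTheory.Nilpotent
import Mathlib.FieldTheory.Finite.Basic

/-
Weights of the torus on the tower: `|S| = p^(p-1)`, exponent `p`, class `p-2`.
Main results (namespace `Cfsg.Agent.ExtraspecialIndexP`): `Setup.omega_pow_left/right`, `Trans.weight`,
`Trans.card_eq`, `Trans.exponent_eq`, `Trans.class_eq`.
-/

set_option autoImplicit false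

universe u

namespace Cfsg.Agent.ExtraspecialIndexP

open Cfsg Cfsg.FusionSystem Cfsg.Agent.Fusion
open scoped commutatorElement

variable {Ω : Type u} [Group Ω] {S : Subgroup Ω} {p : ℕ} {F : FusionSystem S} {Q : Subgroup Ω} {z : Ω}
variable {R : Subgroup Ω}

theorem comm_pow_left {G : Type*} [Group G] {a b : G} (h : ⁅a, b⁆ ∈ Subgroup.center G) (n : ℕ) :
    ⁅a ^ n, b⁆ = ⁅a, b⁆ ^ n := by
  induction n with
  | zero => simp
  | succ n ih =>
    have e : ⁅a ^ n * a, b⁆ = a ^ n * ⁅a, b⁆ * (a ^ n)⁻¹ * ⁅a ^ n, b⁆ := by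
      simp only [commutatorElement_def]; group
    rw [pow_succ, e, ih, Subgroup.mem_center_iff.1 h (a ^ n), mul_inv_cancel_right, ← pow_succ']

theorem comm_pow_right {G : Type*} [Group G] {a b : G} (h : ⁅a, b⁆ ∈ Subgroup.center G) (n : ℕ) :
    ⁅a, b ^ n⁆ = ⁅a, b⁆ ^ n := by
  rw [← commutatorElement_inv, comm_pow_left (by rw [← commutatorElement_inv]; exact inv_mem h) n,
    ← inv_pow, commutatorElement_inv]

namespace Setup

variable (D : Setup F p Q z)
include D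

theorem omega_pow_left {a b : Ω} (ha : a ∈ Q) (hb : b ∈ Q) (k : ℕ) :
    omega p z (a ^ k) b = (k : ZMod p) * omega p z a b := by
  induction k with
  | zero =>
    rw [pow_zero, Nat.cast_zero, zero_mul]
    exact (D.omega_eq_zero (one_mem _) hb).2 (by rw [one_mul, mul_one])
  | succ k ih => rw [pow_succ, D.omega_mul_left (pow_mem ha k) ha hb, ih]; push_cast; ring

theorem omega_pow_right {a b : Ω} (ha : a ∈ Q) (hb : b ∈ Q) (k : ℕ) :
    omega p z a (b ^ k) = (k : ZMod p) * omega p z a b := by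
  rw [D.omega_swap (pow_mem hb k) ha, D.omega_pow_left hb ha, D.omega_swap ha hb]; ring

theorem mul_pow_Q {a b : Ω} (ha : a ∈ Q) (hb : b ∈ Q) : (a * b) ^ p = a ^ p * b ^ p := by
  haveI := Fact.mk D.prime
  have hc : ∀ u v : Q, ⁅u, v⁆ ∈ Subgroup.center Q := fun u v =>
    Subgroup.mem_center_iff.2 fun w => Subtype.ext (D.zpow_comm (D.hQS w.2) (D.comm_mem u.2 v.2))
  have hy : (⟨b, hb⟩ : Q) ^ p ∈ Subgroup.center Q :=
    Subgroup.mem_center_iff.2 fun w => Subtype.ext (D.zpow_comm (D.hQS w.2) (D.pth_mem hb))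
  exact congrArg Subtype.val (PGroup.mul_pow_classTwo D.prime D.odd hc (x := (⟨a, ha⟩ : Q)) hy)

theorem exists_unit_pow_ne {j : ℕ} (h : ¬ p - 1 ∣ j) :
    ∃ t : (ZMod p)ˣ, t ^ j ≠ 1 := by
  haveI := Fact.mk D.prime
  by_contra hc
  push Not at hc
  exact h (by simpa using (FiniteField.forall_pow_eq_one_iff (ZMod p) j).1 hc)

end Setup

/-- One level below. -/
def low (Q : Subgroup Ω) (z x : Ω) : ℕ → Subgroup Ω
  | 0 => ⊥
  | j + 1 => lev Q z x j

namespace Trans

variable {M : Mover F p Q z R} {x y : Ω} (T : Trans M x y)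
include T

theorem low_le (j : ℕ) : low Q z x j ≤ lev Q z x j := by
  cases j with
  | zero => exact bot_le
  | succ j => exact M.setup.lev_le_succ T.xS j

theorem low_conj {j : ℕ} {s w : Ω} (hs : s ∈ S) (hw : w ∈ low Q z x j) : s * w * s⁻¹ ∈ low Q z x j := by
  cases j with
  | zero => rw [low, Subgroup.mem_bot] at hw ⊢; rw [hw, mul_one, mul_inv_cancel]
  | succ j => exact M.setup.lev_conj T.xS j hs hw

theorem mem_lev_of_comm_low {j : ℕ} {d : Ω} (hd : d ∈ Q) (h : ⁅x, d⁆ ∈ low Q z x j) : d ∈ lev Q z x j := by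
  cases j with
  | zero => exact T.comm_eq_one hd (Subgroup.mem_bot.1 h)
  | succ j => exact (M.setup.mem_lev_succ T.xS j).2 ⟨hd, h⟩

theorem comm_low {j : ℕ} {w : Ω} (hw : w ∈ lev Q z x j) {s : Ω} (hs : s ∈ S) : ⁅s, w⁆ ∈ low Q z x j := by
  have D := M.setup
  cases j with
  | zero =>
    rw [low, Subgroup.mem_bot, commutatorElement_eq_one_iff_mul_comm]
    exact D.zpow_comm hs hw
  | succ j =>
    have hwQ := D.lev_le_Q T.xS _ hw
    by_cases hsQ : s ∈ Q
    · exact D.Z_le_lev T.xS j (D.comm_mem hsQ hwQ)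
    · exact (D.comm_lev_iff T.xS T.xQ hs hsQ hwQ j).2 ((D.mem_lev_succ T.xS j).1 hw).2

theorem map_lev_mem_Q {n : ℕ} (hn : Nat.card Q = p ^ (2 * n + 1)) (hn2 : 2 ≤ n) {f : Ω → Ω}
    (hf : IsMap F S f) (hfz : f z ∈ Subgroup.zpowers z) {q : Ω} (hq : q ∈ Q) : f q ∈ Q := by
  refine M.setup.map_mem_Q T.xS T.xQ ?_ hf hfz hq
  rw [T.card_lev_one, hn]
  calc p * (p * p) = p ^ 3 := by ring
    _ < _ := Nat.pow_lt_pow_right M.setup.prime.one_lt (by omega)

theorem weight {n : ℕ} (hn : Nat.card Q = p ^ (2 * n + 1)) (hn2 : 2 ≤ n) {f : Ω → Ω} {t s : ℕ}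
    (hts : (t : ZMod p) * (s : ZMod p) = 1) (hf : IsMap F S f) (hfz : f z = z ^ t) (hfx : f x = x ^ s) :
    ∀ j, ∀ q ∈ lev Q z x j, ∃ v ∈ low Q z x j, f q = q ^ (t ^ (j + 1)) * v := by
  have D := M.setup
  have hx := T.xS
  haveI := Fact.mk D.prime
  have hfzZ : f z ∈ Subgroup.zpowers z := hfz ▸ pow_mem (Subgroup.mem_zpowers z) t
  have hs0 : x ^ s ∉ Q := fun h => by
    have h0 := M.moved_zpow_mem_Q T.out T.moved (k := (s : ℤ)) (by rw [zpow_natCast]; exact h)
    rw [Int.cast_natCast] at h0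
    rw [h0, mul_zero] at hts
    exact zero_ne_one hts
  intro j
  induction j with
  | zero =>
    intro q hq
    obtain ⟨i, rfl⟩ := D.exists_pow_eq hq
    exact ⟨1, one_mem _, by
      rw [D.map_eq_zpow hf D.z_memS, hfz, ← pow_mul, ← pow_mul, zero_add, pow_one, mul_one, mul_comm]⟩
  | succ j ih =>
    intro q hq
    obtain ⟨hqQ, hc⟩ := (D.mem_lev_succ hx j).1 hq
    obtain ⟨v, hv, hfc⟩ := ih _ hc
    have hfq : f q ∈ Q := T.map_lev_mem_Q hn hn2 hf hfzZ hqQ
    have hfcomm : f ⁅x, q⁆ = ⁅x ^ s, f q⁆ := by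
      have hqS := D.hQS hqQ
      rw [commutatorElement_def, commutatorElement_def,
        hf.map_mul (mul_mem (mul_mem hx hqS) (inv_mem hx)) (inv_mem hqS), hf.map_conj hx hqS,
        hf.map_inv hqS, hfx]
    set N := (low Q z x j).subgroupOf S
    haveI : N.Normal := ⟨fun w hw g => T.low_conj g.2 hw⟩
    set π := QuotientGroup.mk' N
    have hπ : ∀ u : S, π u = 1 ↔ (u : Ω) ∈ low Q z x j := fun u => QuotientGroup.eq_one_iff _
    have hcen : ∀ u : S, (u : Ω) ∈ lev Q z x j → π u ∈ Subgroup.center (S ⧸ N) := by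
      intro u hu
      refine Subgroup.mem_center_iff.2 fun g => ?_
      obtain ⟨g, rfl⟩ := QuotientGroup.mk'_surjective N g
      rw [← commutatorElement_eq_one_iff_mul_comm, ← map_commutatorElement]
      exact (hπ _).2 (T.comm_low hu g.2)
    have hpow : ∀ u : S, (u : Ω) ∈ lev Q z x j → π u ^ p = 1 := by
      intro u hu
      rw [← map_pow, hπ, SubmonoidClass.coe_pow]
      cases j with
      | zero =>
        obtain ⟨i, hi⟩ := Subgroup.mem_zpowers_iff.1 hu
        rw [low, Subgroup.mem_bot, ← hi, ← zpow_natCast, ← zpow_mul, mul_comm, zpow_mul, zpow_natCast,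
          D.z_pow, one_zpow]
      | succ j => exact D.Z_le_lev hx j (D.pth_mem (D.lev_le_Q hx _ hu))
    set x' : S := ⟨x, hx⟩
    set q' : S := ⟨q, D.hQS hqQ⟩
    set r' : S := ⟨f q, D.hQS hfq⟩
    set T' := t ^ (j + 1 + 1)
    have hr : (⁅x', r'⁆ : S).1 ∈ lev Q z x j := by
      have h1 : f ⁅x, q⁆ ∈ lev Q z x j := by
        rw [hfc]; exact mul_mem (pow_mem hc _) (T.low_le j hv)
      rw [hfcomm] at h1
      exact (D.comm_lev_iff hx T.xQ (pow_mem hx s) hs0 hfq j).1 h1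
    have key : π ⁅x', r'⁆ = π ⁅x', q'⁆ ^ T' := by
      have h1 : ⁅π x' ^ s, π r'⁆ = π ⁅x', q'⁆ ^ (t ^ (j + 1)) := by
        rw [← map_pow, ← map_commutatorElement, ← map_pow]
        refine QuotientGroup.eq.2 ?_
        show (⁅x ^ s, f q⁆)⁻¹ * ⁅x, q⁆ ^ (t ^ (j + 1)) ∈ low Q z x j
        rw [← hfcomm, hfc, mul_inv_rev, mul_assoc, inv_mul_cancel, mul_one]
        exact inv_mem hv
      rw [comm_pow_left (by rw [← map_commutatorElement]; exact hcen _ hr), ← map_commutatorElement] at h1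
      have h2 := congrArg (· ^ t) h1
      simp only [← pow_mul] at h2
      rw [show T' = t ^ (j + 1) * t from pow_succ t (j + 1), ← h2]
      conv_lhs => rw [← pow_one (π ⁅x', r'⁆)]
      refine pow_eq_pow_iff_modEq.2 (Nat.ModEq.of_dvd (orderOf_dvd_of_pow_eq_one (hpow _ hr)) ?_)
      rw [← ZMod.natCast_eq_natCast_iff, Nat.cast_one, Nat.cast_mul, mul_comm, hts]
    set d' := (q' ^ T')⁻¹ * r'
    have hd : (d' : Ω) ∈ Q := mul_mem (inv_mem (pow_mem hqQ T')) hfq
    have hdl : (d' : Ω) ∈ lev Q z x j := by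
      refine T.mem_lev_of_comm_low hd ((hπ ⁅x', d'⁆).1 ?_)
      have e : ⁅x', q' ^ T' * d'⁆ = ⁅x', q' ^ T'⁆ * (q' ^ T' * ⁅x', d'⁆ * (q' ^ T')⁻¹) := by
        simp only [commutatorElement_def]; group
      have e2 : q' ^ T' * d' = r' := by rw [mul_inv_cancel_left]
      rw [e2] at e
      have e3 := congrArg π e
      rw [map_mul, map_mul, map_mul, map_inv, map_commutatorElement π x' (q' ^ T'), map_pow,
        comm_pow_right (by rw [← map_commutatorElement]; exact hcen _ hc), ← map_commutatorElement, ← key,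
        left_eq_mul, mul_inv_eq_one, mul_eq_left] at e3
      exact e3
    exact ⟨d', hdl, (mul_inv_cancel_left (q ^ T') (f q)).symm⟩

theorem unit_pow_eq_one {n : ℕ} (hn : Nat.card Q = p ^ (2 * n + 1)) (hn2 : 2 ≤ n) (u : (ZMod p)ˣ) :
    u ^ (2 * n + 2) = 1 := by
  have D := M.setup
  have hx := T.xS
  haveI := D.fin
  haveI := Fact.mk D.prime
  set t := (u : ZMod p).val
  set s := ((u⁻¹ : (ZMod p)ˣ) : ZMod p).val
  have ht : (t : ZMod p) = u := ZMod.natCast_zmod_val _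
  have hts : (t : ZMod p) * (s : ZMod p) = 1 := by
    rw [ht, ZMod.natCast_zmod_val, Units.mul_inv]
  obtain ⟨f, hf, hfz, hfx⟩ := T.exists_torus_S hn hn2 t s hts
  -- a non-commuting pair
  obtain ⟨a, ha, haZ⟩ : ∃ a ∈ lev Q z x 1, a ∉ Subgroup.zpowers z := by
    by_contra hc
    push Not at hc
    haveI : Finite (Subgroup.zpowers z) := finite_of_le (Subgroup.zpowers_le.2 D.z_memS)
    have := Subgroup.card_le_of_le (show lev Q z x 1 ≤ Subgroup.zpowers z from hc)
    rw [T.card_lev_one, D.card_Z] at this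
    nlinarith [D.prime.two_le]
  have haQ := D.lev_le_Q hx 1 ha
  obtain ⟨b, hb, hab⟩ : ∃ b ∈ Q, a * b ≠ b * a := by
    by_contra hc
    push Not at hc
    exact haZ (D.center_eq.le ⟨haQ, Subgroup.mem_centralizer_iff.2 fun b hb => (hc b hb).symm⟩)
  obtain ⟨v1, hv1, hfa⟩ := T.weight hn hn2 hts hf hfz hfx 1 a ha
  obtain ⟨v2, hv2, hfb⟩ := T.weight hn hn2 hts hf hfz hfx (2 * n) b ((T.lev_top hn).ge hb)
  have hv2' : v2 ∈ im1 Q z x := by
    rw [T.im1_eq_lev hn (by omega)]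
    have e : 2 * n = (2 * n - 1) + 1 := by omega
    rw [e] at hv2
    exact hv2
  have hv2Q : v2 ∈ Q := D.im1_le_Q hx le_rfl hv2'
  have hv1Z : v1 ∈ Subgroup.zpowers z := hv1
  have h0 : omega p z (f a) (f b) = (t : ZMod p) * omega p z a b := by
    have haS := D.hQS haQ
    have hbS := D.hQS hb
    have e : ⁅f a, f b⁆ = f ⁅a, b⁆ := by
      rw [commutatorElement_def, commutatorElement_def,
        hf.map_mul (mul_mem (mul_mem haS hbS) (inv_mem haS)) (inv_mem hbS), hf.map_conj haS hbS, hf.map_inv hbS]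
    obtain ⟨i, hi⟩ := D.exists_pow_eq (D.comm_mem haQ hb)
    rw [omega, omega, e, ← hi, D.map_eq_zpow hf D.z_memS, hfz, ← pow_mul, ← zpow_natCast, ← zpow_natCast,
      D.zlog_zpow, D.zlog_zpow]
    push_cast
    rfl
  have hzero : omega p z v1 (f b) = 0 := by
    refine (D.omega_eq_zero (D.Z_le hv1Z) ?_).2 (D.zpow_comm (hf.mem (D.hQS hb)) hv1Z).symm
    exact T.map_lev_mem_Q hn hn2 hf (hfz ▸ pow_mem (Subgroup.mem_zpowers z) t) hb
  have hz2 : omega p z a v2 = 0 := (D.omega_eq_zero haQ hv2Q).2 (D.im1_comm hx hv2' ha)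
  rw [hfa, D.omega_mul_left (pow_mem haQ _) (D.Z_le hv1Z) (by
      exact T.map_lev_mem_Q hn hn2 hf (hfz ▸ pow_mem (Subgroup.mem_zpowers z) t) hb), hzero, add_zero,
    hfb, D.omega_pow_left haQ (mul_mem (pow_mem hb _) hv2Q),
    D.omega_mul_right haQ (pow_mem hb _) hv2Q, hz2, add_zero, D.omega_pow_right haQ hb] at h0
  have hne : omega p z a b ≠ 0 := fun h => hab ((D.omega_eq_zero haQ hb).1 h)
  push_cast at h0
  rw [← mul_assoc, ← pow_add] at h0
  have h1 := mul_right_cancel₀ hne h0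
  refine Units.ext ?_
  rw [Units.val_pow_eq_pow_val, Units.val_one, ← ht]
  have ht0 : (t : ZMod p) ≠ 0 := left_ne_zero_of_mul_eq_one hts
  refine mul_right_cancel₀ ht0 ?_
  rw [one_mul, ← pow_succ]
  refine Eq.trans ?_ h1
  congr 1
  omega

theorem n_eq {n : ℕ} (hn : Nat.card Q = p ^ (2 * n + 1)) (hn2 : 2 ≤ n) : p = 2 * n + 3 := by
  have D := M.setup
  have hx := T.xS
  haveI := D.fin
  haveI := Fact.mk D.prime
  have hdvd : p - 1 ∣ 2 * n + 2 := by
    simpa using (FiniteField.forall_pow_eq_one_iff (ZMod p) (2 * n + 2)).1 (T.unit_pow_eq_one hn hn2)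
  have h2np : 2 * n ≤ p := by
    by_contra h
    have h1 := T.card_lev hn p (by omega)
    rw [D.lev_eq_top_of_pow_mem hx, hn] at h1
    have := Nat.pow_right_injective D.prime.two_le h1
    omega
  obtain ⟨k, hk⟩ := hdvd
  have hp3 : 5 ≤ p := by
    have h := D.prime.two_le
    have : p ≠ 4 := fun e => by have := D.prime; rw [e] at this; exact absurd this (by decide)
    omega
  rcases k with _ | _ | k
  · omega
  · omega
  · have h2 : (p - 1) * 2 ≤ (p - 1) * (k + 1 + 1) := Nat.mul_le_mul_left _ (by omega)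
    omega

theorem lev_exponent {n : ℕ} (hn : Nat.card Q = p ^ (2 * n + 1)) (hn2 : 2 ≤ n) :
    ∀ j ≤ 2 * n, ∀ q ∈ lev Q z x j, q ^ p = 1 := by
  have D := M.setup
  have hx := T.xS
  haveI := Fact.mk D.prime
  have hp := T.n_eq hn hn2
  intro j
  induction j with
  | zero =>
    intro _ q hq
    obtain ⟨i, rfl⟩ := D.exists_pow_eq hq
    rw [← pow_mul, mul_comm, pow_mul, D.z_pow, one_pow]
  | succ j ih =>
    intro hj q hq
    by_contra hne
    obtain ⟨u, hu⟩ := D.exists_unit_pow_ne (j := j + 1) (fun h => by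
      have := Nat.le_of_dvd (by omega) h; omega)
    set t := (u : ZMod p).val
    set s := ((u⁻¹ : (ZMod p)ˣ) : ZMod p).val
    have ht : (t : ZMod p) = u := ZMod.natCast_zmod_val _
    have hts : (t : ZMod p) * (s : ZMod p) = 1 := by
      rw [ht, ZMod.natCast_zmod_val, Units.mul_inv]
    obtain ⟨f, hf, hfz, hfx⟩ := T.exists_torus_S hn hn2 t s hts
    obtain ⟨v, hv, hfq⟩ := T.weight hn hn2 hts hf hfz hfx (j + 1) q hq
    have hqQ := D.lev_le_Q hx _ hq
    obtain ⟨e, he⟩ := D.exists_pow_eq (D.pth_mem hqQ)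
    have he0 : (e : ZMod p) ≠ 0 := fun h => hne (by
      obtain ⟨d, rfl⟩ := (ZMod.natCast_eq_zero_iff e p).1 h
      rw [← he, pow_mul, D.z_pow, one_pow])
    have h1 : f (q ^ p) = (f q) ^ p := by
      have : ∀ k : ℕ, f (q ^ k) = f q ^ k := by
        intro k
        induction k with
        | zero => simpa using hf.map_one
        | succ k ihk => rw [pow_succ, hf.map_mul (pow_mem (D.hQS hqQ) k) (D.hQS hqQ), ihk, pow_succ]
      exact this p
    rw [hfq, D.mul_pow_Q (pow_mem hqQ _) (D.lev_le_Q hx j hv), ih (by omega) v hv, mul_one, ← pow_mul,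
      mul_comm, pow_mul, ← he, D.map_eq_zpow hf D.z_memS, hfz, ← pow_mul, ← pow_mul, ← zpow_natCast,
      ← zpow_natCast, D.zpow_eq_iff] at h1
    push_cast at h1
    rw [mul_comm] at h1
    have h2 := mul_left_cancel₀ he0 h1
    refine hu (Units.ext ?_)
    rw [Units.val_pow_eq_pow_val, Units.val_one, ← ht]
    refine mul_right_cancel₀ (left_ne_zero_of_mul_eq_one hts) ?_
    rw [one_mul, ← pow_succ]
    exact h2.symm

theorem Q_exponent {n : ℕ} (hn : Nat.card Q = p ^ (2 * n + 1)) (hn2 : 2 ≤ n) {q : Ω} (hq : q ∈ Q) :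
    q ^ p = 1 := T.lev_exponent hn hn2 (2 * n) le_rfl q ((T.lev_top hn).ge hq)

theorem comm_lev_pred {j : ℕ} {w : Ω} (hw : w ∈ lev Q z x (j + 1)) {s : Ω} (hs : s ∈ S) :
    ⁅w, s⁆ ∈ lev Q z x j := by
  rw [← commutatorElement_inv]
  exact inv_mem (T.comm_low hw hs)

theorem lcs_le {n : ℕ} (hn : Nat.card Q = p ^ (2 * n + 1)) (hn2 : 2 ≤ n) :
    ∀ k, k + 1 ≤ 2 * n → (⊤ : Subgroup S).lowerCentralSeries (k + 1) ≤
      (lev Q z x (2 * n - 1 - k)).subgroupOf S := by
  have D := M.setup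
  have hx := T.xS
  intro k
  induction k with
  | zero =>
    intro _
    rw [Subgroup.lowerCentralSeries_succ, Subgroup.commutator_le]
    intro a _ b _
    obtain ⟨i, q, hq, ha⟩ := D.exists_decomp hx T.xQ a.2
    obtain ⟨l, r, hr, hb⟩ := D.exists_decomp hx T.xQ b.2
    have e : ⁅x ^ i * q, x ^ l * r⁆ =
        x ^ i * ⁅q, x ^ l * r⁆ * (x ^ i)⁻¹ * (x ^ l * ⁅x ^ i, r⁆ * (x ^ l)⁻¹) := by
      simp only [commutatorElement_def]; group
    rw [Subgroup.mem_subgroupOf]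
    show ⁅(a : Ω), (b : Ω)⁆ ∈ _
    rw [ha, hb, e]
    have hlast : 2 * n - 1 - 0 + 1 = 2 * n := by omega
    refine mul_mem (D.lev_conj hx _ (zpow_mem hx i) (T.comm_lev_pred ?_ (mul_mem (zpow_mem hx l) (D.hQS hr))))
      (D.lev_conj hx _ (zpow_mem hx l) ?_)
    · rw [hlast, T.lev_top hn]; exact hq
    · have hrl : r ∈ lev Q z x (2 * n - 1 - 0 + 1) := by rw [hlast, T.lev_top hn]; exact hr
      have := T.comm_low hrl (zpow_mem hx i)
      exact this
  | succ k ih =>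
    intro hk
    rw [Subgroup.lowerCentralSeries_succ, Subgroup.commutator_le]
    intro a ha b _
    have ha' := ih (by omega) ha
    rw [Subgroup.mem_subgroupOf] at ha' ⊢
    rw [show 2 * n - 1 - k = 2 * n - 1 - (k + 1) + 1 by omega] at ha'
    exact T.comm_lev_pred ha' b.2

theorem lcs_bot {n : ℕ} (hn : Nat.card Q = p ^ (2 * n + 1)) (hn2 : 2 ≤ n) :
    (⊤ : Subgroup S).lowerCentralSeries (2 * n + 1) = ⊥ := by
  refine Subgroup.lowerCentralSeries_succ_eq_bot _ fun w hw => ?_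
  have h := T.lcs_le hn hn2 (2 * n - 1) (by omega) (by rwa [show 2 * n - 1 + 1 = 2 * n by omega])
  rw [Nat.sub_self, Subgroup.mem_subgroupOf] at h
  exact Subgroup.mem_center_iff.2 fun g => Subtype.ext (M.setup.zpow_comm g.2 h)

theorem lcs_ne_bot {n : ℕ} (hn : Nat.card Q = p ^ (2 * n + 1)) (hn2 : 2 ≤ n) :
    (⊤ : Subgroup S).lowerCentralSeries (2 * n) ≠ ⊥ := by
  have D := M.setup
  have hx := T.xS
  haveI := D.fin
  have key : ∀ k, k + 1 ≤ 2 * n → ∃ w : S, w ∈ (⊤ : Subgroup S).lowerCentralSeries k ∧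
      (w : Ω) ∈ lev Q z x (2 * n - k) ∧ (w : Ω) ∉ lev Q z x (2 * n - k - 1) := by
    intro k
    induction k with
    | zero =>
      intro _
      obtain ⟨q, hq, hq'⟩ := SetLike.exists_of_lt (show lev Q z x (2 * n - 1) < Q from
        lt_of_le_of_ne (D.lev_le_Q hx _) fun e => by
          have h1 := T.card_lev hn (2 * n - 1) (by omega)
          rw [e, hn] at h1
          have := Nat.pow_right_injective D.prime.two_le h1
          omega)
      exact ⟨⟨q, D.hQS hq⟩, by simp, (T.lev_top hn).ge hq, hq'⟩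
    | succ k ih =>
      intro hk
      obtain ⟨w, hw, hw1, hw2⟩ := ih (by omega)
      rw [show 2 * n - k = 2 * n - (k + 1) + 1 by omega] at hw1 hw2
      refine ⟨⁅(⟨x, hx⟩ : S), w⁆, ?_, ((D.mem_lev_succ hx _).1 hw1).2, fun h => hw2 ?_⟩
      · rw [Subgroup.lowerCentralSeries_succ, ← commutatorElement_inv]
        exact inv_mem (Subgroup.commutator_mem_commutator hw (Subgroup.mem_top _))
      · rw [Nat.add_sub_cancel, show 2 * n - (k + 1) = 2 * n - (k + 1) - 1 + 1 by omega]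
        exact (D.mem_lev_succ hx _).2 ⟨D.lev_le_Q hx _ hw1, h⟩
  obtain ⟨w, hw, hw1, hw2⟩ := key (2 * n - 1) (by omega)
  rw [show 2 * n - (2 * n - 1) = 1 by omega] at hw1 hw2
  intro hbot
  have h : ⁅w, (⟨x, hx⟩ : S)⁆ ∈ (⊤ : Subgroup S).lowerCentralSeries (2 * n) := by
    rw [show 2 * n = 2 * n - 1 + 1 by omega, Subgroup.lowerCentralSeries_succ]
    exact Subgroup.commutator_mem_commutator hw (Subgroup.mem_top _)
  rw [hbot, Subgroup.mem_bot, ← commutatorElement_inv, inv_eq_one] at h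
  exact hw2 (T.comm_eq_one (D.lev_le_Q hx 1 hw1) (congrArg Subtype.val h))

theorem class_eq {n : ℕ} (hn : Nat.card Q = p ^ (2 * n + 1)) (hn2 : 2 ≤ n) [Group.IsNilpotent S] :
    Group.nilpotencyClass S = p - 2 := by
  have hp := T.n_eq hn hn2
  refine le_antisymm ?_ ?_
  · rw [← Subgroup.lowerCentralSeries_eq_bot_iff_nilpotencyClass_le, show p - 2 = 2 * n + 1 by omega]
    exact T.lcs_bot hn hn2
  · by_contra h
    exact T.lcs_ne_bot hn hn2 (Subgroup.lowerCentralSeries_eq_bot_iff_nilpotencyClass_le.2 (by omega))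

theorem exponent_eq {n : ℕ} (hn : Nat.card Q = p ^ (2 * n + 1)) (hn2 : 2 ≤ n) (w : S) : w ^ p = 1 := by
  have D := M.setup
  have hx := T.xS
  haveI := D.fin
  haveI := Fact.mk D.prime
  have hp := T.n_eq hn hn2
  obtain ⟨H, hH⟩ := PolySeq.exists_subgroup_pow_eq_one_of_class_lt D.hS (by
    rw [show p - 1 = 2 * n + 1 + 1 by omega, Subgroup.lowerCentralSeries_succ, T.lcs_bot hn hn2,
      Subgroup.commutator_bot_left])
  have hmem : ∀ v : S, v ∈ H ↔ v ^ p = 1 := fun v => by rw [← SetLike.mem_coe, hH]; rfl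
  obtain ⟨i, q, hq, hw⟩ := D.exists_decomp hx T.xQ w.2
  have e : w = (⟨x, hx⟩ : S) ^ i * ⟨q, D.hQS hq⟩ :=
    Subtype.ext (by rw [hw, Subgroup.coe_mul, Subgroup.coe_zpow])
  rw [← hmem, e]
  exact mul_mem (zpow_mem ((hmem _).2 (Subtype.ext (by rw [SubmonoidClass.coe_pow]; exact T.x_pow))) i)
    ((hmem _).2 (Subtype.ext (by rw [SubmonoidClass.coe_pow]; exact T.Q_exponent hn hn2 hq)))

end Trans

end Cfsg.Agent.ExtraspecialIndexP
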