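import Cfsg.Agent.Lib.ExtraspecialIndexP.CaseOut
import Cfsg.Agent.Lib.ExtraspecialIndexP.Weights

/-
All moved points outside `Q` and no transvection with centre `z`: the commutator map gives an anisotropic
symmetric form on a group of order `p^2`.
Main results (namespace `Cfsg.Agent.ExtraspecialIndexP`): `Quad`, `Quad.le_normalizer`, `Quad.card_inf_sq`,
`Quad.aniso`, `Quad.exists_orth`.
-/

set_option autoImplicit false

universe u

namespace Cfsg.Agent.ExtraspecialIndexP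

open Cfsg Cfsg.FusionSystem Cfsg.Agent.Fusion
open scoped commutatorElement

variable {Ω : Type u} [Group Ω] {S : Subgroup Ω} {p : ℕ} {F : FusionSystem S} {Q : Subgroup Ω} {z : Ω}
variable {R : Subgroup Ω}

/-- A power with exponent prime to `p` lies in a subgroup only if the element does. -/
theorem mem_of_zpow_mem {G : Type*} [Group G] {p : ℕ} (hp : p.Prime) {d : G} (hd : d ^ p = 1)
    {H : Subgroup G} {k : ℤ} (hk : (k : ZMod p) ≠ 0) (h : d ^ k ∈ H) : d ∈ H := by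
  haveI := Fact.mk hp
  obtain ⟨j, hj⟩ : ∃ j : ℕ, (((j : ℤ) * k : ℤ) : ZMod p) = 1 :=
    ⟨((k : ZMod p)⁻¹).val, by
      rw [Int.cast_mul, Int.cast_natCast, ZMod.natCast_zmod_val, inv_mul_cancel₀ hk]⟩
  have e : d ^ ((j : ℤ) * k) = d := by
    conv_rhs => rw [← zpow_one d]
    rw [zpow_eq_zpow_iff_modEq]
    exact Int.ModEq.of_dvd (Int.natCast_dvd_natCast.2 (orderOf_dvd_of_pow_eq_one hd))
      ((ZMod.intCast_eq_intCast_iff _ _ p).1 (by rw [hj, Int.cast_one]))
  rw [← e, mul_comm, zpow_mul]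
  exact zpow_mem h _

theorem zpow_congr {G : Type*} [Group G] {p : ℕ} {d : G} (hd : d ^ p = 1) {i j : ℤ}
    (h : (i : ZMod p) = j) : d ^ i = d ^ j := by
  rw [zpow_eq_zpow_iff_modEq]
  exact Int.ModEq.of_dvd (Int.natCast_dvd_natCast.2 (orderOf_dvd_of_pow_eq_one hd))
    ((ZMod.intCast_eq_intCast_iff _ _ p).1 h)

/-- An automorphism fixing an element fixes it under all powers. -/
theorem pow_fix {G : Type*} [Group G] {A : MulAut G} {h : G} (hA : A h = h) (j : ℕ) : (A ^ j) h = h := by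
  induction j with
  | zero => rfl
  | succ j ih => rw [pow_succ, MulAut.mul_apply, hA, ih]

/-- No element of `Q` moves a moved point inside its coset of `⟨z⟩`. -/
def Mover.NoTrans (M : Mover F p Q z R) : Prop :=
  ∀ x y, M.Moved x → y ∈ Q → ⁅x, y⁆ ∈ Subgroup.zpowers z → ⁅x, y⁆ = 1

/-- The data of this case. -/
structure Quad (M : Mover F p Q z R) (x : Ω) : Prop where
  out : M.AllOut
  notrans : M.NoTrans
  moved : M.Moved x

/-- The form on `Q`. -/
noncomputable def bq (p : ℕ) (z x v w : Ω) : ZMod p := omega p z v ⁅x, w⁆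

namespace Quad

variable {M : Mover F p Q z R} {x : Ω} (E : Quad M x)
include E

theorem xR : x ∈ R := M.moved_mem E.moved

theorem xS : x ∈ S := M.hRS E.xR

theorem xQ : x ∉ Q := E.out x E.moved

theorem xp : x ^ p = 1 := M.moved_pow E.moved

theorem comm : ∀ a b : R, a * b = b * a := fun a b => Subtype.ext (M.out_abelian E.out a a.2 b b.2)

theorem exp (r : R) : r ^ p = 1 := Subtype.ext (by rw [SubmonoidClass.coe_pow]; exact M.out_pow E.out r r.2)

theorem lev_one : lev Q z x 1 = R ⊓ Q := by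
  ext q
  rw [M.setup.mem_lev_succ E.xS 0, M.mem_inf_iff E.out E.moved]
  refine and_congr_right fun hq => ⟨fun h => ?_, fun h => ?_⟩
  · exact (commutatorElement_eq_one_iff_mul_comm.1 (E.notrans x q E.moved hq h)).symm
  · rw [commutatorElement_eq_one_iff_mul_comm.2 h.symm]
    exact one_mem _

/-- An image of `z` inside `Q` lies in `⟨z⟩`. -/
theorem mem_Z_of_Q {α : MulAut R} (hα : α ∈ F.autGroup R) (h : ((α ⟨z, M.zR⟩ : R) : Ω) ∈ Q) :
    ((α ⟨z, M.zR⟩ : R) : Ω) ∈ Subgroup.zpowers z := by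
  by_contra hn
  exact E.out _ ⟨⟨α, hα, autFn_apply α M.zR⟩, hn⟩ h

theorem moved_inv {h : MulAut R} (hh : h ∈ F.autGroup R) (hz : autFn h z ∉ Subgroup.zpowers z) :
    M.Moved ((h⁻¹ ⟨z, M.zR⟩ : R) : Ω) := by
  refine ⟨⟨h⁻¹, inv_mem hh, autFn_apply _ M.zR⟩, fun hn => hz ?_⟩
  have : h⁻¹ ∈ M.stab := ⟨inv_mem hh, by rw [autFn_apply _ M.zR]; exact hn⟩
  exact (inv_inv h ▸ inv_mem this : h ∈ M.stab).2

/-- An element of `Q` normalizing `R` and centralizing `R ∩ Q` lies in `R`. -/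
theorem no_radical {y : Ω} (hyQ : y ∈ Q) (hyN : y ∈ normalizerIn S R)
    (hy0 : ∀ q ∈ R, q ∈ Q → y * q = q * y) : y ∈ R := by
  by_contra hyR
  have D := M.setup
  haveI := D.fin
  haveI := M.finR
  haveI := M.finAut
  haveI := Fact.mk D.prime
  letI : CommGroup R := { (inferInstance : Group R) with mul_comm := E.comm }
  set a := normConj S R ⟨y, hyN⟩
  have haT : a ∈ autInducedBy S R := M.normConj_mem hyN
  have haL : a ∈ F.autGroup R := autInducedBy_le_autGroup F le_rfl M.hRS haT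
  set zR : R := ⟨z, M.zR⟩
  set xR : R := ⟨x, E.xR⟩
  have hdR : ⁅y, x⁆ ∈ R := by
    rw [commutatorElement_def]
    exact mul_mem (normalizerIn_conj hyN E.xR) (inv_mem E.xR)
  set d : R := ⟨⁅y, x⁆, hdR⟩
  have hdQ : (d : Ω) ∈ Q := D.comm_S_mem (D.hQS hyQ) E.xS
  have hdZ : (d : Ω) ∉ Subgroup.zpowers z := fun h => hyR ((M.moved_centralizer E.moved).2 ⟨D.hQS hyQ,
    (commutatorElement_eq_one_iff_mul_comm.1 (E.notrans x y E.moved hyQ
      (by rw [← commutatorElement_inv]; exact inv_mem h))).symm⟩)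
  have ha0 : ∀ r : R, (r : Ω) ∈ Q → a r = r := fun r hr => Subtype.ext (by
    show y * r * y⁻¹ = r
    rw [hy0 r r.2 hr, mul_inv_cancel_right])
  have hax : a xR = xR * d := by
    rw [mul_comm]
    exact Subtype.ext (show y * x * y⁻¹ = ⁅y, x⁆ * x by rw [commutatorElement_def, inv_mul_cancel_right])
  have har : ∀ r : R, ∃ k : ℤ, a r = r * d ^ k ∧ ((k : ZMod p) = 0 → (r : Ω) ∈ Q) := by
    intro r
    obtain ⟨k, q, hq, hqR, -, e⟩ := M.out_decomp E.out E.moved r.2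
    have e' : r = xR ^ k * ⟨q, hqR⟩ := Subtype.ext (by rw [e, Subgroup.coe_mul, Subgroup.coe_zpow])
    refine ⟨k, ?_, fun hk => ?_⟩
    · rw [e', map_mul, map_zpow, hax, ha0 _ hq, mul_zpow, mul_right_comm]
    · rw [e, zpow_congr E.xp (i := k) (j := 0) (by simpa using hk), zpow_zero, one_mul]
      exact hq
  obtain ⟨⟨g, hg, hgz⟩, -⟩ := E.moved
  have hgz' : g zR = xR := Subtype.ext (by rw [← autFn_apply g M.zR]; exact hgz)
  set a' := g * a * g⁻¹
  have ha'L : a' ∈ F.autGroup R := mul_mem (mul_mem hg haL) (inv_mem hg)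
  set d' := g d
  have haz : a zR = zR := ha0 _ D.z_mem
  have hadd : a d = d := ha0 _ hdQ
  have ha'r : ∀ r : R, ∃ k : ℤ, a' r = r * d' ^ k := by
    intro r
    obtain ⟨k, hk, -⟩ := har (g⁻¹ r)
    refine ⟨k, ?_⟩
    show g (a (g⁻¹ r)) = _
    rw [hk, map_mul, map_zpow, MulAut.apply_inv_self]
  have ha'z : a' zR ≠ zR := by
    intro he
    have hgm : M.Moved ((g⁻¹ zR : R) : Ω) := E.moved_inv hg (hgz.symm ▸ E.moved.2)
    refine M.moved_star hgm hyN hyR ?_
    refine congrArg Subtype.val (g.injective (a₁ := a (g⁻¹ zR)) (a₂ := g⁻¹ zR) ?_)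
    rw [MulAut.apply_inv_self]
    exact he
  have hexp : IsPGroup p R := fun r => ⟨1, by rw [pow_one]; exact E.exp r⟩
  have hai := M.not_inner hyN hyR
  have noP : IsPGroup p (Subgroup.closure ({a, a'} : Set (MulAut R))) → False := fun hP => ha'z <| by
    have := M.pGroup_fix hP ((Subgroup.closure_le _).2 (by
        rintro _ (rfl | rfl)
        exacts [haL, ha'L])) (Subgroup.subset_closure (Or.inl rfl)) hai haT
      (Subgroup.subset_closure (Or.inr rfl))
    rw [autFn_apply a' M.zR] at this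
    exact Subtype.ext this
  have hT : ∀ r : R, r⁻¹ * a r ∈ Subgroup.zpowers d := fun r => by
    obtain ⟨k, hk, -⟩ := har r
    rw [hk, inv_mul_cancel_left]
    exact ⟨k, rfl⟩
  have hU : ∀ r : R, r⁻¹ * a' r ∈ Subgroup.zpowers d' := fun r => by
    obtain ⟨k, hk⟩ := ha'r r
    rw [hk, inv_mul_cancel_left]
    exact ⟨k, rfl⟩
  have ha'd' : a' d' = d' := by
    show g (a (g⁻¹ (g d))) = g d
    rw [MulAut.inv_apply_self, hadd]
  have hd'Q : (d' : Ω) ∉ Q := fun h =>
    noP (S5178.isPGroup_closure_pair hexp E.comm a a' d d' hT hU hadd (ha0 _ h) ha'd')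
  obtain ⟨k, hk, hk0⟩ := har d'
  have hk' : (k : ZMod p) ≠ 0 := fun h => hd'Q (hk0 h)
  obtain ⟨m, hm⟩ := ha'r d
  have hm' : (m : ZMod p) ≠ 0 := fun h => noP <| by
    have hfix : a' d = d := by
      rw [hm, zpow_congr (E.exp d') (i := m) (j := 0) (by simpa using h), zpow_zero, mul_one]
    rw [Set.pair_comm]
    exact S5178.isPGroup_closure_pair hexp E.comm a' a d' d hU hT ha'd' hfix hadd
  obtain ⟨i, hi⟩ := D.exists_mul_eq hk' 1
  obtain ⟨j, hj⟩ := D.exists_mul_eq hm' (-1)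
  have hA : (a ^ i) d' = d' * d * (1 : R) ^ (0 : ℤ) := by
    rw [transvection_pow (by rw [map_zpow, hadd]) hk i, ← zpow_natCast, ← zpow_mul,
      zpow_congr (E.exp d) (i := k * i) (j := 1) (by rw [mul_comm, hi]), zpow_one, one_zpow, mul_one]
  have hU' : (a' ^ j) d = d * d'⁻¹ * (1 : R) ^ (0 : ℤ) := by
    rw [transvection_pow (by rw [map_zpow, ha'd']) hm j, ← zpow_natCast, ← zpow_mul,
      zpow_congr (E.exp d') (i := m * j) (j := -1) (by rw [mul_comm, hj]), zpow_neg_one, one_zpow, mul_one]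
  obtain ⟨-, -, hw⟩ := weyl E.comm (A := a ^ i) (U := a' ^ j) (a := d) (b := d') (v := 1)
    (pow_fix hadd i) (map_one _) hA (pow_fix ha'd' j) (map_one _) hU'
  rw [one_zpow, mul_one] at hw
  obtain ⟨e, he⟩ := ha'r zR
  obtain ⟨b, hb⟩ := D.exists_mul_eq hm' e
  set h := zR * (d ^ b)⁻¹
  have hah : a h = h := by rw [map_mul, map_inv, map_pow, haz, hadd]
  have ha'h : a' h = h := by
    rw [map_mul, map_inv, map_pow, he, hm, mul_pow, mul_inv, ← zpow_natCast (d' ^ m), ← zpow_mul,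
      zpow_congr (E.exp d') (i := m * b) (j := e) (by rw [mul_comm, hb]), mul_mul_mul_comm, mul_inv_cancel,
      mul_one]
  set w := a ^ i * a' ^ j * a ^ i * (a ^ i * a' ^ j * a ^ i)
  have hwL : w ∈ F.autGroup R :=
    mul_mem (mul_mem (mul_mem (pow_mem haL i) (pow_mem ha'L j)) (pow_mem haL i))
      (mul_mem (mul_mem (pow_mem haL i) (pow_mem ha'L j)) (pow_mem haL i))
  have hwh : w h = h := by simp only [w, MulAut.mul_apply, pow_fix hah, pow_fix ha'h]
  have hwz : w zR = zR * (d ^ (2 * b : ℕ))⁻¹ := by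
    conv_lhs => rw [show zR = h * d ^ b by rw [inv_mul_cancel_right]]
    rw [map_mul, map_pow, hwh, hw, inv_pow, two_mul, pow_add, mul_inv, mul_assoc]
  have hin : ((w zR : R) : Ω) ∈ Q := by
    rw [hwz, Subgroup.coe_mul, Subgroup.coe_inv, SubmonoidClass.coe_pow]
    exact mul_mem D.z_mem (inv_mem (pow_mem hdQ _))
  have hZ := E.mem_Z_of_Q hwL hin
  rw [hwz, Subgroup.coe_mul, Subgroup.coe_inv, SubmonoidClass.coe_pow,
    Subgroup.mul_mem_cancel_left _ (Subgroup.mem_zpowers z), inv_mem_iff, ← zpow_natCast] at hZ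
  refine hdZ (mem_of_zpow_mem D.prime (congrArg Subtype.val (E.exp d)) ?_ hZ)
  intro h0
  push_cast at h0
  have hb0 : (b : ZMod p) = 0 := (mul_eq_zero.1 h0).resolve_left (by
    intro h2
    have h2' : ((2 : ℕ) : ZMod p) = 0 := by exact_mod_cast h2
    rw [ZMod.natCast_eq_zero_iff] at h2'
    exact D.odd ((Nat.prime_dvd_prime_iff_eq D.prime Nat.prime_two).1 h2'))
  refine ha'z ?_
  rw [he, zpow_congr (E.exp d') (i := e) (j := 0) (by
    rw [← hb, Int.cast_mul, Int.cast_natCast, hb0, zero_mul, Int.cast_zero]), zpow_zero, mul_one]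

theorem im1_le : im1 Q z x ≤ R := by
  have D := M.setup
  haveI := D.fin
  haveI := Fact.mk D.prime
  by_contra hn
  set I := im1 Q z x
  have hIQ : I ≤ Q := D.im1_le_Q E.xS le_rfl
  have hnorm : R ≤ Subgroup.normalizer (I : Set Ω) := fun r hr => Subgroup.mem_normalizer_iff.2 fun w => by
    refine ⟨fun hw => D.im1_conj E.xS E.xQ (M.hRS hr) hw, fun hw => ?_⟩
    have := D.im1_conj E.xS E.xQ (inv_mem (M.hRS hr)) hw
    simpa [mul_assoc] using this
  obtain ⟨s, hs, hsR⟩ := SetLike.exists_of_lt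
    (lt_normalizerIn D.hS (sup_le M.hRS (hIQ.trans D.hQS)) (P := R)
      (lt_of_le_of_ne le_sup_left fun e => hn (le_sup_right.trans_eq e.symm)))
  obtain ⟨hsP, hsN⟩ := mem_normalizerIn.1 hs
  rw [← SetLike.mem_coe, Subgroup.coe_mul_of_left_le_normalizer_right _ _ hnorm] at hsP
  obtain ⟨r, hr, y, hy, rfl⟩ := hsP
  have hN : r * y ∈ normalizerIn S R :=
    mem_normalizerIn.2 ⟨mul_mem (M.hRS hr) (D.hQS (hIQ hy)), hsN⟩
  have hyN : y ∈ normalizerIn S R := by
    have := mul_mem (inv_mem (le_normalizerIn M.hRS hr)) hN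
    rwa [inv_mul_cancel_left] at this
  exact hsR (mul_mem hr (E.no_radical (hIQ hy) hyN fun q hq hqQ =>
    (D.im1_comm E.xS hy (E.lev_one.ge ⟨hq, hqQ⟩)).symm))

theorem comm_x_R {q : Ω} (hq : q ∈ Q) : ⁅x, q⁆ ∈ R :=
  E.im1_le ((M.setup.mem_im1 E.xS le_rfl).2 ⟨q, hq, 1, one_mem _, (mul_one _).symm⟩)

theorem le_normalizer : S ≤ normalizerIn S R := by
  have D := M.setup
  haveI := M.finR
  refine D.le_of_mem E.xS E.xQ (fun q hq => ?_) (le_normalizerIn M.hRS E.xR)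
  refine mem_normalizerIn_of_conj (D.hQS hq) fun r hr => ?_
  obtain ⟨k, q', hq', hq'R, -, rfl⟩ := M.out_decomp E.out E.moved hr
  have e1 : q * x * q⁻¹ ∈ R := by
    have e : q * x * q⁻¹ = ⁅x, q⁆⁻¹ * x := by simp only [commutatorElement_def]; group
    rw [e]; exact mul_mem (inv_mem (E.comm_x_R hq)) E.xR
  have e2 : q * q' * q⁻¹ ∈ R := by
    have e : q * q' * q⁻¹ = ⁅q, q'⁆ * q' := by simp only [commutatorElement_def]; group
    rw [e]; exact mul_mem (Subgroup.zpowers_le.2 M.zR (D.comm_mem hq hq')) hq'R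
  have e : q * (x ^ k * q') * q⁻¹ = (q * x * q⁻¹) ^ k * (q * q' * q⁻¹) := by
    rw [conj_zpow]; group
  rw [e]
  exact mul_mem (zpow_mem e1 k) e2

theorem card_inf_sq : Nat.card (R ⊓ Q : Subgroup Ω) * Nat.card (R ⊓ Q : Subgroup Ω) = p * Nat.card Q := by
  have D := M.setup
  haveI := D.fin
  refine le_antisymm (D.card_abelian_sq inf_le_right fun a ha b hb => M.out_abelian E.out a ha.1 b hb.1) ?_
  have h := D.card_im1 E.xS (le_refl Q)
  rw [inf_eq_right.2 (D.lev_le_Q E.xS 1), E.lev_one] at h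
  haveI := finite_of_le (S := S) (P := R ⊓ Q) (inf_le_right.trans D.hQS)
  rw [← h]
  exact Nat.mul_le_mul_right _ (Subgroup.card_le_of_le (le_inf E.im1_le (D.im1_le_Q E.xS le_rfl)))

theorem card_R : Nat.card R = p * Nat.card (R ⊓ Q : Subgroup Ω) := by
  have D := M.setup
  haveI := D.fin
  haveI := Fact.mk D.prime
  refine le_antisymm (D.card_le_mul_inf M.hRS) ?_
  have hlt : (R ⊓ Q).subgroupOf S < R.subgroupOf S :=
    lt_of_le_of_ne (fun u hu => hu.1) fun e => by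
      have hm : (⟨x, E.xS⟩ : S) ∈ (R ⊓ Q).subgroupOf S := e ▸ (show (⟨x, E.xS⟩ : S) ∈ R.subgroupOf S from E.xR)
      exact E.xQ hm.2
  have := PGroup.mul_card_le_of_lt D.hS hlt
  rwa [Nat.card_congr (Subgroup.subgroupOfEquivOfLe (inf_le_right.trans D.hQS)).toEquiv,
    Nat.card_congr (Subgroup.subgroupOfEquivOfLe M.hRS).toEquiv] at this

theorem inf_centralizer {v : Ω} (hv : v ∈ Q) (h : ∀ q ∈ R, q ∈ Q → v * q = q * v) : v ∈ R := by
  have D := M.setup
  haveI := D.fin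
  haveI : Finite (Q ⊓ Subgroup.centralizer ((R ⊓ Q : Subgroup Ω) : Set Ω) : Subgroup Ω) :=
    finite_of_le (inf_le_left.trans D.hQS)
  haveI := finite_of_le (S := S) (P := R ⊓ Q) (inf_le_right.trans D.hQS)
  have h1 := D.card_centralizer_mul (H := R ⊓ Q) inf_le_right ⟨M.zR, D.z_mem⟩
  rw [← E.card_inf_sq] at h1
  have heq : R ⊓ Q = Q ⊓ Subgroup.centralizer ((R ⊓ Q : Subgroup Ω) : Set Ω) :=
    Subgroup.eq_of_le_of_card_ge (fun a ha => ⟨ha.2, Subgroup.mem_centralizer_iff.2 fun b hb =>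
      M.out_abelian E.out b hb.1 a ha.1⟩) (Nat.eq_of_mul_eq_mul_left Nat.card_pos h1).le
  exact (heq.ge ⟨hv, Subgroup.mem_centralizer_iff.2 fun q hq => (h q hq.1 hq.2).symm⟩).1

theorem comm_x_Q {q : Ω} (hq : q ∈ Q) : ⁅x, q⁆ ∈ Q := M.setup.comm_S_mem E.xS (M.setup.hQS hq)

theorem bq_R {v w : Ω} (hv : v ∈ R) (hvQ : v ∈ Q) (hw : w ∈ Q) : bq p z x v w = 0 :=
  (M.setup.omega_eq_zero hvQ (E.comm_x_Q hw)).2 (M.out_abelian E.out v hv _ (E.comm_x_R hw))

theorem bq_symm {v w : Ω} (hv : v ∈ Q) (hw : w ∈ Q) : bq p z x w v = bq p z x v w := by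
  have D := M.setup
  have hv' := E.comm_x_Q hv
  have hw' := E.comm_x_Q hw
  have h := D.omega_conj E.xS hv hw
  rw [Setup.conj_eq_comm_mul D, Setup.conj_eq_comm_mul D, D.omega_mul_left hv' hv (mul_mem hw' hw),
    D.omega_mul_right hv' hw' hw, D.omega_mul_right hv hw' hw,
    (D.omega_eq_zero hv' hw').2 (M.out_abelian E.out _ (E.comm_x_R hv) _ (E.comm_x_R hw))] at h
  rw [bq, bq, D.omega_swap hv' hw]
  linear_combination -h

theorem bq_mul_left {a b w : Ω} (ha : a ∈ Q) (hb : b ∈ Q) (hw : w ∈ Q) :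
    bq p z x (a * b) w = bq p z x a w + bq p z x b w :=
  M.setup.omega_mul_left ha hb (E.comm_x_Q hw)

theorem bq_mul_right {a b w : Ω} (ha : a ∈ Q) (hb : b ∈ Q) (hw : w ∈ Q) :
    bq p z x w (a * b) = bq p z x w a + bq p z x w b := by
  rw [← E.bq_symm hw (mul_mem ha hb), E.bq_mul_left ha hb hw, E.bq_symm hw ha, E.bq_symm hw hb]

theorem bq_pow_left {a w : Ω} (ha : a ∈ Q) (hw : w ∈ Q) (k : ℕ) :
    bq p z x (a ^ k) w = (k : ZMod p) * bq p z x a w :=
  M.setup.omega_pow_left ha (E.comm_x_Q hw) k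

theorem bq_pow_right {a w : Ω} (ha : a ∈ Q) (hw : w ∈ Q) (k : ℕ) :
    bq p z x w (a ^ k) = (k : ZMod p) * bq p z x w a := by
  rw [← E.bq_symm hw (pow_mem ha k), E.bq_pow_left ha hw, E.bq_symm hw ha]

theorem bq_nondeg {v : Ω} (hv : v ∈ Q) (hvR : v ∉ R) : ∃ w ∈ Q, bq p z x v w ≠ 0 := by
  have D := M.setup
  haveI := D.fin
  by_contra hc
  push Not at hc
  refine hvR (E.inf_centralizer hv fun q hqR hqQ => ?_)
  haveI := finite_of_le (S := S) (P := R ⊓ Q) (inf_le_right.trans D.hQS)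
  have hI : im1 Q z x = R ⊓ Q := by
    refine Subgroup.eq_of_le_of_card_ge (le_inf E.im1_le (D.im1_le_Q E.xS le_rfl)) (le_of_eq ?_)
    have h := D.card_im1 E.xS (le_refl Q)
    rw [inf_eq_right.2 (D.lev_le_Q E.xS 1), E.lev_one, ← E.card_inf_sq] at h
    exact (Nat.eq_of_mul_eq_mul_right Nat.card_pos h).symm
  obtain ⟨w, hw, c, hcZ, rfl⟩ := (D.mem_im1 E.xS le_rfl).1 (hI.ge ⟨hqR, hqQ⟩)
  refine (show Commute v (⁅x, w⁆ * c) from ?_).eq
  exact Commute.mul_right ((D.omega_eq_zero hv (E.comm_x_Q hw)).1 (hc w hw))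
    (D.zpow_comm (D.hQS hv) hcZ)

/-- The centres of the transvections with isotropic parameter. -/
def centres (_E : Quad M x) : Set R :=
  {v | (v : Ω) ∈ Q ∧ (v : Ω) ∉ Subgroup.zpowers z ∧
    ∃ y ∈ Q, ⁅y, x⁆ * (v : Ω)⁻¹ ∈ Subgroup.zpowers z ∧ y * v = v * y}

theorem act_moved {y : Ω} (hy : y ∈ Q) {v : R} (hc : ⁅y, x⁆ * (v : Ω)⁻¹ ∈ Subgroup.zpowers z)
    {w : Ω} (hw : M.Moved w) :
    ∃ l k : ℤ, (l : ZMod p) ≠ 0 ∧ normConj S R ⟨y, E.le_normalizer (M.setup.hQS hy)⟩ ⟨w, M.moved_mem hw⟩ =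
      ⟨w, M.moved_mem hw⟩ * v ^ l * (⟨z, M.zR⟩ : R) ^ k := by
  have D := M.setup
  letI : CommGroup R := { (inferInstance : Group R) with mul_comm := E.comm }
  set a := normConj S R ⟨y, E.le_normalizer (D.hQS hy)⟩
  obtain ⟨e, q, hq, hqR, -, hwe⟩ := M.out_decomp E.out E.moved (M.moved_mem hw)
  have he : (e : ZMod p) ≠ 0 := fun h => E.out w hw (by
    rw [hwe, zpow_congr E.xp (i := e) (j := 0) (by simpa using h), zpow_zero, one_mul]; exact hq)
  obtain ⟨c, hc⟩ := Subgroup.mem_zpowers_iff.1 hc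
  obtain ⟨c', hc'⟩ := Subgroup.mem_zpowers_iff.1 (D.comm_mem hy hq)
  set xR : R := ⟨x, E.xR⟩
  set zR : R := ⟨z, M.zR⟩
  have hax : a xR = zR ^ c * v * xR := Subtype.ext (by
    rw [Subgroup.coe_mul, Subgroup.coe_mul, Subgroup.coe_zpow]
    show y * x * y⁻¹ = z ^ c * (v : Ω) * x
    rw [hc, commutatorElement_def]; group)
  have haq : a ⟨q, hqR⟩ = zR ^ c' * ⟨q, hqR⟩ := Subtype.ext (by
    rw [Subgroup.coe_mul, Subgroup.coe_zpow]
    show y * q * y⁻¹ = z ^ c' * q
    rw [hc', commutatorElement_def]; group)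
  have hwR : (⟨w, M.moved_mem hw⟩ : R) = xR ^ e * ⟨q, hqR⟩ :=
    Subtype.ext (by rw [Subgroup.coe_mul, Subgroup.coe_zpow]; exact hwe)
  refine ⟨e, c * e + c', he, ?_⟩
  rw [hwR, map_mul, map_zpow, hax, haq, mul_zpow, mul_zpow, zpow_add, zpow_mul]
  simp only [mul_assoc, mul_comm, mul_left_comm]

theorem centres_disjoint {h : MulAut R} (hh : h ∈ F.autGroup R) (hz : autFn h z ∉ Subgroup.zpowers z)
    {u : R} (hu : u ∈ E.centres) : h u ∉ E.centres := by
  intro hv
  have D := M.setup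
  haveI := D.fin
  haveI := Fact.mk D.prime
  obtain ⟨huQ, huZ, y', hy', hc', hcm'⟩ := hu
  obtain ⟨hvQ, hvZ, y, hy, hc, hcm⟩ := hv
  set v := h u
  letI : CommGroup R := { (inferInstance : Group R) with mul_comm := E.comm }
  set zR : R := ⟨z, M.zR⟩
  set x' : R := h zR
  have hx' : M.Moved (x' : Ω) := ⟨⟨h, hh, autFn_apply h M.zR⟩, by rw [autFn_apply h M.zR] at hz; exact hz⟩
  set a := normConj S R ⟨y, E.le_normalizer (D.hQS hy)⟩
  have haL : a ∈ F.autGroup R := autInducedBy_le_autGroup F le_rfl M.hRS (M.normConj_mem _)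
  set b0 := normConj S R ⟨y', E.le_normalizer (D.hQS hy')⟩
  have hb0L : b0 ∈ F.autGroup R := autInducedBy_le_autGroup F le_rfl M.hRS (M.normConj_mem _)
  set a' := h * b0 * h⁻¹
  have ha'L : a' ∈ F.autGroup R := mul_mem (mul_mem hh hb0L) (inv_mem hh)
  have fix : ∀ (y : Ω) (hy : y ∈ normalizerIn S R) (r : R), y * r = r * y → normConj S R ⟨y, hy⟩ r = r :=
    fun y hy r hr => Subtype.ext (show y * r * y⁻¹ = r by rw [hr, mul_inv_cancel_right])
  have hav : a v = v := fix _ _ _ hcm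
  have haz : a zR = zR := fix _ _ _ (D.z_comm (D.hQS hy))
  have hb0u : b0 u = u := fix _ _ _ hcm'
  have ha'v : a' v = v := by
    show h (b0 (h⁻¹ (h u))) = h u
    rw [MulAut.inv_apply_self, hb0u]
  have ha'x : a' x' = x' := by
    show h (b0 (h⁻¹ (h zR))) = h zR
    rw [MulAut.inv_apply_self, fix _ _ _ (D.z_comm (D.hQS hy'))]
  -- the first transvection
  obtain ⟨l, k, hl, hk⟩ := E.act_moved hy hc hx'
  change a x' = x' * v ^ l * zR ^ k at hk
  have key : ∀ {α : MulAut R}, α ∈ F.autGroup R → ∀ {t : R} {i : ℤ}, (t : Ω) ∈ Q →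
      (t : Ω) ∉ Subgroup.zpowers z → α zR = zR * t ^ i → (i : ZMod p) = 0 := by
    intro α hα t i htQ htZ he
    by_contra hi
    have h1 := E.mem_Z_of_Q hα (by
      rw [he, Subgroup.coe_mul, Subgroup.coe_zpow]; exact mul_mem D.z_mem (zpow_mem htQ i))
    rw [he, Subgroup.coe_mul, Subgroup.coe_zpow,
      Subgroup.mul_mem_cancel_left _ (Subgroup.mem_zpowers z)] at h1
    exact htZ (mem_of_zpow_mem D.prime (congrArg Subtype.val (E.exp t)) hi h1)
  have hk0 : (k : ZMod p) ≠ 0 := by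
    intro h0
    refine hl (key (α := h⁻¹ * a * h) (mul_mem (mul_mem (inv_mem hh) haL) hh) huQ huZ ?_)
    show h⁻¹ (a (h zR)) = _
    rw [hk, zpow_congr (E.exp zR) (i := k) (j := 0) (by simpa using h0), zpow_zero, mul_one, map_mul,
      map_zpow, MulAut.inv_apply_self, MulAut.inv_apply_self]
  -- the second transvection
  have hx'' : M.Moved ((h⁻¹ zR : R) : Ω) := E.moved_inv hh hz
  obtain ⟨i, m, hi, hm⟩ := E.act_moved hy' hc' hx''
  have ha'z : a' zR = zR * v ^ i * x' ^ m := by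
    show h (b0 (h⁻¹ zR)) = _
    rw [show b0 (h⁻¹ zR) = h⁻¹ zR * u ^ i * zR ^ m from hm, map_mul, map_mul, map_zpow, map_zpow,
      MulAut.apply_inv_self]
  have hm0 : (m : ZMod p) ≠ 0 := by
    intro h0
    refine hi (key ha'L hvQ hvZ ?_)
    rw [ha'z, zpow_congr (E.exp x') (i := m) (j := 0) (by simpa using h0), zpow_zero, mul_one]
  obtain ⟨s, hs⟩ := D.exists_mul_eq hk0 1
  obtain ⟨t, ht⟩ := D.exists_mul_eq hm0 (-1)
  have hA : (a ^ s) x' = x' * zR * v ^ (l * s) := by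
    rw [transvection_pow (d := v ^ l * zR ^ k) (by rw [map_mul, map_zpow, map_zpow, hav, haz])
      (by rw [hk, mul_assoc]) s, mul_pow, ← zpow_natCast, ← zpow_natCast, ← zpow_mul, ← zpow_mul,
      zpow_congr (E.exp zR) (i := k * s) (j := 1) (by rw [mul_comm, hs]), zpow_one]
    ac_rfl
  have hB : (a' ^ t) zR = zR * x'⁻¹ * v ^ (i * t) := by
    rw [transvection_pow (d := v ^ i * x' ^ m) (by rw [map_mul, map_zpow, map_zpow, ha'v, ha'x])
      (by rw [ha'z, mul_assoc]) t, mul_pow, ← zpow_natCast, ← zpow_natCast, ← zpow_mul, ← zpow_mul,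
      zpow_congr (E.exp x') (i := m * t) (j := -1) (by rw [mul_comm, ht]), zpow_neg_one]
    ac_rfl
  obtain ⟨-, -, hw⟩ := weyl E.comm (A := a ^ s) (U := a' ^ t) (a := zR) (b := x') (v := v)
    (pow_fix haz s) (pow_fix hav s) hA (pow_fix ha'x t) (pow_fix ha'v t) hB
  set w := a ^ s * a' ^ t * a ^ s * (a ^ s * a' ^ t * a ^ s)
  have hwL : w ∈ F.autGroup R :=
    mul_mem (mul_mem (mul_mem (pow_mem haL s) (pow_mem ha'L t)) (pow_mem haL s))
      (mul_mem (mul_mem (pow_mem haL s) (pow_mem ha'L t)) (pow_mem haL s))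
  have hZ := E.mem_Z_of_Q hwL (by
    rw [hw, Subgroup.coe_mul, Subgroup.coe_inv, Subgroup.coe_zpow]
    exact mul_mem (inv_mem D.z_mem) (zpow_mem hvQ _))
  rw [hw, Subgroup.coe_mul, Subgroup.coe_inv, Subgroup.coe_zpow,
    Subgroup.mul_mem_cancel_left _ (inv_mem (Subgroup.mem_zpowers z))] at hZ
  refine hvZ (mem_of_zpow_mem D.prime (congrArg Subtype.val (E.exp v)) ?_ hZ)
  intro h0
  push_cast at h0
  have hs0 : (s : ZMod p) ≠ 0 := fun e => by
    rw [Int.cast_mul, Int.cast_natCast, e, zero_mul, Int.cast_one] at hs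
    exact zero_ne_one hs
  have h2 : (2 : ZMod p) ≠ 0 := by
    intro h2
    have h2' : ((2 : ℕ) : ZMod p) = 0 := by exact_mod_cast h2
    rw [ZMod.natCast_eq_zero_iff] at h2'
    exact D.odd ((Nat.prime_dvd_prime_iff_eq D.prime Nat.prime_two).1 h2')
  exact mul_ne_zero h2 (mul_ne_zero hl hs0) (neg_eq_zero.1 h0)

theorem index_eq : Nat.card (R ⊓ Q : Subgroup Ω) = p * (R.subgroupOf Q).index := by
  have D := M.setup
  haveI := D.finQ
  have h1 := Subgroup.card_mul_index (R.subgroupOf Q)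
  have h2 : Nat.card (R.subgroupOf Q) = Nat.card (R ⊓ Q : Subgroup Ω) := by
    rw [← Subgroup.inf_subgroupOf_right]
    exact Nat.card_congr (Subgroup.subgroupOfEquivOfLe inf_le_right).toEquiv
  rw [h2] at h1
  haveI : Finite (R ⊓ Q : Subgroup Ω) := haveI := D.fin; finite_of_le (inf_le_right.trans D.hQS)
  refine Nat.eq_of_mul_eq_mul_left (Nat.card_pos (α := (R ⊓ Q : Subgroup Ω))) ?_
  rw [E.card_inf_sq, ← h1]; ring

theorem centres_card_lt : Nat.card E.centres < p * p := by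
  have D := M.setup
  haveI := D.fin
  haveI := D.finQ
  haveI := M.finR
  haveI := Fact.mk D.prime
  obtain ⟨⟨g, hg, hgz⟩, hxZ⟩ := E.moved
  set zR : R := ⟨z, M.zR⟩
  let cn : Q → MulAut R := fun q => normConj S R ⟨q, E.le_normalizer (D.hQS q.2)⟩
  let hh : Option (Q ⧸ R.subgroupOf Q) → MulAut R := fun o => o.elim 1 fun c => cn c.out * g
  have hhL : ∀ o, hh o ∈ F.autGroup R := by
    rintro (_ | c)
    · exact one_mem _
    · exact mul_mem (autInducedBy_le_autGroup F le_rfl M.hRS (M.normConj_mem _)) hg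
  have hval : ∀ c : Q ⧸ R.subgroupOf Q, ((hh (some c) zR : R) : Ω) = (c.out : Ω) * x * (c.out : Ω)⁻¹ := by
    intro c
    show (c.out : Ω) * ((g zR : R) : Ω) * (c.out : Ω)⁻¹ = _
    rw [← autFn_apply g M.zR, hgz]
  have hnotQ : ∀ c : Q ⧸ R.subgroupOf Q, ((hh (some c) zR : R) : Ω) ∉ Q := fun c h => E.xQ (by
    rw [hval] at h
    have := D.conj_Q (inv_mem (D.hQS c.out.2)) h
    simpa [mul_assoc] using this)
  have sep : ∀ o o', ∀ k : ℤ, hh o zR = hh o' zR ^ k → o = o' := by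
    intro o o' k he
    rcases o with _ | c <;> rcases o' with _ | c'
    · rfl
    · exfalso
      have h1 : (((hh (some c') zR : R) : Ω)) ^ k ∈ Q := by
        rw [← Subgroup.coe_zpow, ← he]; exact D.z_mem
      by_cases hk : (k : ZMod p) = 0
      · refine D.z_ne ?_
        rw [zpow_congr (E.exp _) (i := k) (j := 0) (by simpa using hk), zpow_zero] at he
        exact congrArg Subtype.val he
      · exact hnotQ c' (mem_of_zpow_mem D.prime (congrArg Subtype.val (E.exp _)) hk h1)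
    · exfalso
      refine hnotQ c ?_
      rw [he, Subgroup.coe_zpow]
      exact zpow_mem D.z_mem k
    · have e0 := congrArg Subtype.val he
      rw [Subgroup.coe_zpow, hval, hval] at e0
      have ec : ∀ q ∈ Q, ∃ r ∈ R, r ∈ Q ∧ q * x * q⁻¹ = x * r ∧ r * x = x * r := by
        intro q hq
        have hr : ⁅x⁻¹, q⁆ ∈ R := by
          have e : ⁅x⁻¹, q⁆ = x⁻¹ * ⁅x, q⁆⁻¹ * x := by simp only [commutatorElement_def]; group
          rw [e]; exact mul_mem (mul_mem (inv_mem E.xR) (inv_mem (E.comm_x_R hq))) E.xR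
        exact ⟨_, hr, D.comm_S_mem (inv_mem E.xS) (D.hQS hq), by rw [commutatorElement_def]; group,
          M.moved_comm E.moved hr⟩
      obtain ⟨r, hr, hrQ, er, -⟩ := ec _ c.out.2
      obtain ⟨r', hr', hr'Q, er', hc'⟩ := ec _ c'.out.2
      rw [er, er', (show Commute x r' from hc'.symm).mul_zpow] at e0
      have hk : x ^ (k - 1) ∈ Q := by
        have e1 : x ^ (k - 1) = r * (r' ^ k)⁻¹ := by
          have : x ^ k = x * r * (r' ^ k)⁻¹ := by rw [e0, mul_inv_cancel_right]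
          rw [sub_eq_neg_add, zpow_add, this, zpow_neg_one, ← mul_assoc, inv_mul_cancel_left]
        rw [e1]; exact mul_mem hrQ (inv_mem (zpow_mem hr'Q k))
      have hk1 := M.moved_zpow_mem_Q E.out E.moved hk
      rw [← er, ← (show Commute x r' from hc'.symm).mul_zpow, ← er',
        zpow_congr (d := (c'.out : Ω) * x * (c'.out : Ω)⁻¹) (i := k) (j := 1)
          (by rw [← hval]; exact congrArg Subtype.val (E.exp _))
          (by simpa [sub_eq_zero] using hk1), zpow_one] at e0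
      congr 1
      rw [← c.out_eq', ← c'.out_eq', QuotientGroup.eq]
      refine Subgroup.mem_subgroupOf.2 ((M.moved_centralizer E.moved).2
        ⟨D.hQS (mul_mem (inv_mem c.out.2) c'.out.2), ?_⟩)
      show (c.out : Ω)⁻¹ * (c'.out : Ω) * x = x * ((c.out : Ω)⁻¹ * (c'.out : Ω))
      calc (c.out : Ω)⁻¹ * (c'.out : Ω) * x
          = (c.out : Ω)⁻¹ * ((c'.out : Ω) * x * (c'.out : Ω)⁻¹) * c'.out := by group
        _ = _ := by rw [← e0]; group
  let Φ : Option (Q ⧸ R.subgroupOf Q) × E.centres → R := fun a => hh a.1 a.2.1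
  have hinj : Function.Injective Φ := by
    rintro ⟨o, u, hu⟩ ⟨o', u', hu'⟩ he
    change hh o u = hh o' u' at he
    by_cases ho : o = o'
    · subst ho
      obtain rfl := (hh o).injective he
      rfl
    exfalso
    set h := (hh o')⁻¹ * hh o
    have hhu : h u = u' := by
      show (hh o')⁻¹ (hh o u) = u'
      rw [he, MulAut.inv_apply_self]
    refine E.centres_disjoint (mul_mem (inv_mem (hhL o')) (hhL o)) (fun hn => ho ?_) hu (hhu ▸ hu')
    rw [autFn_apply h M.zR] at hn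
    obtain ⟨k, hk⟩ := Subgroup.mem_zpowers_iff.1 hn
    refine sep o o' k ?_
    rw [← map_zpow, show zR ^ k = h zR from Subtype.ext (by rw [Subgroup.coe_zpow]; exact hk)]
    exact (MulAut.apply_inv_self _ _ _).symm
  have h1 := Nat.card_le_card_of_injective Φ hinj
  rw [Nat.card_prod, Finite.card_option, ← Subgroup.index_eq_card, E.card_R, E.index_eq, ← mul_assoc] at h1
  by_contra hge
  push Not at hge
  have h2 := Nat.mul_le_mul_left ((R.subgroupOf Q).index + 1) hge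
  have : 0 < p * p := Nat.mul_pos D.prime.pos D.prime.pos
  nlinarith [h1, h2, this]

/-- The form is anisotropic. -/
theorem aniso {e : Ω} (he : e ∈ Q) (h0 : bq p z x e e = 0) : e ∈ R := by
  by_contra heR
  have D := M.setup
  haveI := D.fin
  haveI := M.finR
  haveI := Fact.mk D.prime
  have h2 : (2 : ZMod p) ≠ 0 := by
    intro h2
    have h2' : ((2 : ℕ) : ZMod p) = 0 := by exact_mod_cast h2
    rw [ZMod.natCast_eq_zero_iff] at h2'
    exact D.odd ((Nat.prime_dvd_prime_iff_eq D.prime Nat.prime_two).1 h2')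
  obtain ⟨f0, hf0, hef⟩ := E.bq_nondeg he heR
  set lam := (-(bq p z x f0 f0) / (2 * bq p z x e f0)).val
  set f := f0 * e ^ lam
  have hf : f ∈ Q := mul_mem hf0 (pow_mem he _)
  have hlam : (lam : ZMod p) * (2 * bq p z x e f0) = -bq p z x f0 f0 := by
    rw [ZMod.natCast_zmod_val, div_mul_cancel₀ _ (mul_ne_zero h2 hef)]
  have hff : bq p z x f f = 0 := by
    rw [E.bq_mul_left hf0 (pow_mem he _) hf, E.bq_mul_right hf0 (pow_mem he _) hf0,
      E.bq_mul_right hf0 (pow_mem he _) (pow_mem he _), E.bq_pow_right he hf0, E.bq_pow_left he hf0,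
      E.bq_pow_left he (pow_mem he _), E.bq_pow_right he he, h0, E.bq_symm he hf0]
    linear_combination hlam
  have hef' : bq p z x e f ≠ 0 := by
    rwa [E.bq_mul_right hf0 (pow_mem he _) he, E.bq_pow_right he he, h0, mul_zero, add_zero]
  -- the two families of centres
  let vv : Bool → Ω := fun b => cond b e f
  have hvQ : ∀ b, vv b ∈ Q := by rintro (_ | _) <;> assumption
  have hvv : ∀ b, bq p z x (vv b) (vv b) = 0 := by rintro (_ | _) <;> assumption
  let ψ : Bool × (ZMod p)ˣ × ZMod p → R := fun a =>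
    ⟨⁅x, vv a.1 ^ (a.2.1 : ZMod p).val⁆⁻¹ * z ^ a.2.2.val,
      mul_mem (inv_mem (E.comm_x_R (pow_mem (hvQ _) _))) (pow_mem M.zR _)⟩
  have hψ : ∀ a (w : Ω), w ∈ Q →
      omega p z w (ψ a : Ω) = -((a.2.1 : ZMod p) * bq p z x w (vv a.1)) := by
    intro a w hw
    have hq := E.comm_x_Q (pow_mem (hvQ a.1) (a.2.1 : ZMod p).val)
    show omega p z w (⁅x, vv a.1 ^ (a.2.1 : ZMod p).val⁆⁻¹ * z ^ a.2.2.val) = _
    rw [D.omega_mul_right hw (inv_mem hq) (pow_mem D.z_mem _),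
      (D.omega_eq_zero hw (pow_mem D.z_mem _)).2
        (D.zpow_comm (D.hQS hw) (pow_mem (Subgroup.mem_zpowers z) _)), add_zero]
    have hinv := D.omega_mul_right hw (inv_mem hq) hq
    rw [inv_mul_cancel, (D.omega_eq_zero hw (one_mem _)).2 (by rw [mul_one, one_mul])] at hinv
    have hb := E.bq_pow_right (hvQ a.1) hw (a.2.1 : ZMod p).val
    rw [ZMod.natCast_zmod_val] at hb
    rw [bq] at hb
    linear_combination -hinv - hb
  have hmem : ∀ a, ψ a ∈ E.centres := by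
    rintro ⟨b, sa, ta⟩
    set a : Bool × (ZMod p)ˣ × ZMod p := (b, sa, ta)
    set y := vv a.1 ^ (a.2.1 : ZMod p).val
    have hy : y ∈ Q := pow_mem (hvQ _) _
    have hq := E.comm_x_Q hy
    refine ⟨mul_mem (inv_mem hq) (pow_mem D.z_mem _), ?_, y, hy, ?_, ?_⟩
    · intro hZ
      have hne : ∀ w ∈ Q, bq p z x w (vv a.1) = 0 := fun w hw => by
        have h := hψ a w hw
        rw [(D.omega_eq_zero hw (D.Z_le hZ)).2 (D.zpow_comm (D.hQS hw) hZ)] at h
        exact (mul_eq_zero.1 (neg_eq_zero.1 h.symm)).resolve_left a.2.1.ne_zero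
      rcases b with _ | _
      · exact hef' (hne e he)
      · exact hef' (by rw [← E.bq_symm he hf]; exact hne f hf)
    · show ⁅y, x⁆ * (⁅x, y⁆⁻¹ * z ^ a.2.2.val)⁻¹ ∈ Subgroup.zpowers z
      rw [commutatorElement_inv, mul_inv_rev, ← D.zpow_comm (D.hQS (inv_mem (by
        rw [← commutatorElement_inv]; exact inv_mem hq))) (inv_mem (pow_mem (Subgroup.mem_zpowers z) _)),
        mul_inv_cancel_left]
      exact inv_mem (pow_mem (Subgroup.mem_zpowers z) _)
    · refine (D.omega_eq_zero hy (mul_mem (inv_mem hq) (pow_mem D.z_mem _))).1 ?_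
      have h := hψ a y hy
      rw [E.bq_pow_left (hvQ _) (hvQ _), hvv, mul_zero, mul_zero, neg_zero] at h
      exact h
  have hinj : Function.Injective ψ := by
    rintro ⟨b, s, t⟩ ⟨b', s', t'⟩ heq
    have h1 := hψ ⟨b, s, t⟩ e he
    have h1' := hψ ⟨b', s', t'⟩ e he
    have h2 := hψ ⟨b, s, t⟩ f hf
    have h2' := hψ ⟨b', s', t'⟩ f hf
    rw [heq, h1'] at h1
    rw [heq, h2'] at h2
    have hfe : bq p z x f e ≠ 0 := by rwa [E.bq_symm he hf]
    have hbs : b = b' ∧ s = s' := by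
      rcases b with _ | _ <;> rcases b' with _ | _ <;>
        simp only [vv, cond_false, cond_true, h0, hff, mul_zero, neg_zero, neg_inj, zero_eq_neg,
          neg_eq_zero, mul_eq_zero, s.ne_zero, s'.ne_zero, false_or, mul_eq_mul_right_iff, hef', hfe,
          or_false] at h1 h2
      · exact ⟨rfl, (Units.ext h1).symm⟩
      · exact ⟨rfl, (Units.ext h2).symm⟩
    obtain ⟨rfl, rfl⟩ := hbs
    have ht := congrArg Subtype.val heq
    change ⁅x, vv b ^ (s : ZMod p).val⁆⁻¹ * z ^ t.val = ⁅x, vv b ^ (s : ZMod p).val⁆⁻¹ * z ^ t'.val at ht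
    have ht' := mul_left_cancel ht
    rw [pow_eq_pow_iff_modEq, D.ordz, ← ZMod.natCast_eq_natCast_iff, ZMod.natCast_zmod_val,
      ZMod.natCast_zmod_val] at ht'
    rw [ht']
  have hcard := Nat.card_le_card_of_injective (fun a => (⟨ψ a, hmem a⟩ : E.centres))
    fun a a' h => hinj (congrArg Subtype.val h)
  have hlt := E.centres_card_lt
  rw [Nat.card_prod, Nat.card_prod, Nat.card_eq_fintype_card (α := Bool), Fintype.card_bool,
    Nat.card_eq_fintype_card (α := (ZMod p)ˣ), ZMod.card_units, Nat.card_zmod] at hcard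
  have := D.prime.two_le
  have hp1 : p * p ≤ 2 * ((p - 1) * p) := by
    rw [← mul_assoc]; exact Nat.mul_le_mul_right p (by omega)
  exact (hp1.trans hcard).not_gt hlt

theorem bq_self_ne {q : Ω} (hq : q ∈ Q) (hqR : q ∉ R) : bq p z x q q ≠ 0 := fun h => hqR (E.aniso hq h)

theorem perp_lt {H : Subgroup Ω} (hH : H ≤ Q) (hRH : R ⊓ Q ≤ H) {q : Ω} (hq : q ∈ Q)
    (hc : p * Nat.card (R ⊓ Q : Subgroup Ω) < Nat.card H) :
    ∃ K : Subgroup Ω, K ≤ H ∧ R ⊓ Q ≤ K ∧ (∀ w ∈ K, bq p z x q w = 0) ∧ Nat.card H ≤ p * Nat.card K ∧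
      ∃ w ∈ K, w ∉ R := by
  have D := M.setup
  haveI := D.fin
  haveI := Fact.mk D.prime
  haveI := finite_of_le (S := S) (hH.trans D.hQS)
  let K : Subgroup Ω :=
    { carrier := {w | w ∈ H ∧ bq p z x q w = 0}
      one_mem' := ⟨one_mem _, by simpa using E.bq_pow_right hq hq 0⟩
      mul_mem' := fun {a b} ha hb => ⟨mul_mem ha.1 hb.1, by
        rw [E.bq_mul_right (hH ha.1) (hH hb.1) hq, ha.2, hb.2, add_zero]⟩
      inv_mem' := fun {a} ha => ⟨inv_mem ha.1, by
        have h := E.bq_mul_right (hH (inv_mem ha.1)) (hH ha.1) hq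
        rw [inv_mul_cancel, ha.2, add_zero] at h
        rw [← h]; simpa using E.bq_pow_right hq hq 0⟩ }
  have hKH : K ≤ H := fun w hw => hw.1
  have hcard : Nat.card H ≤ p * Nat.card K := by
    let φ : H →* Multiplicative (ZMod p) := MonoidHom.mk' (fun w => Multiplicative.ofAdd (bq p z x q w))
      fun a b => by rw [Subgroup.coe_mul, E.bq_mul_right (hH a.2) (hH b.2) hq]; rfl
    have hk : φ.ker = K.subgroupOf H := by
      ext w
      rw [MonoidHom.mem_ker, Subgroup.mem_subgroupOf]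
      exact ⟨fun h => ⟨w.2, Multiplicative.ofAdd.injective h⟩, fun h => congrArg Multiplicative.ofAdd h.2⟩
    have h1 := Subgroup.card_mul_index φ.ker
    rw [Subgroup.index_ker, hk, Nat.card_congr (Subgroup.subgroupOfEquivOfLe hKH).toEquiv] at h1
    have h2 : Nat.card φ.range ≤ p := (Subgroup.card_le_card_group _).trans_eq
      (by rw [Nat.card_congr Multiplicative.toAdd, Nat.card_zmod])
    rw [← h1, mul_comm p]
    exact Nat.mul_le_mul_left _ h2
  have hRK : R ⊓ Q ≤ K := fun w hw => ⟨hRH hw, by rw [← E.bq_symm hq hw.2]; exact E.bq_R hw.1 hw.2 hq⟩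
  refine ⟨K, hKH, hRK, fun w hw => hw.2, hcard, ?_⟩
  by_contra hn
  push Not at hn
  haveI := finite_of_le (S := S) (P := R ⊓ Q) (inf_le_right.trans D.hQS)
  have h3 := Subgroup.card_le_of_le (show K ≤ R ⊓ Q from fun w hw => ⟨hn w hw, hH (hKH hw)⟩)
  exact (lt_of_lt_of_le hc (hcard.trans (Nat.mul_le_mul_left p h3))).false

/-- `|Q| = p^5`, with an orthogonal basis of `Q` modulo `R`. -/
theorem exists_orth : Nat.card Q = p ^ 5 ∧ Nat.card (R ⊓ Q : Subgroup Ω) = p ^ 3 ∧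
    ∃ q1 q2, q1 ∈ Q ∧ q2 ∈ Q ∧ q1 * q2 = q2 * q1 ∧ bq p z x q1 q2 = 0 ∧ bq p z x q1 q1 ≠ 0 ∧
      bq p z x q2 q2 ≠ 0 ∧ ¬ IsSquare (-(bq p z x q2 q2) * bq p z x q1 q1) := by
  have D := M.setup
  haveI := D.fin
  haveI := D.finQ
  haveI := Fact.mk D.prime
  obtain ⟨n, hn2, hn, -⟩ := D.exists_card
  have hR0 : Nat.card (R ⊓ Q : Subgroup Ω) = p ^ (n + 1) := by
    have h : Nat.card (R ⊓ Q : Subgroup Ω) * Nat.card (R ⊓ Q : Subgroup Ω) = p ^ (n + 1) * p ^ (n + 1) := by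
      rw [E.card_inf_sq, hn]; ring
    exact Nat.mul_self_inj.1 h
  have hlt : ∀ i, n + 2 < i → p * Nat.card (R ⊓ Q : Subgroup Ω) < p ^ i := fun i hi => by
    rw [hR0, ← pow_succ']
    exact Nat.pow_lt_pow_right D.prime.one_lt hi
  obtain ⟨q1, hq1, hq1R⟩ : ∃ q ∈ Q, q ∉ R := by
    by_contra hc
    push Not at hc
    haveI := finite_of_le (S := S) (P := R ⊓ Q) (inf_le_right.trans D.hQS)
    have := Subgroup.card_le_of_le (show Q ≤ R ⊓ Q from fun w hw => ⟨hc w hw, hw⟩)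
    rw [hR0, hn, Nat.pow_le_pow_iff_right D.prime.one_lt] at this
    omega
  have hb1 := E.bq_self_ne hq1 hq1R
  obtain ⟨K, hKQ, hRK, hK, hKc, q2, hq2K, hq2R⟩ :=
    E.perp_lt le_rfl inf_le_right hq1 (hn ▸ hlt (2 * n + 1) (by omega))
  have hq2 := hKQ hq2K
  have hb2 := E.bq_self_ne hq2 hq2R
  have h12 := hK q2 hq2K
  have hn' : n = 2 := by
    by_contra hne
    have hKc' : p ^ (2 * n) ≤ Nat.card K := by
      rw [hn, pow_succ'] at hKc
      exact Nat.le_of_mul_le_mul_left hKc D.prime.pos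
    obtain ⟨K', hK'K, -, hK', -, q3, hq3K, hq3R⟩ :=
      E.perp_lt hKQ hRK hq2 ((hlt (2 * n) (by omega)).trans_le hKc')
    have hq3 := hKQ (hK'K hq3K)
    have h13 := hK q3 (hK'K hq3K)
    have h23 := hK' q3 hq3K
    have hb3 := E.bq_self_ne hq3 hq3R
    obtain ⟨u, v, huv⟩ := FiniteField.exists_root_sum_quadratic (R := ZMod p)
      (f := Polynomial.C (bq p z x q1 q1) * Polynomial.X ^ 2)
      (g := Polynomial.C (bq p z x q2 q2) * Polynomial.X ^ 2 - Polynomial.C (-bq p z x q3 q3))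
      (Polynomial.degree_C_mul_X_pow 2 hb1)
      (by rw [Polynomial.degree_sub_C (by rw [Polynomial.degree_C_mul_X_pow 2 hb2]; norm_num),
        Polynomial.degree_C_mul_X_pow 2 hb2]; rfl)
      (by rw [ZMod.card]; exact Nat.odd_iff.1 (D.prime.odd_of_ne_two D.odd))
    simp only [Polynomial.eval_mul, Polynomial.eval_C, Polynomial.eval_pow, Polynomial.eval_X,
      Polynomial.eval_sub] at huv
    set t := q1 ^ u.val * q2 ^ v.val
    have ht : t ∈ Q := mul_mem (pow_mem hq1 _) (pow_mem hq2 _)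
    have t1 : bq p z x t q3 = 0 := by
      rw [E.bq_mul_left (pow_mem hq1 _) (pow_mem hq2 _) hq3, E.bq_pow_left hq1 hq3,
        E.bq_pow_left hq2 hq3, h13, h23, mul_zero, mul_zero, add_zero]
    have h0 : bq p z x (t * q3) (t * q3) = 0 := by
      rw [E.bq_mul_left ht hq3 (mul_mem ht hq3), E.bq_mul_right ht hq3 ht, E.bq_mul_right ht hq3 hq3,
        t1, E.bq_symm ht hq3, t1, E.bq_mul_left (pow_mem hq1 _) (pow_mem hq2 _) ht,
        E.bq_mul_right (pow_mem hq1 _) (pow_mem hq2 _) (pow_mem hq1 _),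
        E.bq_mul_right (pow_mem hq1 _) (pow_mem hq2 _) (pow_mem hq2 _)]
      simp only [E.bq_pow_left hq1 (pow_mem hq1 _), E.bq_pow_left hq1 (pow_mem hq2 _),
        E.bq_pow_left hq2 (pow_mem hq1 _), E.bq_pow_left hq2 (pow_mem hq2 _),
        E.bq_pow_right hq1 hq1, E.bq_pow_right hq2 hq1, E.bq_pow_right hq1 hq2, E.bq_pow_right hq2 hq2,
        E.bq_symm hq1 hq2, h12, ZMod.natCast_zmod_val]
      linear_combination huv
    have h3 := E.bq_R (E.aniso (mul_mem ht hq3) h0) (mul_mem ht hq3) hq3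
    rw [E.bq_mul_left ht hq3 hq3, t1, zero_add] at h3
    exact hb3 h3
  subst hn'
  -- make the two elements commute
  have hc0 : omega p z ⁅x, q2⁆ q2 ≠ 0 := by
    rw [D.omega_swap hq2 (E.comm_x_Q hq2)]; exact neg_ne_zero.2 hb2
  set t := (-omega p z q1 q2 / omega p z ⁅x, q2⁆ q2).val
  set r := ⁅x, q2⁆ ^ t
  have hr : r ∈ R := pow_mem (E.comm_x_R hq2) t
  have hrQ : r ∈ Q := pow_mem (E.comm_x_Q hq2) t
  refine ⟨hn, hR0, q1 * r, q2, mul_mem hq1 hrQ, hq2, ?_, ?_, ?_, hb2, ?_⟩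
  · refine (D.omega_eq_zero (mul_mem hq1 hrQ) hq2).1 ?_
    rw [D.omega_mul_left hq1 hrQ hq2, D.omega_pow_left (E.comm_x_Q hq2) hq2, ZMod.natCast_zmod_val,
      div_mul_cancel₀ _ hc0, add_neg_cancel]
  · rw [E.bq_mul_left hq1 hrQ hq2, E.bq_R hr hrQ hq2, h12, add_zero]
  all_goals
    have e : bq p z x (q1 * r) (q1 * r) = bq p z x q1 q1 := by
      rw [E.bq_mul_left hq1 hrQ (mul_mem hq1 hrQ), E.bq_R hr hrQ (mul_mem hq1 hrQ), add_zero,
        E.bq_mul_right hq1 hrQ hq1, ← E.bq_symm hq1 hrQ, E.bq_R hr hrQ hq1, add_zero]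
    rw [e]
  · exact hb1
  · rintro ⟨s, hs⟩
    set b1 := bq p z x q1 q1
    set v := q1 ^ s.val * q2 ^ b1.val
    have hv : v ∈ Q := mul_mem (pow_mem hq1 _) (pow_mem hq2 _)
    have hvq : bq p z x v q2 = b1 * bq p z x q2 q2 := by
      rw [E.bq_mul_left (pow_mem hq1 _) (pow_mem hq2 _) hq2, E.bq_pow_left hq1 hq2, h12, mul_zero,
        zero_add, E.bq_pow_left hq2 hq2, ZMod.natCast_zmod_val]
    refine mul_ne_zero hb1 hb2 (hvq ▸ E.bq_R (E.aniso hv ?_) hv hq2)
    rw [E.bq_mul_right (pow_mem hq1 _) (pow_mem hq2 _) hv, E.bq_pow_right hq2 hv, hvq,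
      E.bq_mul_left (pow_mem hq1 _) (pow_mem hq2 _) (pow_mem hq1 _), E.bq_pow_right hq1 (pow_mem hq1 _),
      E.bq_pow_right hq1 (pow_mem hq2 _), E.bq_pow_left hq1 hq1, E.bq_pow_left hq2 hq1,
      E.bq_symm hq1 hq2, h12, ZMod.natCast_zmod_val, ZMod.natCast_zmod_val]
    linear_combination (-b1) * hs

end Quad

end Cfsg.Agent.ExtraspecialIndexP
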