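import Cfsg.Agent.Lib.ExtraspecialIndexP.CaseOut

/-
All moved points outside `Q` and some element of `Q` moves a moved point inside its coset of `⟨z⟩`.
Main results (namespace `Cfsg.Agent.ExtraspecialIndexP`): `Trans`, `Trans.R_eq`, `Trans.card_lev_one`,
`Trans.card_lev`, `Trans.normal_eq_lev`, `Trans.im1_eq_lev`.
-/

set_option autoImplicit false

universe u

namespace Cfsg.Agent.ExtraspecialIndexP

open Cfsg Cfsg.FusionSystem Cfsg.Agent.Fusion
open scoped commutatorElement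

variable {Ω : Type u} [Group Ω] {S : Subgroup Ω} {p : ℕ} {F : FusionSystem S} {Q : Subgroup Ω} {z : Ω}
variable {R : Subgroup Ω}

/-- The data of this case. -/
structure Trans (M : Mover F p Q z R) (x y : Ω) : Prop where
  out : M.AllOut
  moved : M.Moved x
  yQ : y ∈ Q
  comm : ⁅x, y⁆ ∈ Subgroup.zpowers z
  ne : ⁅x, y⁆ ≠ 1

namespace Trans

variable {M : Mover F p Q z R} {x y : Ω} (T : Trans M x y)
include T

theorem xR : x ∈ R := M.moved_mem T.moved

theorem xS : x ∈ S := M.hRS T.xR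

theorem xQ : x ∉ Q := T.out x T.moved

theorem y_comm {s : Ω} (hs : s ∈ S) : ⁅y, s⁆ ∈ Subgroup.zpowers z := by
  have D := M.setup
  let H : Subgroup Ω :=
    { carrier := {s | s ∈ S ∧ ⁅y, s⁆ ∈ Subgroup.zpowers z}
      one_mem' := ⟨one_mem _, by rw [commutatorElement_one_right]; exact one_mem _⟩
      mul_mem' := fun {a b} ha hb => ⟨mul_mem ha.1 hb.1, by
        rw [D.comm_mul_right ha.1 hb.2]; exact mul_mem ha.2 hb.2⟩
      inv_mem' := fun {a} ha => ⟨inv_mem ha.1, by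
        have e : ⁅y, a⁻¹⁆ = a⁻¹ * ⁅y, a⁆⁻¹ * a⁻¹⁻¹ := by simp only [commutatorElement_def]; group
        rw [e]
        exact D.conj_mem_zpowers (inv_mem ha.1) (inv_mem ha.2)⟩ }
  exact (D.le_of_mem T.xS T.xQ (H := H) (fun q hq => ⟨D.hQS hq, D.comm_mem T.yQ hq⟩)
    ⟨T.xS, by rw [← commutatorElement_inv]; exact inv_mem T.comm⟩ hs).2

theorem y_norm : y ∈ normalizerIn S R := by
  haveI := M.finR
  refine mem_normalizerIn_of_conj (M.setup.hQS T.yQ) fun r hr => ?_
  have e : y * r * y⁻¹ = ⁅y, r⁆ * r := by rw [commutatorElement_def, inv_mul_cancel_right]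
  rw [e]
  exact mul_mem (Subgroup.zpowers_le.2 M.zR (T.y_comm (M.hRS hr))) hr

theorem y_notR : y ∉ R := fun h =>
  T.ne (commutatorElement_eq_one_iff_mul_comm.2 (M.moved_comm T.moved h).symm)

/-- All moved points lie in `⟨x, z⟩`. -/
theorem moved_line {w : Ω} (hw : M.Moved w) :
    ∃ i : ℤ, ∃ v ∈ Subgroup.zpowers z, w = x ^ i * v := by
  have D := M.setup
  haveI := Fact.mk D.prime
  obtain ⟨⟨g, hg, hgz⟩, -⟩ := T.moved
  set a := normConj S R ⟨y, T.y_norm⟩
  have ha : a ∈ autInducedBy S R := M.normConj_mem T.y_norm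
  have haL : a ∈ F.autGroup R := autInducedBy_le_autGroup F le_rfl M.hRS ha
  set a' := g * a * g⁻¹
  have ha'L : a' ∈ F.autGroup R := mul_mem (mul_mem hg haL) (inv_mem hg)
  set xR : R := ⟨x, T.xR⟩
  have hgzR : g ⟨z, M.zR⟩ = xR := Subtype.ext (by rw [← autFn_apply g M.zR]; exact hgz)
  have hmove : ∀ r : R, ∃ k : ℤ, a' r = r * xR ^ k := by
    intro r
    set r' := g⁻¹ r
    have hc : ((r'⁻¹ * a r' : R) : Ω) ∈ Subgroup.zpowers z := by
      show (r' : Ω)⁻¹ * (y * r' * y⁻¹) ∈ _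
      have e : (r' : Ω)⁻¹ * (y * r' * y⁻¹) = (r' : Ω)⁻¹ * ⁅y, (r' : Ω)⁆ * (r' : Ω) := by
        simp only [commutatorElement_def]; group
      rw [e]
      simpa using D.conj_mem_zpowers (inv_mem (M.hRS r'.2)) (T.y_comm (M.hRS r'.2))
    obtain ⟨k, hk⟩ := Subgroup.mem_zpowers_iff.1 hc
    refine ⟨k, ?_⟩
    have e : a r' = r' * (⟨z, M.zR⟩ : R) ^ k := by
      rw [← inv_mul_eq_iff_eq_mul]; exact Subtype.ext (by rw [Subgroup.coe_zpow]; exact hk.symm)
    show g (a (g⁻¹ r)) = r * xR ^ k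
    rw [e, map_mul, map_zpow, hgzR, MulAut.apply_inv_self]
  have ha'x : a' xR = xR := by
    show g (a (g⁻¹ xR)) = xR
    rw [← hgzR, MulAut.inv_apply_self]
    congr 1
    exact Subtype.ext ((autFn_apply a M.zR).symm.trans (M.inducedBy_fix ha))
  set wR : R := ⟨w, M.moved_mem hw⟩
  obtain ⟨k, hk⟩ := hmove wR
  have hin : ∀ i : ℤ, ∀ v : Ω, v ∈ Subgroup.zpowers z → w = x ^ i * v →
      ∃ i : ℤ, ∃ v ∈ Subgroup.zpowers z, w = x ^ i * v := fun i v hv e => ⟨i, v, hv, e⟩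
  by_cases hk0 : (k : ZMod p) = 0
  · have hfix : a' wR = wR := by
      have hxk : xR ^ k = 1 := Subtype.ext (by
        rw [Subgroup.coe_zpow, Subgroup.coe_one]
        obtain ⟨d, rfl⟩ := (ZMod.intCast_zmod_eq_zero_iff_dvd k p).1 hk0
        rw [zpow_mul, zpow_natCast]
        show (x ^ p) ^ d = 1
        rw [M.moved_pow T.moved, one_zpow])
      rw [hk, hxk, mul_one]
    have h1 : a (g⁻¹ wR) = g⁻¹ wR := by
      apply g.injective
      rw [MulAut.apply_inv_self]
      exact hfix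
    rcases M.aut_moved hw (inv_mem hg) with h | h
    · refine absurd ?_ (M.moved_star h T.y_norm T.y_notR)
      rw [autFn_apply _ (M.moved_mem hw)]
      exact congrArg Subtype.val h1
    · obtain ⟨j, hj⟩ := Subgroup.mem_zpowers_iff.1 h
      refine hin j 1 (one_mem _) ?_
      have e : g⁻¹ wR = (⟨z, M.zR⟩ : R) ^ j := Subtype.ext (by
        rw [Subgroup.coe_zpow, ← autFn_apply _ (M.moved_mem hw)]; exact hj.symm)
      have e2 := congrArg g e
      rw [MulAut.apply_inv_self, map_zpow, hgzR] at e2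
      rw [mul_one]
      exact congrArg Subtype.val e2
  · obtain ⟨i, q, hq, hqR, hqx, e⟩ := M.out_decomp T.out T.moved (M.moved_mem hw)
    obtain ⟨j, hj⟩ := D.exists_mul_eq hk0 (-i)
    have hpow : (a' ^ j) wR = wR * (xR ^ k) ^ j :=
      transvection_pow (by rw [map_zpow, ha'x]) hk j
    have hval : autFn (a' ^ j) w = q := by
      rw [autFn_apply _ (M.moved_mem hw)]
      show (((a' ^ j) wR : R) : Ω) = q
      rw [hpow]
      show w * (x ^ k) ^ j = q
      have hxo : orderOf x = p := orderOf_eq_prime (M.moved_pow T.moved) fun e => T.moved.2 (e ▸ one_mem _)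
      have e' : (x ^ k) ^ j = x ^ (-i) := by
        rw [← zpow_natCast, ← zpow_mul, zpow_eq_zpow_iff_modEq, hxo, ← ZMod.intCast_eq_intCast_iff,
          mul_comm, hj]
      rw [e', e, mul_assoc, ((show Commute q x from hqx).zpow_right (-i)).eq, ← mul_assoc, ← zpow_add,
        add_neg_cancel, zpow_zero, one_mul]
    rcases M.aut_moved hw (pow_mem ha'L j) with h | h
    · exact absurd (hval ▸ hq) (T.out _ h)
    · exact hin i q (hval ▸ h) e

theorem norm_comm {q : Ω} (hq : q ∈ Q) (hn : q ∈ normalizerIn S R) : ⁅x, q⁆ ∈ Subgroup.zpowers z := by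
  have D := M.setup
  have hL := autInducedBy_le_autGroup F le_rfl M.hRS (M.normConj_mem hn)
  have hval : autFn (normConj S R ⟨q, hn⟩) x = q * x * q⁻¹ := by rw [autFn_apply _ T.xR]; rfl
  have hout : q * x * q⁻¹ ∉ Q := fun h => T.xQ (by
    have := D.conj_Q (inv_mem (D.hQS hq)) h
    simpa [mul_assoc] using this)
  rcases M.aut_moved T.moved hL with h | h
  · rw [hval] at h
    obtain ⟨i, v, hv, e⟩ := T.moved_line h
    have hc : ⁅q, x⁆ ∈ Q := D.comm_S_mem (D.hQS hq) T.xS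
    have e1 : x ^ (i - 1) ∈ Q := by
      have e2 : x ^ (i - 1) = x⁻¹ * ⁅q, x⁆ * x⁻¹⁻¹ * v⁻¹ := by
        have e3 : x ^ i = q * x * q⁻¹ * v⁻¹ := by rw [e, mul_inv_cancel_right]
        rw [sub_eq_neg_add, zpow_add, e3, commutatorElement_def]; group
      rw [e2]
      exact mul_mem (D.conj_Q (inv_mem T.xS) hc) (inv_mem (D.Z_le hv))
    have h1 := M.moved_zpow_mem_Q T.out T.moved e1
    have hxi : x ^ i = x := by
      haveI := Fact.mk D.prime
      have hxo : orderOf x = p := orderOf_eq_prime (M.moved_pow T.moved) fun e => T.moved.2 (e ▸ one_mem _)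
      conv_rhs => rw [← zpow_one x]
      rw [zpow_eq_zpow_iff_modEq, hxo, ← ZMod.intCast_eq_intCast_iff]
      simpa [sub_eq_zero] using h1
    rw [hxi, D.zpow_comm T.xS hv] at e
    have e4 : ⁅x, q⁆ = v⁻¹ := by
      have e5 : v = q * x * q⁻¹ * x⁻¹ := by rw [e, mul_inv_cancel_right]
      rw [e5, commutatorElement_def]; group
    rw [e4]; exact inv_mem hv
  · exact absurd (D.Z_le (hval ▸ h)) hout

theorem comm_mem_R {q : Ω} (hq : q ∈ Q) (h : ⁅x, q⁆ ∈ R) : ⁅x, q⁆ ∈ Subgroup.zpowers z := by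
  have D := M.setup
  haveI := M.finR
  refine T.norm_comm hq (mem_normalizerIn_of_conj (D.hQS hq) fun r hr => ?_)
  obtain ⟨k, q', hq', hq'R, -, rfl⟩ := M.out_decomp T.out T.moved hr
  have e1 : q * x * q⁻¹ ∈ R := by
    have e : q * x * q⁻¹ = ⁅x, q⁆⁻¹ * x := by simp only [commutatorElement_def]; group
    rw [e]; exact mul_mem (inv_mem h) T.xR
  have e2 : q * q' * q⁻¹ ∈ R := by
    have e : q * q' * q⁻¹ = ⁅q, q'⁆ * q' := by simp only [commutatorElement_def]; group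
    rw [e]; exact mul_mem (Subgroup.zpowers_le.2 M.zR (D.comm_mem hq hq')) hq'R
  have e : q * (x ^ k * q') * q⁻¹ = (q * x * q⁻¹) ^ k * (q * q' * q⁻¹) := by
    rw [conj_zpow]; group
  rw [e]
  exact mul_mem (zpow_mem e1 k) e2

theorem im1_inf_R {w : Ω} (hw : w ∈ im1 Q z x) (hwR : w ∈ R) : w ∈ Subgroup.zpowers z := by
  obtain ⟨q, hq, v, hv, rfl⟩ := (M.setup.mem_im1 T.xS le_rfl).1 hw
  have hvR : v ∈ R := Subgroup.zpowers_le.2 M.zR hv
  have h : ⁅x, q⁆ ∈ R := by
    have := mul_mem hwR (inv_mem hvR)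
    rwa [mul_inv_cancel_right] at this
  exact mul_mem (T.comm_mem_R hq h) hv

theorem exists_w : ∃ w ∈ im1 Q z x, w ∈ lev Q z x 1 ∧ w ∉ R := by
  have D := M.setup
  haveI := D.fin
  haveI := D.finQ
  haveI := Fact.mk D.prime
  classical
  have hx := T.xS
  -- the commutator subgroup is bigger than `⟨z⟩`
  have hne : ¬ im1 Q z x ≤ Subgroup.zpowers z := by
    intro hle
    have hall : lev Q z x 1 = Q := le_antisymm (D.lev_le_Q hx 1) fun q hq =>
      (D.mem_lev_succ hx 0).2 ⟨hq, hle ((D.mem_im1 hx le_rfl).2 ⟨q, hq, 1, one_mem _, (mul_one _).symm⟩)⟩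
    let c : Q →* Ω := MonoidHom.mk' (fun q => ⁅x, (q : Ω)⁆) fun a b => by
      have hb : ⁅x, (b : Ω)⁆ ∈ Subgroup.zpowers z := ((D.mem_lev_succ hx 0).1 (hall.ge b.2)).2
      exact D.comm_mul_right (D.hQS a.2) hb
    have hr : c.range ≤ Subgroup.zpowers z := by
      rintro _ ⟨q, rfl⟩; exact ((D.mem_lev_succ hx 0).1 (hall.ge q.2)).2
    have hk : c.ker.map Q.subtype ≤ R := by
      rintro _ ⟨q, hq, rfl⟩
      exact (M.moved_centralizer T.moved).2
        ⟨D.hQS q.2, (commutatorElement_eq_one_iff_mul_comm.1 hq).symm⟩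
    have h1 := Subgroup.card_mul_index c.ker
    rw [Subgroup.index_ker] at h1
    haveI : Finite (Subgroup.zpowers z) := finite_of_le (Subgroup.zpowers_le.2 D.z_memS)
    have h2 : Nat.card c.range ≤ p := D.card_Z ▸ Subgroup.card_le_of_le hr
    have h3 := D.card_abelian_sq (A := c.ker.map Q.subtype) (Subgroup.map_subtype_le _)
      (fun a ha b hb => M.out_abelian T.out a (hk ha) b (hk hb))
    rw [Subgroup.card_map_of_injective Q.subtype_injective] at h3
    obtain ⟨n, hn2, hn, -⟩ := D.exists_card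
    have h4 : Nat.card Q ≤ Nat.card c.ker * p := h1 ▸ Nat.mul_le_mul_left _ h2
    have h5 : Nat.card Q * Nat.card Q ≤ p * p * (p * Nat.card Q) := by
      calc Nat.card Q * Nat.card Q ≤ (Nat.card c.ker * p) * (Nat.card c.ker * p) := Nat.mul_le_mul h4 h4
        _ = p * p * (Nat.card c.ker * Nat.card c.ker) := by ring
        _ ≤ _ := Nat.mul_le_mul_left _ h3
    rw [hn] at h5
    have h6 : p ^ (2 * n + 1) * p ^ (2 * n + 1) ≤ p ^ (2 * n + 4) := h5.trans_eq (by ring)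
    rw [← pow_add, Nat.pow_le_pow_iff_right D.prime.one_lt] at h6
    omega
  have hex : ∃ i, ∃ w ∈ im1 Q z x, w ∈ lev Q z x i ∧ w ∉ Subgroup.zpowers z := by
    obtain ⟨w, hw, hwn⟩ := SetLike.not_le_iff_exists.1 hne
    exact ⟨p, w, hw, (D.lev_eq_top_of_pow_mem hx).ge (D.im1_le_Q hx le_rfl hw), hwn⟩
  obtain ⟨w, hw, hwl, hwn⟩ := Nat.find_spec hex
  refine ⟨w, hw, ?_, fun hR => hwn (T.im1_inf_R hw hR)⟩
  rcases hi : Nat.find hex with _ | i
  · rw [hi] at hwl; exact absurd hwl hwn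
  rw [hi] at hwl
  rcases i with _ | i
  · exact hwl
  have hc : ⁅x, w⁆ ∈ lev Q z x (i + 1) := ((D.mem_lev_succ hx (i + 1)).1 hwl).2
  refine (D.mem_lev_succ hx 0).2 ⟨D.im1_le_Q hx le_rfl hw, ?_⟩
  by_contra hcn
  refine Nat.find_min hex (show i + 1 < Nat.find hex by omega) ⟨⁅x, w⁆, ?_, hc, hcn⟩
  rw [commutatorElement_def]
  exact mul_mem (D.im1_conj hx T.xQ hx hw) (inv_mem hw)

theorem lev_one_abelian {a b : Ω} (ha : a ∈ lev Q z x 1) (hb : b ∈ lev Q z x 1) : a * b = b * a := by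
  have D := M.setup
  have hx := T.xS
  obtain ⟨w, hw, hwl, hwR⟩ := T.exists_w
  have key : ∀ c ∈ lev Q z x 1, ∃ r ∈ R, r ∈ lev Q z x 1 ∧ ∃ j : ℕ, c = r * w ^ j := by
    intro c hc
    obtain ⟨hcQ, hcx⟩ := (D.mem_lev_succ hx 0).1 hc
    obtain ⟨hwQ, hwx⟩ := (D.mem_lev_succ hx 0).1 hwl
    obtain ⟨i, hi⟩ := Subgroup.mem_zpowers_iff.1 hcx
    obtain ⟨k, hk⟩ := Subgroup.mem_zpowers_iff.1 hwx
    have hk0 : (k : ZMod p) ≠ 0 := fun h0 => hwR ((M.moved_centralizer T.moved).2 ⟨D.hQS hwQ, by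
      refine (commutatorElement_eq_one_iff_mul_comm.1 (?_ : ⁅x, w⁆ = 1)).symm
      rw [← hk, ← zpow_zero z]; exact D.zpow_eq_iff.2 (by simpa using h0)⟩)
    obtain ⟨j, hj⟩ := D.exists_mul_eq hk0 i
    have hwj : w ^ j ∈ lev Q z x 1 := pow_mem hwl j
    refine ⟨c * (w ^ j)⁻¹, (M.moved_centralizer T.moved).2 ⟨mul_mem (D.hQS hcQ) (inv_mem (D.hQS (pow_mem hwQ j))), ?_⟩,
      mul_mem hc (inv_mem hwj), j, by rw [inv_mul_cancel_right]⟩
    let H : Subgroup Ω := lev Q z x 1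
    let φ : H →* Ω := MonoidHom.mk' (fun q => ⁅x, (q : Ω)⁆) fun a b =>
      D.comm_mul_right (D.hQS (D.lev_le_Q hx 1 a.2)) ((D.mem_lev_succ hx 0).1 b.2).2
    have hφ : φ (⟨c, hc⟩ * ((⟨w, hwl⟩ : H) ^ j)⁻¹) = 1 := by
      rw [map_mul, map_inv, map_pow]
      show ⁅x, c⁆ * (⁅x, w⁆ ^ j)⁻¹ = 1
      rw [mul_inv_eq_one, ← hi, ← hk, ← zpow_natCast (z ^ k), ← zpow_mul]
      exact D.zpow_eq_iff.2 (by rw [mul_comm, hj])
    exact (commutatorElement_eq_one_iff_mul_comm.1 (show ⁅x, c * (w ^ j)⁻¹⁆ = 1 from hφ)).symm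
  obtain ⟨r, hrR, hrl, i, rfl⟩ := key a ha
  obtain ⟨r', hr'R, hr'l, j, rfl⟩ := key b hb
  have c1 : Commute r r' := M.out_abelian T.out r hrR r' hr'R
  have c2 : Commute r w := D.im1_comm hx hw hrl
  have c3 : Commute r' w := D.im1_comm hx hw hr'l
  exact ((c1.mul_right (c2.pow_right j)).mul_left
    ((c3.symm.pow_left i).mul_right ((Commute.refl w).pow_pow i j))).eq

theorem inf_eq : R ⊓ Q = Subgroup.zpowers z := by
  have D := M.setup
  have hx := T.xS
  refine le_antisymm (fun r hr => T.im1_inf_R ?_ hr.1) (le_inf (Subgroup.zpowers_le.2 M.zR) D.Z_le)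
  rw [D.im1_eq_centralizer hx]
  have hrl : r ∈ lev Q z x 1 := (D.mem_lev_succ hx 0).2 ⟨hr.2, by
    rw [commutatorElement_eq_one_iff_mul_comm.2 (M.moved_comm T.moved hr.1).symm]
    exact one_mem _⟩
  exact ⟨hr.2, Subgroup.mem_centralizer_iff.2 fun b hb => T.lev_one_abelian hb hrl⟩

theorem comm_eq_one {q : Ω} (hq : q ∈ Q) (h : ⁅x, q⁆ = 1) : q ∈ Subgroup.zpowers z :=
  T.inf_eq.le ((M.mem_inf_iff T.out T.moved).2 ⟨hq, (commutatorElement_eq_one_iff_mul_comm.1 h).symm⟩)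

theorem card_R : Nat.card R = p * p := by
  have D := M.setup
  haveI := D.fin
  haveI := M.finR
  haveI := Fact.mk D.prime
  refine le_antisymm ?_ ?_
  · have := D.card_le_mul_inf M.hRS
    rwa [T.inf_eq, D.card_Z] at this
  · have hlt : (Subgroup.zpowers z).subgroupOf S < R.subgroupOf S := by
      refine lt_of_le_of_ne (fun w hw => Subgroup.zpowers_le.2 M.zR hw) fun e => T.xQ ?_
      have : (⟨x, T.xS⟩ : S) ∈ (Subgroup.zpowers z).subgroupOf S := e.symm ▸ T.xR
      exact D.Z_le this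
    have := PGroup.mul_card_le_of_lt D.hS hlt
    rwa [Nat.card_congr (Subgroup.subgroupOfEquivOfLe (Subgroup.zpowers_le.2 D.z_memS)).toEquiv, D.card_Z,
      Nat.card_congr (Subgroup.subgroupOfEquivOfLe M.hRS).toEquiv] at this

theorem mem_R_iff {r : Ω} : r ∈ R ↔ ∃ k : ℤ, ∃ v ∈ Subgroup.zpowers z, r = x ^ k * v := by
  refine ⟨fun hr => ?_, fun ⟨k, v, hv, e⟩ => e ▸ mul_mem (zpow_mem T.xR k) (Subgroup.zpowers_le.2 M.zR hv)⟩
  obtain ⟨k, q, hq, hqR, -, e⟩ := M.out_decomp T.out T.moved hr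
  exact ⟨k, q, T.inf_eq.le ⟨hqR, hq⟩, e⟩

theorem card_lev_one : Nat.card (lev Q z x 1) = p * p := by
  have D := M.setup
  have hx := T.xS
  haveI := D.fin
  haveI := Fact.mk D.prime
  let φ : (lev Q z x 1) →* Subgroup.zpowers z :=
    MonoidHom.mk' (fun q => ⟨⁅x, (q : Ω)⁆, ((D.mem_lev_succ hx 0).1 q.2).2⟩) fun a b => Subtype.ext
      (D.comm_mul_right (D.hQS (D.lev_le_Q hx 1 a.2)) ((D.mem_lev_succ hx 0).1 b.2).2)
  have hk : φ.ker = (Subgroup.zpowers z).subgroupOf (lev Q z x 1) := by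
    ext q
    rw [MonoidHom.mem_ker, Subgroup.mem_subgroupOf]
    refine ⟨fun h => T.comm_eq_one (D.lev_le_Q hx 1 q.2) (congrArg Subtype.val h), fun h => Subtype.ext ?_⟩
    exact commutatorElement_eq_one_iff_mul_comm.2 (D.zpow_comm hx h)
  have h1 := Subgroup.card_mul_index φ.ker
  rw [Subgroup.index_ker, hk, Nat.card_congr (Subgroup.subgroupOfEquivOfLe (D.Z_le_lev hx 1)).toEquiv,
    D.card_Z] at h1
  rw [← h1]
  congr 1
  haveI : Finite (Subgroup.zpowers z) := finite_of_le (Subgroup.zpowers_le.2 D.z_memS)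
  rcases (Nat.dvd_prime D.prime).1 (D.card_Z ▸ Subgroup.card_subgroup_dvd_card φ.range) with h | h
  · exfalso
    have h2 : φ ⟨y, (D.mem_lev_succ hx 0).2 ⟨T.yQ, T.comm⟩⟩ ∈ φ.range := ⟨_, rfl⟩
    rw [Subgroup.eq_bot_of_card_eq _ h, Subgroup.mem_bot] at h2
    exact T.ne (congrArg Subtype.val h2)
  · exact h

theorem card_lev_succ_le (i : ℕ) : Nat.card (lev Q z x (i + 1)) ≤ p * Nat.card (lev Q z x i) := by
  have D := M.setup
  have hx := T.xS
  haveI := D.fin
  haveI := finite_of_le (S := S) (D.lev_le_S hx i)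
  have h := D.card_im1 hx (D.lev_le_Q hx (i + 1))
  rw [inf_eq_right.2 (D.lev_mono hx (by omega : 1 ≤ i + 1)), T.card_lev_one] at h
  have hle : im1 (lev Q z x (i + 1)) z x ≤ lev Q z x i := by
    intro w hw
    obtain ⟨a, ha, v, hv, rfl⟩ := (D.mem_im1 hx (D.lev_le_Q hx (i + 1))).1 hw
    exact mul_mem ((D.mem_lev_succ hx i).1 ha).2 (D.Z_le_lev hx i hv)
  have h2 := Nat.mul_le_mul_right (p * p) (Subgroup.card_le_of_le hle)
  rw [h] at h2
  refine Nat.le_of_mul_le_mul_left (h2.trans_eq ?_) D.prime.pos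
  ring

theorem card_lev {n : ℕ} (hn : Nat.card Q = p ^ (2 * n + 1)) :
    ∀ i ≤ 2 * n, Nat.card (lev Q z x i) = p ^ (i + 1) := by
  have D := M.setup
  have hx := T.xS
  haveI := D.fin
  haveI := D.finQ
  haveI := Fact.mk D.prime
  intro i
  induction i with
  | zero => intro _; show Nat.card (Subgroup.zpowers z) = _; rw [D.card_Z, zero_add, pow_one]
  | succ i ih =>
    intro hi
    have hI := ih (by omega)
    refine le_antisymm ?_ ?_
    · refine (T.card_lev_succ_le i).trans_eq ?_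
      rw [hI]; ring
    · have hlt : (lev Q z x i).subgroupOf S < (lev Q z x (i + 1)).subgroupOf S := by
        refine lt_of_le_of_ne (fun w hw => D.lev_le_succ hx i hw) fun e => ?_
        have e' : lev Q z x i = lev Q z x (i + 1) := by
          rw [← Subgroup.map_subgroupOf_eq_of_le (D.lev_le_S hx i), e,
            Subgroup.map_subgroupOf_eq_of_le (D.lev_le_S hx (i + 1))]
        have hconst : ∀ j, lev Q z x (i + j) = lev Q z x i := by
          intro j
          induction j with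
          | zero => rfl
          | succ j ihj =>
            ext q
            rw [← add_assoc, D.mem_lev_succ hx, ihj, ← D.mem_lev_succ hx, ← e']
        have htop : lev Q z x i = Q := by
          refine le_antisymm (D.lev_le_Q hx i) ?_
          rw [← hconst p]
          exact (D.lev_eq_top_of_pow_mem hx).ge.trans (D.lev_mono hx (by omega))
        have h' := congrArg (fun H : Subgroup Ω => Nat.card H) htop
        simp only [hI, hn] at h'
        have := Nat.pow_right_injective D.prime.two_le h'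
        omega
      have := PGroup.mul_card_le_of_lt D.hS hlt
      rw [Nat.card_congr (Subgroup.subgroupOfEquivOfLe (D.lev_le_S hx i)).toEquiv, hI,
        Nat.card_congr (Subgroup.subgroupOfEquivOfLe (D.lev_le_S hx (i + 1))).toEquiv] at this
      exact le_trans (le_of_eq (by ring)) this

theorem lev_top {n : ℕ} (hn : Nat.card Q = p ^ (2 * n + 1)) : lev Q z x (2 * n) = Q :=
  haveI := M.setup.fin
  eq_of_le_of_card M.setup.hQS (M.setup.lev_le_Q T.xS _) (by rw [T.card_lev hn _ le_rfl, hn])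

/-- An element of level `j+1` in a subgroup normalized by `x` brings the whole level. -/
theorem lev_le_of_mem {A : Subgroup Ω} (hzA : Subgroup.zpowers z ≤ A)
    (hA : ∀ a ∈ A, x * a * x⁻¹ ∈ A) {n : ℕ} (hn : Nat.card Q = p ^ (2 * n + 1)) :
    ∀ j, j + 1 ≤ 2 * n → ∀ a ∈ A, a ∈ lev Q z x (j + 1) → a ∉ lev Q z x j → lev Q z x (j + 1) ≤ A := by
  have D := M.setup
  have hx := T.xS
  haveI := D.fin
  haveI := Fact.mk D.prime
  intro j
  induction j with
  | zero =>
    intro h2n a ha hal han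
    exact (haux 0 h2n a ha hal han hzA)
  | succ j ih =>
    intro h2n a ha hal han
    refine haux (j + 1) h2n a ha hal han ?_
    have hc : ⁅x, a⁆ ∈ A := by
      rw [commutatorElement_def]; exact mul_mem (hA a ha) (inv_mem ha)
    exact ih (by omega) _ hc ((D.mem_lev_succ hx (j + 1)).1 hal).2
      fun h => han ((D.mem_lev_succ hx j).2 ⟨D.lev_le_Q hx _ hal, h⟩)
where
  haux (j : ℕ) (h2n : j + 1 ≤ 2 * n) (a : Ω) (ha : a ∈ A) (hal : a ∈ lev Q z x (j + 1))
      (han : a ∉ lev Q z x j) (hle : lev Q z x j ≤ A) : lev Q z x (j + 1) ≤ A := by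
    have D := M.setup
    have hx := T.xS
    haveI := D.fin
    haveI := Fact.mk D.prime
    have hlt : (lev Q z x j).subgroupOf S < (A ⊓ lev Q z x (j + 1)).subgroupOf S := by
      refine lt_of_le_of_ne (fun w hw => ⟨hle hw, D.lev_le_succ hx j hw⟩) fun e => han ?_
      have : (⟨a, D.lev_le_S hx _ hal⟩ : S) ∈ (lev Q z x j).subgroupOf S := e.symm ▸ ⟨ha, hal⟩
      exact this
    have h := PGroup.mul_card_le_of_lt D.hS hlt
    rw [Nat.card_congr (Subgroup.subgroupOfEquivOfLe (D.lev_le_S hx j)).toEquiv,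
      Nat.card_congr (Subgroup.subgroupOfEquivOfLe (inf_le_right.trans (D.lev_le_S hx (j + 1)) :
        A ⊓ lev Q z x (j + 1) ≤ S)).toEquiv, T.card_lev hn j (by omega)] at h
    refine inf_eq_right.1 (eq_of_le_of_card (D.lev_le_S hx (j + 1)) inf_le_right ?_)
    rw [T.card_lev hn (j + 1) h2n]
    exact le_trans (le_of_eq (by ring)) h

/-- A subgroup of `Q` containing `z` and normalized by `x` is a level. -/
theorem eq_lev {A : Subgroup Ω} (hAQ : A ≤ Q) (hzA : Subgroup.zpowers z ≤ A)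
    (hA : ∀ a ∈ A, x * a * x⁻¹ ∈ A) {n : ℕ} (hn : Nat.card Q = p ^ (2 * n + 1)) {k : ℕ} (hk : k ≤ 2 * n)
    (hcard : Nat.card A = p ^ (k + 1)) : A = lev Q z x k := by
  have D := M.setup
  have hx := T.xS
  haveI := D.fin
  haveI := Fact.mk D.prime
  haveI := finite_of_le (S := S) (hAQ.trans D.hQS)
  haveI := finite_of_le (S := S) (D.lev_le_S hx k)
  refine eq_of_le_of_card (D.lev_le_S hx k) (fun a ha => ?_) (by rw [hcard, T.card_lev hn k hk])
  by_contra hak
  classical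
  have hex : ∃ j, a ∈ lev Q z x j := ⟨2 * n, (T.lev_top hn).ge (hAQ ha)⟩
  have hj2 : Nat.find hex ≤ 2 * n := Nat.find_min' hex ((T.lev_top hn).ge (hAQ ha))
  have hkj : k < Nat.find hex := lt_of_not_ge fun h => hak (D.lev_mono hx h (Nat.find_spec hex))
  obtain ⟨j, hj⟩ : ∃ j, Nat.find hex = j + 1 := ⟨Nat.find hex - 1, by omega⟩
  have hle := T.lev_le_of_mem hzA hA hn j (by omega) a ha (hj ▸ Nat.find_spec hex)
    (Nat.find_min hex (by omega))
  have := Subgroup.card_le_of_le hle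
  rw [hcard, T.card_lev hn (j + 1) (by omega), Nat.pow_le_pow_iff_right D.prime.one_lt] at this
  omega

theorem im1_eq_lev {n : ℕ} (hn : Nat.card Q = p ^ (2 * n + 1)) (hn1 : 1 ≤ n) :
    im1 Q z x = lev Q z x (2 * n - 1) := by
  have D := M.setup
  have hx := T.xS
  refine T.eq_lev (D.im1_le_Q hx le_rfl) (fun v hv => (D.mem_im1 hx le_rfl).2 ⟨1, one_mem _, v, hv, by simp⟩)
    (fun a ha => D.im1_conj hx T.xQ hx ha) hn (by omega) ?_
  have h := D.card_im1 hx (le_refl Q)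
  rw [inf_eq_right.2 (D.lev_le_Q hx 1), T.card_lev_one, hn] at h
  refine Nat.eq_of_mul_eq_mul_right (Nat.mul_pos D.prime.pos D.prime.pos) (h.trans ?_)
  rw [show 2 * n - 1 + 1 = 2 * n by omega]
  ring

end Trans

end Cfsg.Agent.ExtraspecialIndexP
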