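import Cfsg.Agent.Lib.ExtraspecialIndexP.Setup

/-
Groups of order at most `p^6` given by a frame of six generators, and comparison with a model group.
Main results (namespace `Cfsg.Agent.ExtraspecialIndexP`): `Frame`, `cL`, `eL`, `cU`, `eU`, `cG`, `eG`,
`Frame.card_closure_le`, `Frame.exists_equiv_sylow`.
-/

set_option autoImplicit false

namespace Cfsg.Agent.ExtraspecialIndexP

open scoped commutatorElement

/-- The product `q₀^e₀ q₁^e₁ q₂^e₂ q₃^e₃`. -/
def wordQ {G : Type*} [Group G] (e : Fin 4 → ℤ) (q : Fin 4 → G) : G :=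
  q 0 ^ e 0 * q 1 ^ e 1 * q 2 ^ e 2 * q 3 ^ e 3

/-- Six elements `x, z, q i` with prescribed commutators. -/
structure Frame {G : Type*} [Group G] (p : ℕ) (c e : Fin 4 → Fin 4 → ℤ) (x z : G) (q : Fin 4 → G) : Prop where
  xp : x ^ p = 1
  zp : z ^ p = 1
  qp : ∀ i, q i ^ p = 1
  xz : x * z = z * x
  qz : ∀ i, q i * z = z * q i
  qq : ∀ i j, i < j → ⁅q i, q j⁆ = z ^ c i j
  xq : ∀ i, ⁅x, q i⁆ = wordQ (e i) q

/-- The commutator exponents of the linear frame. -/
def cL : Fin 4 → Fin 4 → ℤ := ![![0, 0, 0, 1], ![0, 0, -1, 0], ![0, 0, 0, 0], ![0, 0, 0, 0]]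
/-- The action exponents of the linear frame. -/
def eL : Fin 4 → Fin 4 → ℤ := ![![0, 0, -1, 0], ![0, 0, 0, 1], ![0, 0, 0, 0], ![0, 0, 0, 0]]
/-- The commutator exponents of the unitary frame. -/
def cU (ν : ℤ) : Fin 4 → Fin 4 → ℤ := ![![0, 0, 1, 0], ![0, 0, 0, -ν], ![0, 0, 0, 0], ![0, 0, 0, 0]]
/-- The action exponents of the unitary frame. -/
def eU : Fin 4 → Fin 4 → ℤ := ![![0, 0, 1, 0], ![0, 0, 0, 1], ![0, 0, 0, 0], ![0, 0, 0, 0]]
/-- The commutator exponents of the one-block frame. -/
def cG : Fin 4 → Fin 4 → ℤ := ![![0, 0, 1, 1], ![0, 0, -1, 0], ![0, 0, 0, 0], ![0, 0, 0, 0]]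
/-- The action exponents of the one-block frame. -/
def eG : Fin 4 → Fin 4 → ℤ := ![![0, 1, 0, 0], ![0, 0, 1, 0], ![0, 0, 0, 1], ![0, 0, 0, 0]]

namespace Frame

variable {G : Type*} [Group G] {p : ℕ} {c e : Fin 4 → Fin 4 → ℤ} {x z : G} {q : Fin 4 → G}

theorem card_closure_le (hF : Frame p c e x z q) (hp : 0 < p) :
    Finite (Subgroup.closure (Set.range q ∪ {z, x}) : Subgroup G) ∧
      Nat.card (Subgroup.closure (Set.range q ∪ {z, x}) : Subgroup G) ≤ p ^ 6 := by
  -- the subgroup without `x`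
  have step : ∀ (H : Subgroup G) (i : Fin 4), z ∈ H → Finite H →
      (∀ g ∈ H, g ∈ Subgroup.closure (Set.range q ∪ {z})) →
      (∀ h ∈ H, ∀ k : ℤ, q i ^ k * h * (q i ^ k)⁻¹ ∈ H) →
      Finite (H ⊔ Subgroup.zpowers (q i) : Subgroup G) ∧
        Nat.card (H ⊔ Subgroup.zpowers (q i) : Subgroup G) ≤ Nat.card H * p := by
    intro H i _ hfin _ hn
    refine card_sup_zpowers_le hp (hF.qp i) (Subgroup.mem_normalizer_iff.2 fun h => ⟨fun hh => ?_, fun hh => ?_⟩)
    · simpa using hn h hh 1
    · simpa [mul_assoc] using hn _ hh (-1)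
  have hzc : ∀ g ∈ Subgroup.closure (Set.range q ∪ {z}), g * z = z * g := by
    intro g hg
    induction hg using Subgroup.closure_induction with
    | mem g hg =>
      rcases hg with ⟨i, rfl⟩ | rfl
      · exact hF.qz i
      · rfl
    | one => rw [one_mul, mul_one]
    | mul a b _ _ ha hb => rw [mul_assoc, hb, ← mul_assoc, ha, mul_assoc]
    | inv a _ ha => exact (show Commute a z from ha).inv_left
  have hcomm : ∀ i j, ⁅q i, q j⁆ ∈ Subgroup.zpowers z := by
    intro i j
    rcases lt_trichotomy i j with h | h | h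
    · rw [hF.qq i j h]; exact zpow_mem (Subgroup.mem_zpowers z) _
    · rw [h, commutatorElement_self]; exact one_mem _
    · rw [← commutatorElement_inv, hF.qq j i h]; exact inv_mem (zpow_mem (Subgroup.mem_zpowers z) _)
  -- subgroups generated by `z` and some of the `q i` are normalized by each `q j`
  have hnorm : ∀ (s : Set G), s ⊆ Set.range q ∪ {z} → z ∈ Subgroup.closure s →
      ∀ i, ∀ h ∈ Subgroup.closure s, ∀ k : ℤ, q i ^ k * h * (q i ^ k)⁻¹ ∈ Subgroup.closure s := by
    intro s hs hz i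
    have h1 : ∀ h ∈ Subgroup.closure s, q i * h * (q i)⁻¹ ∈ Subgroup.closure s ∧
        (q i)⁻¹ * h * q i ∈ Subgroup.closure s := by
      intro h hh
      induction hh using Subgroup.closure_induction with
      | mem h hh =>
        rcases hs hh with ⟨j, rfl⟩ | rfl
        · obtain ⟨k, hk⟩ := Subgroup.mem_zpowers_iff.1 (hcomm i j)
          have hzj : (q i)⁻¹ * z = z * (q i)⁻¹ :=
            (show Commute (q i) z from hF.qz i).inv_left
          constructor
          · have e1 : q i * q j * (q i)⁻¹ = ⁅q i, q j⁆ * q j := by rw [commutatorElement_def, inv_mul_cancel_right]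
            rw [e1, ← hk]
            exact mul_mem (zpow_mem hz k) (Subgroup.subset_closure hh)
          · have e1 : (q i)⁻¹ * q j * q i = (q i)⁻¹ * ⁅q i, q j⁆⁻¹ * q i * q j := by
              simp only [commutatorElement_def]; group
            rw [e1, ← hk, ← zpow_neg, ((show Commute (q i)⁻¹ z from hzj).zpow_right (-k)).eq,
              inv_mul_cancel_right]
            exact mul_mem (zpow_mem hz _) (Subgroup.subset_closure hh)
        · constructor
          · rw [hF.qz i, mul_inv_cancel_right]; exact Subgroup.subset_closure hh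
          · rw [mul_assoc, ← hF.qz i, inv_mul_cancel_left]; exact Subgroup.subset_closure hh
      | one => simp
      | mul a b _ _ ha hb =>
        constructor
        · have := mul_mem ha.1 hb.1; simpa [mul_assoc] using this
        · have := mul_mem ha.2 hb.2; simpa [mul_assoc] using this
      | inv a _ ha =>
        constructor
        · have := inv_mem ha.1; simpa [mul_assoc] using this
        · have := inv_mem ha.2; simpa [mul_assoc] using this
    intro h hh k
    induction k with
    | zero => simpa using hh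
    | succ k ih =>
      have := (h1 _ ih).1
      rw [add_comm, zpow_one_add, mul_inv_rev]
      simpa [mul_assoc] using this
    | pred k ih =>
      have := (h1 _ ih).2
      rw [sub_eq_neg_add, zpow_add, zpow_neg_one, mul_inv_rev, inv_inv]
      simpa [mul_assoc] using this
  -- the chain
  let N : Subgroup G := Subgroup.zpowers z ⊔ Subgroup.zpowers (q 3) ⊔ Subgroup.zpowers (q 2) ⊔
    Subgroup.zpowers (q 1) ⊔ Subgroup.zpowers (q 0)
  have gen : ∀ (s : Set G) (a : G), Subgroup.closure s ⊔ Subgroup.zpowers a = Subgroup.closure (s ∪ {a}) := by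
    intro s a; rw [Subgroup.closure_union, Subgroup.zpowers_eq_closure]
  have hz0 : Finite (Subgroup.zpowers z) ∧ Nat.card (Subgroup.zpowers z) ≤ p := by
    have hfo : IsOfFinOrder z := isOfFinOrder_iff_pow_eq_one.2 ⟨p, hp, hF.zp⟩
    exact ⟨hfo.finite_zpowers, by rw [Nat.card_zpowers]; exact orderOf_le_of_pow_eq_one hp hF.zp⟩
  have e0 : Subgroup.zpowers z = Subgroup.closure ({z} : Set G) := Subgroup.zpowers_eq_closure z
  have chain : ∀ (s : Set G) (i : Fin 4) (b : ℕ), s ⊆ Set.range q ∪ {z} → z ∈ Subgroup.closure s →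
      Finite (Subgroup.closure s) ∧ Nat.card (Subgroup.closure s) ≤ b →
      Finite (Subgroup.closure (s ∪ {q i})) ∧ Nat.card (Subgroup.closure (s ∪ {q i})) ≤ b * p := by
    intro s i b hs hz ⟨hfin, hb⟩
    rw [← gen]
    obtain ⟨h1, h2⟩ := step _ i hz hfin (fun g hg => Subgroup.closure_mono hs hg) (hnorm s hs hz i)
    exact ⟨h1, h2.trans (Nat.mul_le_mul_right p hb)⟩
  have h1 := chain {z} 3 p (by simp) (Subgroup.subset_closure rfl) (e0 ▸ hz0)
  have h2 := chain _ 2 _ (by simp [Set.subset_def]) (Subgroup.subset_closure (by simp)) h1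
  have h3 := chain _ 1 _ (by simp [Set.subset_def]) (Subgroup.subset_closure (by simp)) h2
  have h4 := chain _ 0 _ (by simp [Set.subset_def]) (Subgroup.subset_closure (by simp)) h3
  have hset : ({z} ∪ {q 3} ∪ {q 2} ∪ {q 1} ∪ {q 0} : Set G) = Set.range q ∪ {z} := by
    ext g
    simp only [Set.mem_union, Set.mem_singleton_iff, Set.mem_range]
    constructor
    · rintro ((((h | h) | h) | h) | h)
      · exact Or.inr h
      all_goals exact Or.inl ⟨_, h.symm⟩
    · rintro (⟨i, rfl⟩ | h)
      · fin_cases i <;> simp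
      · simp [h]
  rw [hset] at h4
  obtain ⟨hfin, hcard⟩ := h4
  have hxn : x ∈ Subgroup.normalizer ((Subgroup.closure (Set.range q ∪ {z})) : Set G) := by
    haveI := hfin
    set H := Subgroup.closure (Set.range q ∪ {z})
    have hmap : H.map (MulAut.conj x).toMonoidHom ≤ H := by
      rw [MonoidHom.map_closure, Subgroup.closure_le]
      rintro _ ⟨g, hg, rfl⟩
      show x * g * x⁻¹ ∈ H
      rcases hg with ⟨i, rfl⟩ | rfl
      · have e1 : x * q i * x⁻¹ = ⁅x, q i⁆ * q i := by rw [commutatorElement_def, inv_mul_cancel_right]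
        rw [e1, hF.xq i, wordQ]
        have hq : ∀ j, q j ∈ H := fun j => Subgroup.subset_closure (Or.inl ⟨j, rfl⟩)
        exact mul_mem (mul_mem (mul_mem (mul_mem (zpow_mem (hq 0) _) (zpow_mem (hq 1) _))
          (zpow_mem (hq 2) _)) (zpow_mem (hq 3) _)) (hq i)
      · rw [hF.xz, mul_inv_cancel_right]; exact Subgroup.subset_closure (Or.inr rfl)
    have heq : H.map (MulAut.conj x).toMonoidHom = H :=
      Subgroup.eq_of_le_of_card_ge hmap (by rw [Subgroup.card_map_of_injective (MulAut.conj x).injective])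
    refine Subgroup.mem_normalizer_iff.2 fun h => ⟨fun hh => heq.le ⟨h, hh, rfl⟩, fun hh => ?_⟩
    obtain ⟨h', hh', e1⟩ := heq.ge hh
    rwa [← (MulAut.conj x).injective e1]
  haveI := hfin
  have h5 := card_sup_zpowers_le hp hF.xp hxn
  rw [gen, Set.union_assoc, show ({z} ∪ {x} : Set G) = {z, x} by ext; simp [or_comm]] at h5
  refine ⟨h5.1, h5.2.trans ?_⟩
  calc Nat.card (Subgroup.closure (Set.range q ∪ {z})) * p ≤ p * p * p * p * p * p :=
        Nat.mul_le_mul_right p hcard
    _ = p ^ 6 := by ring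

theorem prod {M : Type*} [Group M] {x' z' : M} {q' : Fin 4 → M} (hF : Frame p c e x z q)
    (hM : Frame p c e x' z' q') : Frame p c e (x, x') (z, z') (fun i => (q i, q' i)) where
  xp := Prod.ext hF.xp hM.xp
  zp := Prod.ext hF.zp hM.zp
  qp i := Prod.ext (hF.qp i) (hM.qp i)
  xz := Prod.ext hF.xz hM.xz
  qz i := Prod.ext (hF.qz i) (hM.qz i)
  qq i j h := Prod.ext (by simpa [commutatorElement_def] using hF.qq i j h)
    (by simpa [commutatorElement_def] using hM.qq i j h)
  xq i := Prod.ext (by simpa [wordQ, commutatorElement_def] using hF.xq i)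
    (by simpa [wordQ, commutatorElement_def] using hM.xq i)

/-- Two frames with the same exponents give an embedding of the first group onto a Sylow subgroup. -/
theorem exists_equiv_sylow {M : Type*} [Group M] [Finite M] [Fact p.Prime] {x' z' : M} {q' : Fin 4 → M}
    (hF : Frame p c e x z q) (hgen : Subgroup.closure (Set.range q ∪ {z, x}) = ⊤) [Finite G]
    (hG : IsPGroup p G) (hcard : Nat.card G = p ^ 6) (hZ : Subgroup.center G ≤ Subgroup.zpowers z)
    (hM : Frame p c e x' z' q') (hz' : z' ≠ 1) (hdvd : ¬ p ^ 7 ∣ Nat.card M) :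
    ∃ P : Sylow p M, Nonempty (G ≃* (P : Subgroup M)) := by
  have hp : p.Prime := Fact.out
  obtain ⟨hfin, hle⟩ := (hF.prod hM).card_closure_le hp.pos
  set H := Subgroup.closure (Set.range (fun i => (q i, q' i)) ∪ {(z, z'), (x, x')} : Set (G × M))
  set π : H →* G := (MonoidHom.fst G M).comp H.subtype
  have hsur : Function.Surjective π := by
    rw [← MonoidHom.range_eq_top, eq_top_iff, ← hgen, Subgroup.closure_le]
    rintro g (⟨i, rfl⟩ | rfl | rfl)
    · exact ⟨⟨(q i, q' i), Subgroup.subset_closure (Or.inl ⟨i, rfl⟩)⟩, rfl⟩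
    · exact ⟨⟨(g, z'), Subgroup.subset_closure (Or.inr (Or.inl rfl))⟩, rfl⟩
    · exact ⟨⟨(g, x'), Subgroup.subset_closure (Or.inr (Or.inr rfl))⟩, rfl⟩
  have hbij : Function.Bijective π :=
    (Nat.bijective_iff_surjective_and_card π).2 ⟨hsur, le_antisymm (hle.trans_eq hcard.symm)
      (Nat.card_le_card_of_surjective π hsur)⟩
  set eq := MulEquiv.ofBijective π hbij
  set φ : G →* M := ((MonoidHom.snd G M).comp H.subtype).comp eq.symm.toMonoidHom
  have hφz : φ z = z' := by
    have h : eq.symm z = ⟨(z, z'), Subgroup.subset_closure (Or.inr (Or.inl rfl))⟩ := eq.symm_apply_eq.2 rfl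
    show ((eq.symm z : H) : G × M).2 = z'
    rw [h]
  have hinj : Function.Injective φ := by
    rw [← MonoidHom.ker_eq_bot_iff]
    by_contra hne
    obtain ⟨g, hg1⟩ := Subgroup.ne_bot_iff_exists_ne_one.1 (PGroup.inf_center_ne_bot hG hne)
    have hg := g.2
    obtain ⟨k, hk⟩ := Subgroup.mem_zpowers_iff.1 (hZ hg.2)
    have h1 : z' ^ k = 1 := by rw [← hφz, ← map_zpow, hk]; exact hg.1
    rw [← orderOf_dvd_iff_zpow_eq_one, orderOf_eq_prime hM.zp hz'] at h1
    obtain ⟨d, rfl⟩ := h1
    exact hg1 (Subtype.ext (by rw [← hk, zpow_mul, zpow_natCast, hF.zp, one_zpow, Subgroup.coe_one]))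
  obtain ⟨P, hP⟩ := IsPGroup.exists_le_sylow (hG.of_surjective φ.rangeRestrict φ.rangeRestrict_surjective)
  have hrc : Nat.card φ.range = p ^ 6 := by
    rw [← hcard]; exact (Nat.card_congr (MonoidHom.ofInjective hinj).toEquiv).symm
  have hPeq : φ.range = (P : Subgroup M) := by
    refine Subgroup.eq_of_le_of_card_ge hP ?_
    obtain ⟨k, hk⟩ := P.isPGroup'.exists_card_eq
    rw [hk, hrc]
    refine Nat.pow_le_pow_right hp.pos (not_lt.1 fun hlt => hdvd ?_)
    exact (pow_dvd_pow p (hlt : 7 ≤ k)).trans (hk ▸ Subgroup.card_subgroup_dvd_card _)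
  exact ⟨P, ⟨(MonoidHom.ofInjective hinj).trans (MulEquiv.subgroupCongr hPeq)⟩⟩

end Frame

end Cfsg.Agent.ExtraspecialIndexP
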