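import Cfsg.Agent.Lib.ExtraspecialIndexP.Mover

/-
The filtration of `Q` by an element `x` outside `Q`.
Main results (namespace `Cfsg.Agent.ExtraspecialIndexP`): `lev` (`lev 0 = ⟨z⟩`, `lev (i+1) = {q | [x,q] ∈ lev i}`),
`mem_lev_succ`, `lev_conj`, `comm_lev_iff`, `im1` (commutators with `x` times `⟨z⟩`), `card_im1`,
`im1_eq_centralizer`, `lev_eq_top_of_pow_mem`, `map_Q_mem` (uniqueness of `Q`), and the transvection word `weyl`.
-/

set_option autoImplicit false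

universe u

namespace Cfsg.Agent.ExtraspecialIndexP

open Cfsg Cfsg.FusionSystem Cfsg.Agent.Fusion
open scoped commutatorElement

variable {Ω : Type u} [Group Ω] {S : Subgroup Ω} {p : ℕ} {F : FusionSystem S} {Q : Subgroup Ω} {z : Ω}

/-- `lev 0 = ⟨z⟩`, `lev (i+1)` consists of the `q ∈ Q` with `[x,q] ∈ lev i`. -/
def lev (Q : Subgroup Ω) (z x : Ω) : ℕ → Subgroup Ω
  | 0 => Subgroup.zpowers z
  | i + 1 => Subgroup.closure {q | q ∈ Q ∧ ⁅x, q⁆ ∈ lev Q z x i}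

/-- The commutators of `x` with `A`, times `⟨z⟩`. -/
def im1 (A : Subgroup Ω) (z x : Ω) : Subgroup Ω :=
  Subgroup.closure {w | ∃ a ∈ A, ∃ v ∈ Subgroup.zpowers z, w = ⁅x, a⁆ * v}

namespace Setup

variable (D : Setup F p Q z)
include D

theorem comm_S_mem {a b : Ω} (ha : a ∈ S) (hb : b ∈ S) : ⁅a, b⁆ ∈ Q := by
  haveI := D.normalQ
  haveI := Fact.mk D.prime
  haveI : IsCyclic (S ⧸ Q.subgroupOf S) := isCyclic_of_prime_card (p := p) (by rw [← Subgroup.index_eq_card, D.index])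
  letI := IsCyclic.commGroup (α := S ⧸ Q.subgroupOf S)
  have h : ((⁅(⟨a, ha⟩ : S), ⟨b, hb⟩⁆ : S) : S ⧸ Q.subgroupOf S) = 1 := by
    rw [← QuotientGroup.mk'_apply, map_commutatorElement]
    exact commutatorElement_eq_one_iff_mul_comm.2 (mul_comm _ _)
  exact (QuotientGroup.eq_one_iff (N := Q.subgroupOf S) _).1 h

theorem conj_mem_zpowers {s w : Ω} (hs : s ∈ S) (hw : w ∈ Subgroup.zpowers z) :
    s * w * s⁻¹ ∈ Subgroup.zpowers z := by
  rwa [D.zpow_comm hs hw, mul_inv_cancel_right]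

/-- `S` is generated by `Q` and any element outside `Q`. -/
theorem le_of_mem {x : Ω} (hx : x ∈ S) (hxQ : x ∉ Q) {H : Subgroup Ω} (hQH : Q ≤ H) (hxH : x ∈ H) :
    S ≤ H := by
  haveI := D.fin
  haveI := D.normalQ
  haveI := Fact.mk D.prime
  intro s hs
  obtain ⟨k, hk⟩ := (zpowers_eq_top_of_prime_card (G := S ⧸ Q.subgroupOf S) (p := p)
    (by rw [← Subgroup.index_eq_card, D.index])
    (g := ((⟨x, hx⟩ : S) : S ⧸ Q.subgroupOf S))
    (fun h => hxQ ((QuotientGroup.eq_one_iff (N := Q.subgroupOf S) _).1 h))).ge (Subgroup.mem_top ((⟨s, hs⟩ : S) : S ⧸ Q.subgroupOf S))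
  simp only [← QuotientGroup.mk_zpow, QuotientGroup.eq] at hk
  have h1 : ((x : Ω) ^ k)⁻¹ * s ∈ H := hQH hk
  have := mul_mem (zpow_mem hxH k) h1
  rwa [mul_inv_cancel_left] at this

theorem exists_decomp {x : Ω} (hx : x ∈ S) (hxQ : x ∉ Q) {s : Ω} (hs : s ∈ S) :
    ∃ k : ℤ, ∃ q ∈ Q, s = x ^ k * q := by
  haveI := D.fin
  haveI := D.normalQ
  haveI := Fact.mk D.prime
  obtain ⟨k, hk⟩ := (zpowers_eq_top_of_prime_card (G := S ⧸ Q.subgroupOf S) (p := p)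
    (by rw [← Subgroup.index_eq_card, D.index])
    (g := ((⟨x, hx⟩ : S) : S ⧸ Q.subgroupOf S))
    (fun h => hxQ ((QuotientGroup.eq_one_iff (N := Q.subgroupOf S) _).1 h))).ge (Subgroup.mem_top ((⟨s, hs⟩ : S) : S ⧸ Q.subgroupOf S))
  simp only [← QuotientGroup.mk_zpow, QuotientGroup.eq] at hk
  exact ⟨k, (x ^ k)⁻¹ * s, hk, by rw [mul_inv_cancel_left]⟩

theorem omega_conj {s a b : Ω} (hs : s ∈ S) (ha : a ∈ Q) (hb : b ∈ Q) :
    omega p z (s * a * s⁻¹) (s * b * s⁻¹) = omega p z a b := by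
  have h : ⁅s * a * s⁻¹, s * b * s⁻¹⁆ = s * ⁅a, b⁆ * s⁻¹ := by
    simp only [commutatorElement_def]; group
  rw [omega, omega, h, D.zpow_comm hs (D.comm_mem ha hb), mul_inv_cancel_right]

theorem lev_aux {x : Ω} (hx : x ∈ S) (i : ℕ) :
    Subgroup.zpowers z ≤ lev Q z x i ∧ lev Q z x i ≤ Q ∧
      (∀ s ∈ S, ∀ q ∈ lev Q z x i, s * q * s⁻¹ ∈ lev Q z x i) ∧
      ∀ q, q ∈ lev Q z x (i + 1) ↔ q ∈ Q ∧ ⁅x, q⁆ ∈ lev Q z x i := by
  have key : ∀ j, Subgroup.zpowers z ≤ lev Q z x j → lev Q z x j ≤ Q →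
      (∀ s ∈ S, ∀ q ∈ lev Q z x j, s * q * s⁻¹ ∈ lev Q z x j) →
      ∀ q, q ∈ lev Q z x (j + 1) ↔ q ∈ Q ∧ ⁅x, q⁆ ∈ lev Q z x j := by
    intro j _ _ h3 q
    refine ⟨fun hq => ?_, fun h => Subgroup.subset_closure h⟩
    induction hq using Subgroup.closure_induction with
    | mem q hq => exact hq
    | one => exact ⟨one_mem _, by rw [commutatorElement_one_right]; exact one_mem _⟩
    | mul a b _ _ ha hb =>
      refine ⟨mul_mem ha.1 hb.1, ?_⟩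
      have e : ⁅x, a * b⁆ = ⁅x, a⁆ * (a * ⁅x, b⁆ * a⁻¹) := by simp only [commutatorElement_def]; group
      rw [e]
      exact mul_mem ha.2 (h3 a (D.hQS ha.1) _ hb.2)
    | inv a _ ha =>
      refine ⟨inv_mem ha.1, ?_⟩
      have e : ⁅x, a⁻¹⁆ = a⁻¹ * ⁅x, a⁆⁻¹ * a := by simp only [commutatorElement_def]; group
      rw [e]
      have := h3 a⁻¹ (inv_mem (D.hQS ha.1)) _ (inv_mem ha.2)
      rwa [inv_inv] at this
  induction i with
  | zero =>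
    have h1 : Subgroup.zpowers z ≤ lev Q z x 0 := le_rfl
    have h3 : ∀ s ∈ S, ∀ q ∈ lev Q z x 0, s * q * s⁻¹ ∈ lev Q z x 0 := fun s hs q hq =>
      D.conj_mem_zpowers hs hq
    exact ⟨h1, D.Z_le, h3, key 0 h1 D.Z_le h3⟩
  | succ i ih =>
    obtain ⟨h1, h2, h3, h4⟩ := ih
    have g1 : Subgroup.zpowers z ≤ lev Q z x (i + 1) := fun w hw => (h4 w).2 ⟨D.Z_le hw, by
      rw [commutatorElement_eq_one_iff_mul_comm.2 (D.zpow_comm hx hw)]
      exact one_mem _⟩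
    have g2 : lev Q z x (i + 1) ≤ Q := fun q hq => ((h4 q).1 hq).1
    have g3 : ∀ s ∈ S, ∀ q ∈ lev Q z x (i + 1), s * q * s⁻¹ ∈ lev Q z x (i + 1) := by
      intro s hs q hq
      obtain ⟨hqQ, hqx⟩ := (h4 q).1 hq
      refine (h4 _).2 ⟨D.conj_Q hs hqQ, ?_⟩
      set q0 := ⁅s⁻¹, x⁆
      have hq0 : q0 ∈ Q := D.comm_S_mem (inv_mem hs) hx
      have e : ⁅x, s * q * s⁻¹⁆ = s * ((q0 * ⁅x, q⁆ * q0⁻¹) * ⁅q0, q⁆) * s⁻¹ := by
        simp only [q0, commutatorElement_def]; group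
      rw [e]
      exact h3 s hs _ (mul_mem (h3 q0 (D.hQS hq0) _ hqx) (h1 (D.comm_mem hq0 hqQ)))
    exact ⟨g1, g2, g3, key _ g1 g2 g3⟩

variable {x : Ω} (hx : x ∈ S)
include hx

theorem Z_le_lev (i : ℕ) : Subgroup.zpowers z ≤ lev Q z x i := (D.lev_aux hx i).1

theorem z_mem_lev (i : ℕ) : z ∈ lev Q z x i := D.Z_le_lev hx i (Subgroup.mem_zpowers z)

theorem lev_le_Q (i : ℕ) : lev Q z x i ≤ Q := (D.lev_aux hx i).2.1

theorem lev_le_S (i : ℕ) : lev Q z x i ≤ S := (D.lev_le_Q hx i).trans D.hQS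

theorem lev_conj (i : ℕ) {s q : Ω} (hs : s ∈ S) (hq : q ∈ lev Q z x i) : s * q * s⁻¹ ∈ lev Q z x i :=
  (D.lev_aux hx i).2.2.1 s hs q hq

theorem mem_lev_succ (i : ℕ) {q : Ω} : q ∈ lev Q z x (i + 1) ↔ q ∈ Q ∧ ⁅x, q⁆ ∈ lev Q z x i :=
  (D.lev_aux hx i).2.2.2 q

theorem lev_le_succ (i : ℕ) : lev Q z x i ≤ lev Q z x (i + 1) := by
  intro q hq
  refine (D.mem_lev_succ hx i).2 ⟨D.lev_le_Q hx i hq, ?_⟩
  rw [commutatorElement_def]
  exact mul_mem (D.lev_conj hx i hx hq) (inv_mem hq)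

theorem lev_mono {i j : ℕ} (h : i ≤ j) : lev Q z x i ≤ lev Q z x j :=
  monotone_nat_of_le_succ (D.lev_le_succ hx) h

/-- Any element outside `Q` defines the same filtration. -/
theorem comm_lev_iff (hxQ : x ∉ Q) {y : Ω} (hy : y ∈ S) (hyQ : y ∉ Q) {q : Ω} (hq : q ∈ Q) (i : ℕ) :
    ⁅y, q⁆ ∈ lev Q z x i ↔ ⁅x, q⁆ ∈ lev Q z x i := by
  let G : Subgroup Ω :=
    { carrier := {g | g ∈ S ∧ ⁅g, q⁆ ∈ lev Q z x i}
      one_mem' := ⟨one_mem _, by rw [commutatorElement_one_left]; exact one_mem _⟩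
      mul_mem' := by
        rintro a b ⟨ha, ha'⟩ ⟨hb, hb'⟩
        refine ⟨mul_mem ha hb, ?_⟩
        have e : ⁅a * b, q⁆ = a * ⁅b, q⁆ * a⁻¹ * ⁅a, q⁆ := by simp only [commutatorElement_def]; group
        rw [e]
        exact mul_mem (D.lev_conj hx i ha hb') ha'
      inv_mem' := by
        rintro a ⟨ha, ha'⟩
        refine ⟨inv_mem ha, ?_⟩
        have e : ⁅a⁻¹, q⁆ = a⁻¹ * ⁅a, q⁆⁻¹ * a := by simp only [commutatorElement_def]; group
        rw [e]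
        have := D.lev_conj hx i (inv_mem ha) (inv_mem ha')
        rwa [inv_inv] at this }
  have hQG : Q ≤ G := fun a ha => ⟨D.hQS ha, D.Z_le_lev hx i (D.comm_mem ha hq)⟩
  constructor
  · intro h
    exact (D.le_of_mem hy hyQ hQG (show y ∈ G from ⟨hy, h⟩) hx).2
  · intro h
    exact (D.le_of_mem hx hxQ hQG (show x ∈ G from ⟨hx, h⟩) hy).2

omit hx in
theorem mem_im1 {x : Ω} (hx : x ∈ S) {A : Subgroup Ω} (hA : A ≤ Q) {w : Ω} :
    w ∈ im1 A z x ↔ ∃ a ∈ A, ∃ v ∈ Subgroup.zpowers z, w = ⁅x, a⁆ * v := by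
  refine ⟨fun hw => ?_, fun h => Subgroup.subset_closure h⟩
  induction hw using Subgroup.closure_induction with
  | mem w hw => exact hw
  | one => exact ⟨1, one_mem _, 1, one_mem _, by simp⟩
  | mul w w' _ _ hw hw' =>
    obtain ⟨a, ha, v, hv, rfl⟩ := hw
    obtain ⟨b, hb, v', hv', rfl⟩ := hw'
    have hbQ : ⁅x, b⁆ ∈ Q := D.comm_S_mem hx (D.hQS (hA hb))
    have hc : ⁅a, ⁅x, b⁆⁆ ∈ Subgroup.zpowers z := D.comm_mem (hA ha) hbQ
    refine ⟨a * b, mul_mem ha hb, ⁅a, ⁅x, b⁆⁆⁻¹ * (v * v'), mul_mem (inv_mem hc) (mul_mem hv hv'), ?_⟩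
    have e : ⁅x, a * b⁆ = ⁅a, ⁅x, b⁆⁆ * (⁅x, a⁆ * ⁅x, b⁆) := by
      have e1 : ⁅x, a * b⁆ = ⁅x, a⁆ * (⁅a, ⁅x, b⁆⁆ * ⁅x, b⁆) := by simp only [commutatorElement_def]; group
      rw [e1, ← mul_assoc, ← mul_assoc, D.zpow_comm (D.hQS (D.comm_S_mem hx (D.hQS (hA ha)))) hc]
    have e2 : ⁅x, b⁆ * v = v * ⁅x, b⁆ := D.zpow_comm (D.hQS hbQ) hv
    rw [e, mul_assoc (⁅a, ⁅x, b⁆⁆)]
    set c := ⁅a, ⁅x, b⁆⁆
    have e3 : (⁅x, a⁆ * ⁅x, b⁆) * c⁻¹ = c⁻¹ * (⁅x, a⁆ * ⁅x, b⁆) :=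
      D.zpow_comm (D.hQS (mul_mem (D.comm_S_mem hx (D.hQS (hA ha))) hbQ)) (inv_mem hc)
    rw [← mul_assoc (⁅x, a⁆ * ⁅x, b⁆), e3, mul_assoc c⁻¹, mul_inv_cancel_left]
    simp only [mul_assoc]
    rw [← mul_assoc v ⁅x, b⁆, ← e2, mul_assoc]
  | inv w _ hw =>
    obtain ⟨a, ha, v, hv, rfl⟩ := hw
    have hc : ⁅a⁻¹, ⁅x, a⁆⁻¹⁆ ∈ Subgroup.zpowers z :=
      D.comm_mem (inv_mem (hA ha)) (inv_mem (D.comm_S_mem hx (D.hQS (hA ha))))
    refine ⟨a⁻¹, inv_mem ha, ⁅x, a⁻¹⁆⁻¹ * (⁅x, a⁆ * v)⁻¹, ?_, by rw [mul_inv_cancel_left]⟩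
    have e : ⁅x, a⁻¹⁆⁻¹ * (⁅x, a⁆ * v)⁻¹ = ⁅x, a⁻¹⁆⁻¹ * v⁻¹ * ⁅x, a⁆⁻¹ := by group
    rw [e, mul_assoc, ← D.zpow_comm (inv_mem (D.hQS (D.comm_S_mem hx (D.hQS (hA ha))))) (inv_mem hv),
      ← mul_assoc]
    refine mul_mem ?_ (inv_mem hv)
    have e2 : ⁅x, a⁻¹⁆⁻¹ * ⁅x, a⁆⁻¹ = (⁅a⁻¹, ⁅x, a⁆⁻¹⁆ * ⁅x, a⁆⁻¹)⁻¹ * ⁅x, a⁆⁻¹ := by
      simp only [commutatorElement_def]; group
    rw [e2, mul_inv_rev, inv_inv]
    have := D.zpow_comm (D.hQS (D.comm_S_mem hx (D.hQS (hA ha)))) (inv_mem hc)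
    rw [this, mul_inv_cancel_right]
    exact inv_mem hc

theorem im1_le_Q {A : Subgroup Ω} (hA : A ≤ Q) : im1 A z x ≤ Q := by
  intro w hw
  obtain ⟨a, ha, v, hv, rfl⟩ := (D.mem_im1 hx hA).1 hw
  exact mul_mem (D.comm_S_mem hx (D.hQS (hA ha))) (D.Z_le hv)

theorem card_im1 {A : Subgroup Ω} (hA : A ≤ Q) :
    Nat.card (im1 A z x) * Nat.card (A ⊓ lev Q z x 1 : Subgroup Ω) = p * Nat.card A := by
  haveI := D.fin
  set Z' := (Subgroup.zpowers z).subgroupOf S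
  haveI : Z'.Normal := ⟨fun w hw g => D.conj_mem_zpowers g.2 hw⟩
  set c : A → S := fun a => ⁅(⟨x, hx⟩ : S), (⟨a, D.hQS (hA a.2)⟩ : S)⁆
  let ψ : A →* S ⧸ Z' := MonoidHom.mk' (fun a => ((c a : S) : S ⧸ Z')) fun a b => by
    rw [← QuotientGroup.mk_mul, QuotientGroup.eq]
    show (⁅x, (a : Ω) * b⁆)⁻¹ * (⁅x, (a : Ω)⁆ * ⁅x, (b : Ω)⁆) ∈ Subgroup.zpowers z
    have hbQ : ⁅x, (b : Ω)⁆ ∈ Q := D.comm_S_mem hx (D.hQS (hA b.2))
    have e : (⁅x, (a : Ω) * b⁆)⁻¹ * (⁅x, (a : Ω)⁆ * ⁅x, (b : Ω)⁆) =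
        ⁅x, (b : Ω)⁆⁻¹ * ⁅(a : Ω), ⁅x, (b : Ω)⁆⁆⁻¹ * ⁅x, (b : Ω)⁆⁻¹⁻¹ := by
      simp only [commutatorElement_def]; group
    rw [e]
    exact D.conj_mem_zpowers (inv_mem (D.hQS hbQ)) (inv_mem (D.comm_mem (hA a.2) hbQ))
  have hker : ψ.ker = (A ⊓ lev Q z x 1).subgroupOf A := by
    ext a
    rw [MonoidHom.mem_ker, Subgroup.mem_subgroupOf, Subgroup.mem_inf, D.mem_lev_succ hx 0]
    show ((c a : S) : S ⧸ Z') = 1 ↔ _
    rw [QuotientGroup.eq_one_iff, Subgroup.mem_subgroupOf]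
    exact ⟨fun h => ⟨a.2, hA a.2, h⟩, fun h => h.2.2⟩
  have hIS : im1 A z x ≤ S := (D.im1_le_Q hx hA).trans D.hQS
  let π : (im1 A z x) →* S ⧸ Z' := (QuotientGroup.mk' Z').comp (Subgroup.inclusion hIS)
  have hr : π.range = ψ.range := by
    ext y
    constructor
    · rintro ⟨⟨w, hw⟩, rfl⟩
      obtain ⟨a, ha, v, hv, rfl⟩ := (D.mem_im1 hx hA).1 hw
      refine ⟨⟨a, ha⟩, QuotientGroup.eq.2 ?_⟩
      show (⁅x, a⁆)⁻¹ * (⁅x, a⁆ * v) ∈ Subgroup.zpowers z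
      rwa [inv_mul_cancel_left]
    · rintro ⟨a, rfl⟩
      exact ⟨⟨⁅x, (a : Ω)⁆, (D.mem_im1 hx hA).2 ⟨a, a.2, 1, one_mem _, (mul_one _).symm⟩⟩, rfl⟩
  have hπk : π.ker = (Subgroup.zpowers z).subgroupOf (im1 A z x) := by
    ext w
    rw [MonoidHom.mem_ker, Subgroup.mem_subgroupOf]
    exact QuotientGroup.eq_one_iff _
  have hzI : Subgroup.zpowers z ≤ im1 A z x := fun v hv =>
    (D.mem_im1 hx hA).2 ⟨1, one_mem _, v, hv, by simp⟩
  have h1 := Subgroup.card_mul_index ψ.ker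
  have h2 := Subgroup.card_mul_index π.ker
  rw [Subgroup.index_ker, hker, Nat.card_congr (Subgroup.subgroupOfEquivOfLe inf_le_left).toEquiv] at h1
  rw [Subgroup.index_ker, hπk, Nat.card_congr (Subgroup.subgroupOfEquivOfLe hzI).toEquiv, D.card_Z, hr] at h2
  rw [← h1, ← h2]
  ring

theorem im1_comm {w q : Ω} (hw : w ∈ im1 Q z x) (hq : q ∈ lev Q z x 1) : q * w = w * q := by
  obtain ⟨hqQ, hqx⟩ := (D.mem_lev_succ hx 0).1 hq
  obtain ⟨a, ha, v, hv, rfl⟩ := (D.mem_im1 hx le_rfl).1 hw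
  have hxa : ⁅x, a⁆ ∈ Q := D.comm_S_mem hx (D.hQS ha)
  refine (D.omega_eq_zero hqQ (mul_mem hxa (D.Z_le hv))).1 ?_
  have hzero : ∀ {c b : Ω}, c ∈ Subgroup.zpowers z → b ∈ Q → omega p z c b = 0 := fun hc hb =>
    (D.omega_eq_zero (D.Z_le hc) hb).2 (D.zpow_comm (D.hQS hb) hc).symm
  rw [D.omega_mul_right hqQ hxa (D.Z_le hv), D.omega_swap (D.Z_le hv) hqQ, hzero hv hqQ, neg_zero, add_zero]
  have h := D.omega_conj hx hqQ ha
  rw [conj_eq_comm_mul D, conj_eq_comm_mul D,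
    D.omega_mul_left (D.Z_le hqx) hqQ (mul_mem hxa ha), hzero hqx (mul_mem hxa ha), zero_add,
    D.omega_mul_right hqQ hxa ha] at h
  simpa using h

/-- The commutators with `x` are the centralizer of `lev 1`. -/
theorem im1_eq_centralizer :
    im1 Q z x = Q ⊓ Subgroup.centralizer (lev Q z x 1 : Set Ω) := by
  haveI := D.fin
  have h1 := D.card_im1 hx (le_refl Q)
  have h2 := D.card_centralizer_mul (D.lev_le_Q hx 1) (D.z_mem_lev hx 1)
  rw [inf_eq_right.2 (D.lev_le_Q hx 1), mul_comm] at h1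
  haveI := finite_of_le (S := S) (P := lev Q z x 1) (D.lev_le_S hx 1)
  haveI := finite_of_le (S := S) (P := Q ⊓ Subgroup.centralizer (lev Q z x 1 : Set Ω))
    (inf_le_left.trans D.hQS)
  refine Subgroup.eq_of_le_of_card_ge (fun w hw => ⟨D.im1_le_Q hx le_rfl hw,
    Subgroup.mem_centralizer_iff.2 fun q hq => D.im1_comm hx hw hq⟩) (le_of_eq ?_)
  exact Nat.eq_of_mul_eq_mul_left Nat.card_pos (h2.trans h1.symm)

theorem im1_conj (hxQ : x ∉ Q) {s w : Ω} (hs : s ∈ S) (hw : w ∈ im1 Q z x) :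
    s * w * s⁻¹ ∈ im1 Q z x := by
  have _ := hxQ
  rw [D.im1_eq_centralizer hx] at hw ⊢
  refine ⟨D.conj_Q hs hw.1, Subgroup.mem_centralizer_iff.2 fun q hq => ?_⟩
  have h := Subgroup.mem_centralizer_iff.1 hw.2 _ (D.lev_conj hx 1 (inv_mem hs) hq)
  have e1 : q * (s * w * s⁻¹) = s * ((s⁻¹ * q * s⁻¹⁻¹) * w) * s⁻¹ := by group
  have e2 : s * w * s⁻¹ * q = s * (w * (s⁻¹ * q * s⁻¹⁻¹)) * s⁻¹ := by group
  rw [e1, e2, h]

/-- An element of order `p` modulo `Q`-inner action has nilpotency degree at most `p`. -/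
theorem lev_eq_top_of_pow_mem : lev Q z x p = Q := by
  classical
  haveI := D.fin
  haveI := D.finQ
  haveI := Fact.mk D.prime
  refine le_antisymm (D.lev_le_Q hx p) ?_
  have hxp : x ^ p ∈ Q := by
    haveI := D.normalQ
    have h := pow_card_eq_one' (x := ((⟨x, hx⟩ : S) : S ⧸ Q.subgroupOf S))
    rw [← Subgroup.index_eq_card, D.index, ← QuotientGroup.mk_pow,
      QuotientGroup.eq_one_iff (N := Q.subgroupOf S)] at h
    exact h
  -- `V = Q / Z` and the endomorphism induced by `x`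
  set Zq := (Subgroup.zpowers z).subgroupOf Q
  haveI : Zq.Normal := ⟨fun w hw g => D.conj_mem_zpowers (D.hQS g.2) hw⟩
  letI : CommGroup (Q ⧸ Zq) :=
    { (QuotientGroup.Quotient.group Zq) with
      mul_comm := fun u v => by
        induction u using QuotientGroup.induction_on with | H a => ?_
        induction v using QuotientGroup.induction_on with | H b => ?_
        rw [← QuotientGroup.mk_mul, ← QuotientGroup.mk_mul, QuotientGroup.eq]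
        show ((a : Ω) * b)⁻¹ * (b * a) ∈ Subgroup.zpowers z
        have := D.comm_mem (inv_mem b.2) (inv_mem a.2)
        have e : ((a : Ω) * b)⁻¹ * (b * a) = ⁅(b : Ω)⁻¹, (a : Ω)⁻¹⁆ := by
          simp only [commutatorElement_def]; group
        rwa [e] }
  let cx : Q →* Q := MonoidHom.mk' (fun q => ⟨x * q * x⁻¹, D.conj_Q hx q.2⟩)
    fun a b => Subtype.ext (show x * (a * b : Ω) * x⁻¹ = x * a * x⁻¹ * (x * b * x⁻¹) by group)
  let τ : Q ⧸ Zq →* Q ⧸ Zq := QuotientGroup.map Zq Zq cx fun w hw => D.conj_mem_zpowers hx hw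
  let t : AddMonoid.End (Additive (Q ⧸ Zq)) := MonoidHom.toAdditive τ
  have ht : ∀ q : Q, t (Additive.ofMul (q : Q ⧸ Zq)) = Additive.ofMul ((cx q : Q) : Q ⧸ Zq) := fun q => rfl
  have htk : ∀ (k : ℕ) (q : Q), (t ^ k) (Additive.ofMul (q : Q ⧸ Zq)) =
      Additive.ofMul ((⟨x ^ k * q * (x ^ k)⁻¹, D.conj_Q (pow_mem hx k) q.2⟩ : Q) : Q ⧸ Zq) := by
    intro k
    induction k with
    | zero => intro q; simp
    | succ k ih =>
      intro q
      rw [pow_succ']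
      show t ((t ^ k) _) = _
      rw [ih, ht]
      refine congrArg _ (congrArg _ (Subtype.ext ?_))
      show x * (x ^ k * q * (x ^ k)⁻¹) * x⁻¹ = x ^ (k + 1) * q * (x ^ (k + 1))⁻¹
      rw [pow_succ']; group
  have htp : t ^ p = 1 := by
    refine AddMonoidHom.ext fun v => ?_
    obtain ⟨q, hq⟩ := QuotientGroup.mk_surjective (Additive.toMul v)
    have hv : v = Additive.ofMul (q : Q ⧸ Zq) := by rw [hq]; rfl
    subst hv
    refine (htk p q).trans (congrArg Additive.ofMul (QuotientGroup.eq.2 ?_))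
    show (x ^ p * (q : Ω) * (x ^ p)⁻¹)⁻¹ * q ∈ Subgroup.zpowers z
    have e : (x ^ p * (q : Ω) * (x ^ p)⁻¹)⁻¹ * q = ⁅x ^ p, (q : Ω)⁻¹⁆ := by
      simp only [commutatorElement_def]; group
    rw [e]
    exact D.comm_mem hxp (inv_mem q.2)
  obtain ⟨r, hr⟩ := (Commute.one_right (t - 1)).exists_add_pow_prime_eq D.prime
  rw [sub_add_cancel, htp, one_pow] at hr
  have hd : (t - 1) ^ p = 0 := by
    have hkill : ∀ v : Additive (Q ⧸ Zq), p • v = 0 := by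
      intro v
      obtain ⟨q, hq⟩ := QuotientGroup.mk_surjective (Additive.toMul v)
      have hv : v = Additive.ofMul (q : Q ⧸ Zq) := by rw [hq]; rfl
      subst hv
      rw [← ofMul_pow, ← QuotientGroup.mk_pow, (QuotientGroup.eq_one_iff (N := Zq) _).2 (D.pth_mem q.2)]
      rfl
    have hz : (p : AddMonoid.End (Additive (Q ⧸ Zq))) = 0 := AddMonoidHom.ext fun v => hkill v
    rw [hz] at hr
    simpa using hr
  have hdq : ∀ q : Q, (t - 1) (Additive.ofMul (q : Q ⧸ Zq)) =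
      Additive.ofMul ((⟨⁅x, (q : Ω)⁆, D.comm_S_mem hx (D.hQS q.2)⟩ : Q) : Q ⧸ Zq) := by
    intro q
    show t _ - Additive.ofMul (q : Q ⧸ Zq) = _
    rw [ht, ← ofMul_div, ← QuotientGroup.mk_div]
    refine congrArg _ (congrArg _ (Subtype.ext ?_))
    show (x * q * x⁻¹) / (q : Ω) = ⁅x, (q : Ω)⁆
    rw [div_eq_mul_inv, commutatorElement_def]
  have key : ∀ (k : ℕ) (q : Q), ((t - 1) ^ k) (Additive.ofMul (q : Q ⧸ Zq)) = 0 → (q : Ω) ∈ lev Q z x k := by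
    intro k
    induction k with
    | zero =>
      intro q h
      exact (QuotientGroup.eq_one_iff (N := Zq) _).1 h
    | succ k ih =>
      intro q h
      rw [pow_succ] at h
      change ((t - 1) ^ k) ((t - 1) _) = 0 at h
      rw [hdq] at h
      exact (D.mem_lev_succ hx k).2 ⟨q.2, ih _ h⟩
  intro q hq
  exact key p ⟨q, hq⟩ (by rw [hd]; rfl)

end Setup

/-- Two crossed transvections: the square of the product `A U A` inverts `a` up to `v`. -/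
theorem weyl {G : Type*} [Group G] (hG : ∀ g h : G, g * h = h * g) {A U : MulAut G} {a b v : G} {l i : ℤ}
    (hAa : A a = a) (hAv : A v = v) (hAb : A b = b * a * v ^ l)
    (hUb : U b = b) (hUv : U v = v) (hUa : U a = a * b⁻¹ * v ^ i) :
    (A * U * A) a = b⁻¹ * v ^ (i - l) ∧ (A * U * A) b = a * v ^ (i + l) ∧
      ((A * U * A) * (A * U * A)) a = a⁻¹ * v ^ (-(2 * l)) := by
  letI : CommGroup G := { (inferInstance : Group G) with mul_comm := hG }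
  have h1 : (A * U * A) a = b⁻¹ * v ^ (i - l) := by
    simp only [MulAut.mul_apply, map_mul, map_inv, map_zpow, hAa, hAv, hAb, hUb, hUv, hUa]
    apply Additive.ofMul.injective
    simp only [ofMul_mul, ofMul_inv, ofMul_zpow]
    module
  have h2 : (A * U * A) b = a * v ^ (i + l) := by
    simp only [MulAut.mul_apply, map_mul, map_inv, map_zpow, hAa, hAv, hAb, hUb, hUv, hUa]
    apply Additive.ofMul.injective
    simp only [ofMul_mul, ofMul_inv, ofMul_zpow]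
    module
  refine ⟨h1, h2, ?_⟩
  have h3 : (A * U * A) v = v := by simp only [MulAut.mul_apply, hAv, hUv]
  rw [MulAut.mul_apply, h1, map_mul, map_inv, map_zpow, h2, h3, mul_inv, mul_assoc, ← zpow_neg, ← zpow_add]
  congr 2
  ring

/-- Powers of a transvection. -/
theorem transvection_pow {G : Type*} [Group G] {A : MulAut G} {b d : G} (hd : A d = d) (hb : A b = b * d)
    (j : ℕ) : (A ^ j) b = b * d ^ j := by
  induction j with
  | zero => simp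
  | succ j ih => rw [pow_succ', MulAut.mul_apply, ih, map_mul, map_pow, hd, hb, mul_assoc, pow_succ']

end Cfsg.Agent.ExtraspecialIndexP
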