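import Cfsg.Agent.Lib.ExtraspecialIndexP.Frame
import Cfsg.Agent.Lib.G2Zorn.Order
import Cfsg.Agent.Lib.GLOrder.Basic
import Mathlib.Algebra.CharP.Lemmas

/-
The one-block frame inside `G₂(p)`, `p ≥ 5`, by integer matrices in Zorn's model.
Main results (namespace `Cfsg.Agent.ExtraspecialIndexP.GModel`): `exists_frame_G2`, `not_dvd_card_G2`.
-/

set_option autoImplicit false

namespace Cfsg.Agent.ExtraspecialIndexP.GModel

open scoped commutatorElement Matrix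
open Matrix Cfsg.Lie

def xM : Matrix (Fin 8) (Fin 8) ℤ :=
  !![1, 0, 0, 0, 0, -1, 0, 0;
     0, 1, 0, 0, 0, 0, 0, 0;
     1, 0, 1, 0, 0, -1, 0, -1;
     0, 0, 0, 1, 0, 0, 0, 0;
     0, 0, 0, 1, 1, 0, 0, 0;
     0, 0, 0, 0, 0, 1, 0, 0;
     0, -1, 0, 0, 0, 0, 1, 0;
     0, 0, 0, 0, 0, 1, 0, 1]
def tM : Matrix (Fin 8) (Fin 8) ℤ :=
  !![1, 0, 0, 0, 0, 0, 0, 0;
     0, 1, 6, 0, 0, 0, 0, 0;
     0, 0, 1, 0, 0, 0, 0, 0;
     0, 0, 0, 1, 0, 0, 0, 0;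
     0, 0, 0, 0, 1, 0, 0, 0;
     0, 0, 0, 0, -6, 1, 0, 0;
     0, 0, 0, 0, 0, 0, 1, 0;
     0, 0, 0, 0, 0, 0, 0, 1]
def wM : Matrix (Fin 8) (Fin 8) ℤ :=
  !![1, 0, 0, 1, 0, 0, 0, 0;
     0, 1, 0, 0, 0, 1, 0, 0;
     0, 0, 1, 0, -1, 0, 0, 0;
     0, 0, 0, 1, 0, 0, 0, 0;
     0, 0, 0, 0, 1, 0, 0, 0;
     0, 0, 0, 0, 0, 1, 0, 0;
     -1, 0, 0, -1, 0, 0, 1, 1;
     0, 0, 0, -1, 0, 0, 0, 1]
def q1M : Matrix (Fin 8) (Fin 8) ℤ :=
  !![1, 0, 0, 1, 0, 0, 0, 0;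
     0, 1, 6, 0, -6, 1, 0, 0;
     0, 0, 1, 0, -1, 0, 0, 0;
     0, 0, 0, 1, 0, 0, 0, 0;
     0, 0, 0, 0, 1, 0, 0, 0;
     0, 0, 0, 0, -6, 1, 0, 0;
     -1, 0, 0, -1, 0, 0, 1, 1;
     0, 0, 0, -1, 0, 0, 0, 1]
def q2M : Matrix (Fin 8) (Fin 8) ℤ :=
  !![1, 0, 0, -6, 6, 0, 0, 0;
     -6, 1, 0, 18, -36, -6, 0, 6;
     0, 0, 1, -3, 6, 0, 0, 0;
     0, 0, 0, 1, 0, 0, 0, 0;
     0, 0, 0, 0, 1, 0, 0, 0;
     0, 0, 0, 6, 0, 1, 0, 0;
     6, 0, -6, -18, 18, 3, 1, -6;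
     0, 0, 0, 6, -6, 0, 0, 1]
def q3M : Matrix (Fin 8) (Fin 8) ℤ :=
  !![1, 0, 0, -12, 0, 0, 0, 0;
     0, 1, 0, 108, 0, -12, 0, 0;
     0, 0, 1, -36, 12, 0, 0, 0;
     0, 0, 0, 1, 0, 0, 0, 0;
     0, 0, 0, 0, 1, 0, 0, 0;
     0, 0, 0, 0, 0, 1, 0, 0;
     12, 0, 0, -144, -108, 36, 1, -12;
     0, 0, 0, 12, 0, 0, 0, 1]
def q4M : Matrix (Fin 8) (Fin 8) ℤ :=
  !![1, 0, 0, 0, 0, 0, 0, 0;
     0, 1, 0, 0, 0, 0, 0, 0;
     0, 0, 1, -36, 0, 0, 0, 0;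
     0, 0, 0, 1, 0, 0, 0, 0;
     0, 0, 0, 0, 1, 0, 0, 0;
     0, 0, 0, 0, 0, 1, 0, 0;
     0, 0, 0, 0, 0, 36, 1, 0;
     0, 0, 0, 0, 0, 0, 0, 1]
def zM : Matrix (Fin 8) (Fin 8) ℤ :=
  !![1, 0, 0, 0, 0, 0, 0, 0;
     0, 1, 0, -216, 0, 0, 0, 0;
     0, 0, 1, 0, 0, 0, 0, 0;
     0, 0, 0, 1, 0, 0, 0, 0;
     0, 0, 0, 0, 1, 0, 0, 0;
     0, 0, 0, 0, 0, 1, 0, 0;
     0, 0, 0, 0, 216, 0, 1, 0;
     0, 0, 0, 0, 0, 0, 0, 1]

variable (p : ℕ) [Fact p.Prime]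

/-- Reduction of integer matrices modulo `p`. -/
noncomputable def red : Matrix (Fin 8) (Fin 8) ℤ →+* Matrix (Fin 8) (Fin 8) (ZMod p) :=
  (Int.castRingHom (ZMod p)).mapMatrix

theorem red_apply (M : Matrix (Fin 8) (Fin 8) ℤ) (i j : Fin 8) : red p M i j = (M i j : ZMod p) := rfl

theorem red_pow_p (hp : 5 ≤ p) {M : Matrix (Fin 8) (Fin 8) ℤ} (hM : (M - 1) ^ 3 = 0) : red p M ^ p = 1 := by
  set N := red p (M - 1)
  have hN : N ^ 3 = 0 := by rw [← map_pow, hM, map_zero]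
  have hM' : red p M = N + 1 := by rw [← map_one (red p), ← map_add, sub_add_cancel]
  obtain ⟨r, hr⟩ := (Commute.one_right N).exists_add_pow_prime_eq (Fact.out : p.Prime)
  have hp0 : (p : Matrix (Fin 8) (Fin 8) (ZMod p)) = 0 := CharP.cast_eq_zero _ p
  rw [hM', hr, hp0]
  rw [show N ^ p = N ^ 3 * N ^ (p - 3) by rw [← pow_add]; congr 1; omega, hN]
  simp

theorem isUnit_red (hp : 5 ≤ p) {M : Matrix (Fin 8) (Fin 8) ℤ} (hM : (M - 1) ^ 3 = 0) :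
    IsUnit (red p M) :=
  IsUnit.of_pow_eq_one (red_pow_p p hp hM) (by omega)

set_option maxHeartbeats 2000000 in
theorem preserves_xM (u v : Fin 8 → ZMod p) :
    red p xM *ᵥ zornMul u v = zornMul (red p xM *ᵥ u) (red p xM *ᵥ v) := by
  funext i
  fin_cases i <;>
    simp [red, xM, zornMul, zA, zB, cross3, dot3, Matrix.mulVec, dotProduct, Fin.sum_univ_eight] <;> ring

set_option maxHeartbeats 2000000 in
theorem preserves_tM (u v : Fin 8 → ZMod p) :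
    red p tM *ᵥ zornMul u v = zornMul (red p tM *ᵥ u) (red p tM *ᵥ v) := by
  funext i
  fin_cases i <;>
    simp [red, tM, zornMul, zA, zB, cross3, dot3, Matrix.mulVec, dotProduct, Fin.sum_univ_eight] <;> ring

set_option maxHeartbeats 2000000 in
theorem preserves_wM (u v : Fin 8 → ZMod p) :
    red p wM *ᵥ zornMul u v = zornMul (red p wM *ᵥ u) (red p wM *ᵥ v) := by
  funext i
  fin_cases i <;>
    simp [red, wM, zornMul, zA, zB, cross3, dot3, Matrix.mulVec, dotProduct, Fin.sum_univ_eight] <;> ring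

theorem exists_frame_G2 (hp : 5 ≤ p) :
    ∃ (x z : G2 (ZMod p)) (q : Fin 4 → G2 (ZMod p)), Frame p cG eG x z q ∧ z ≠ 1 := by
  have hx : (xM - 1) ^ 3 = 0 := by decide +kernel
  have ht : (tM - 1) ^ 3 = 0 := by decide +kernel
  have hw : (wM - 1) ^ 3 = 0 := by decide +kernel
  let mk : ∀ (M : Matrix (Fin 8) (Fin 8) ℤ), (M - 1) ^ 3 = 0 →
      (∀ u v, red p M *ᵥ zornMul u v = zornMul (red p M *ᵥ u) (red p M *ᵥ v)) → G2 (ZMod p) :=
    fun M h1 h2 => ⟨(isUnit_red p hp h1).unit, G2Zorn.mem_G2_iff.2 fun u v => h2 u v⟩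
  let val : G2 (ZMod p) → Matrix (Fin 8) (Fin 8) (ZMod p) := fun g => ((g : GL (Fin 8) (ZMod p)) : Matrix _ _ _)
  have vmul : ∀ g h, val (g * h) = val g * val h := fun g h => rfl
  have vinj : ∀ g h, val g = val h → g = h := fun g h e => Subtype.ext (Units.ext e)
  have vone : val 1 = 1 := rfl
  have vpow : ∀ g (n : ℕ), val (g ^ n) = val g ^ n := fun g n => by
    induction n with
    | zero => simp [vone]
    | succ n ih => rw [pow_succ, vmul, ih, pow_succ]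
  set x := mk xM hx (preserves_xM p)
  set q1 := mk tM ht (preserves_tM p) * mk wM hw (preserves_wM p)
  have vx : val x = red p xM := rfl
  have v1 : val q1 = red p q1M := by
    rw [vmul]
    show red p tM * red p wM = red p q1M
    rw [← map_mul]; congr 1; decide +kernel
  -- values of commutators
  have vcomm : ∀ (a b : G2 (ZMod p)) (A B W : Matrix (Fin 8) (Fin 8) ℤ), val a = red p A → val b = red p B →
      A * B = W * B * A → val ⁅a, b⁆ = red p W := by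
    intro a b A B W ha hb h
    have e : val ⁅a, b⁆ * val (b * a) = red p W * val (b * a) := by
      rw [← vmul, show ⁅a, b⁆ * (b * a) = a * b by rw [commutatorElement_def]; group, vmul, ha, hb, ← map_mul, h,
        map_mul, map_mul, vmul, ha, hb, mul_assoc]
    exact ((Units.isUnit (((b * a : G2 (ZMod p))) : GL (Fin 8) (ZMod p)))).mul_right_cancel e
  set q2 := ⁅x, q1⁆
  set q3 := ⁅x, q2⁆
  set q4 := ⁅x, q3⁆
  set z := ⁅q1, q4⁆
  have v2 : val q2 = red p q2M := vcomm x q1 xM q1M q2M vx v1 (by decide +kernel)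
  have v3 : val q3 = red p q3M := vcomm x q2 xM q2M q3M vx v2 (by decide +kernel)
  have v4 : val q4 = red p q4M := vcomm x q3 xM q3M q4M vx v3 (by decide +kernel)
  have vz : val z = red p zM := vcomm q1 q4 q1M q4M zM v1 v4 (by decide +kernel)
  have c1 : ∀ (a b : G2 (ZMod p)) (A B : Matrix (Fin 8) (Fin 8) ℤ), val a = red p A → val b = red p B →
      A * B = B * A → a * b = b * a := fun a b A B ha hb h =>
    vinj _ _ (by rw [vmul, vmul, ha, hb, ← map_mul, h, map_mul])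
  have k12 : ⁅q1, q2⁆ = 1 := commutatorElement_eq_one_iff_mul_comm.2 (c1 _ _ _ _ v1 v2 (by decide +kernel))
  have k13 : ⁅q1, q3⁆ = z := vinj _ _ ((vcomm q1 q3 q1M q3M zM v1 v3 (by decide +kernel)).trans vz.symm)
  have k23 : ⁅q2, q3⁆ = z⁻¹ := by
    rw [← commutatorElement_inv]
    exact congrArg (·⁻¹) (vinj _ _ ((vcomm q3 q2 q3M q2M zM v3 v2 (by decide +kernel)).trans vz.symm))
  have k24 : ⁅q2, q4⁆ = 1 := commutatorElement_eq_one_iff_mul_comm.2 (c1 _ _ _ _ v2 v4 (by decide +kernel))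
  have k34 : ⁅q3, q4⁆ = 1 := commutatorElement_eq_one_iff_mul_comm.2 (c1 _ _ _ _ v3 v4 (by decide +kernel))
  have m4 : ⁅x, q4⁆ = 1 := commutatorElement_eq_one_iff_mul_comm.2 (c1 _ _ _ _ vx v4 (by decide +kernel))
  have hpow : ∀ (a : G2 (ZMod p)) (A : Matrix (Fin 8) (Fin 8) ℤ), val a = red p A → (A - 1) ^ 3 = 0 →
      a ^ p = 1 := fun a A ha hA => vinj _ _ (by rw [vpow, ha, red_pow_p p hp hA, vone])
  refine ⟨x, z, ![q1, q2, q3, q4], ⟨hpow _ _ vx hx, hpow _ _ vz (by decide +kernel), ?_,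
    c1 _ _ _ _ vx vz (by decide +kernel), ?_, ?_, ?_⟩, ?_⟩
  · intro i; fin_cases i
    · exact hpow _ _ v1 (by decide +kernel)
    · exact hpow _ _ v2 (by decide +kernel)
    · exact hpow _ _ v3 (by decide +kernel)
    · exact hpow _ _ v4 (by decide +kernel)
  · intro i; fin_cases i
    · exact c1 _ _ _ _ v1 vz (by decide +kernel)
    · exact c1 _ _ _ _ v2 vz (by decide +kernel)
    · exact c1 _ _ _ _ v3 vz (by decide +kernel)
    · exact c1 _ _ _ _ v4 vz (by decide +kernel)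
  · intro a b hab
    fin_cases a <;> fin_cases b <;> simp [cG, k12, k13, k23, k24, k34, z] <;> simp at hab
  · intro i
    fin_cases i <;> simp [eG, wordQ, m4, q2, q3, q4]
  · intro h
    have h1 := congrFun (congrFun (congrArg val h) 1) 3
    rw [vz, vone, red_apply, Matrix.one_apply] at h1
    have h2 : ((216 : ℕ) : ZMod p) = 0 := by simpa [zM] using h1
    rw [ZMod.natCast_eq_zero_iff] at h2
    have hpp : p.Prime := Fact.out
    rcases (Nat.Prime.dvd_mul hpp).1 (show p ∣ 2 ^ 3 * 3 ^ 3 by simpa using h2) with h' | h'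
    · have := Nat.le_of_dvd (by norm_num) (hpp.dvd_of_dvd_pow h'); omega
    · have := Nat.le_of_dvd (by norm_num) (hpp.dvd_of_dvd_pow h'); omega

theorem not_dvd_card_G2 : ¬ p ^ 7 ∣ Nat.card (G2 (ZMod p)) := by
  have hp : p.Prime := Fact.out
  intro h
  have h1 := h.trans G2Zorn.card_G2_dvd
  rw [GLOrder.card_SL, Nat.card_zmod, show 3 * (3 - 1) / 2 = 3 from rfl,
    show p ^ 6 + p ^ 3 = p ^ 3 * (p ^ 3 + 1) by ring,
    show p ^ 3 * (p ^ 3 + 1) * (p ^ 3 * ∏ i ∈ Finset.Ico 1 3, (p ^ (i + 1) - 1)) =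
      p ^ 6 * ((p ^ 3 + 1) * ∏ i ∈ Finset.Ico 1 3, (p ^ (i + 1) - 1)) by ring, pow_succ p 6] at h1
  rcases hp.dvd_mul.1 (Nat.dvd_of_mul_dvd_mul_left (pow_pos hp.pos 6) h1) with h2 | h2
  · exact hp.one_lt.ne' (Nat.dvd_one.1 ((Nat.dvd_add_right (dvd_pow_self p three_ne_zero)).1 h2))
  · rcases (Prime.dvd_finsetProd_iff (Nat.prime_iff.1 hp) _).1 h2 with ⟨i, -, hi⟩
    have h3 : p ∣ p ^ (i + 1) := dvd_pow_self p (Nat.succ_ne_zero i)
    have h4 : 1 ≤ p ^ (i + 1) := Nat.one_le_pow _ _ hp.pos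
    have h5 := Nat.dvd_sub h3 hi
    rw [show p ^ (i + 1) - (p ^ (i + 1) - 1) = 1 by omega] at h5
    exact hp.one_lt.ne' (Nat.dvd_one.1 h5)

end Cfsg.Agent.ExtraspecialIndexP.GModel
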