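import Cfsg.Agent.Lib.ExtraspecialIndexP.Frame
import Cfsg.Agent.Lib.GLOrder.Basic
import Mathlib.LinearAlgebra.Matrix.Transvection

/-
The linear frame inside `SL₄(p)`.
Main results (namespace `Cfsg.Agent.ExtraspecialIndexP`): `exists_frame_SL`, `not_dvd_card_SL`.
-/

set_option autoImplicit false

namespace Cfsg.Agent.ExtraspecialIndexP

open scoped commutatorElement
open Matrix

variable (p : ℕ) [Fact p.Prime]

/-- An elementary matrix of `SL₄`. -/
def elem4 (i j : Fin 4) (h : i ≠ j) (a : ZMod p) : SpecialLinearGroup (Fin 4) (ZMod p) :=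
  ⟨transvection i j a, det_transvection_of_ne i j h a⟩

theorem elem4_mul (i j : Fin 4) (h : i ≠ j) (a b : ZMod p) :
    elem4 p i j h a * elem4 p i j h b = elem4 p i j h (a + b) :=
  Subtype.ext (transvection_mul_transvection_same i j h a b)

theorem elem4_pow (i j : Fin 4) (h : i ≠ j) (a : ZMod p) (k : ℕ) :
    elem4 p i j h a ^ k = elem4 p i j h (k * a) := by
  induction k with
  | zero =>
    rw [pow_zero, Nat.cast_zero, zero_mul]
    exact (Subtype.ext (transvection_zero i j)).symm
  | succ k ih => rw [pow_succ, ih, elem4_mul, Nat.cast_succ, add_one_mul]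

theorem elem4_pow_p (i j : Fin 4) (h : i ≠ j) (a : ZMod p) : elem4 p i j h a ^ p = 1 := by
  rw [elem4_pow, ZMod.natCast_self, zero_mul]
  exact Subtype.ext (by simp [elem4, transvection])

theorem elem4_inv (i j : Fin 4) (h : i ≠ j) (a : ZMod p) :
    (elem4 p i j h a)⁻¹ = elem4 p i j h (-a) := by
  refine inv_eq_of_mul_eq_one_right ?_
  rw [elem4_mul, add_neg_cancel]
  exact Subtype.ext (by simp [elem4, transvection])

theorem elem4_zero (i j : Fin 4) (h : i ≠ j) : elem4 p i j h 0 = 1 :=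
  Subtype.ext (transvection_zero i j)

theorem elem4_comm (i j k l : Fin 4) (h : i ≠ j) (h' : k ≠ l) (hjk : j ≠ k) (hli : l ≠ i) (a b : ZMod p) :
    elem4 p i j h a * elem4 p k l h' b = elem4 p k l h' b * elem4 p i j h a := by
  refine Subtype.ext ?_
  show transvection i j a * transvection k l b = transvection k l b * transvection i j a
  simp only [transvection, add_mul, mul_add, one_mul, mul_one,
    single_mul_single_of_ne _ _ _ _ hjk, single_mul_single_of_ne _ _ _ _ hli, add_zero]
  abel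

theorem elem4_chain (i j k : Fin 4) (h : i ≠ j) (h' : j ≠ k) (hik : i ≠ k) (a b : ZMod p) :
    elem4 p i j h a * elem4 p j k h' b = elem4 p i k hik (a * b) * elem4 p j k h' b * elem4 p i j h a := by
  refine Subtype.ext ?_
  show transvection i j a * transvection j k b =
    transvection i k (a * b) * transvection j k b * transvection i j a
  simp only [transvection, add_mul, mul_add, one_mul, mul_one, single_mul_single_same,
    single_mul_single_of_ne _ _ _ _ hik.symm, single_mul_single_of_ne _ _ _ _ h'.symm, add_zero, zero_add, mul_zero, zero_mul]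
  abel

theorem comm_eq_of {G : Type*} [Group G] {a b w : G} (h : a * b = w * b * a) : ⁅a, b⁆ = w := by
  rw [commutatorElement_def, h]; group

theorem exists_frame_SL :
    ∃ (x z : SpecialLinearGroup (Fin 4) (ZMod p)) (q : Fin 4 → SpecialLinearGroup (Fin 4) (ZMod p)),
      Frame p cL eL x z q ∧ z ≠ 1 := by
  set A := elem4 p 1 2 (by decide) 1
  set Z := elem4 p 0 3 (by decide) 1
  set B := elem4 p 0 1 (by decide) 1
  set C := elem4 p 2 3 (by decide) 1
  set B' := elem4 p 0 2 (by decide) 1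
  set C' := elem4 p 1 3 (by decide) 1
  have c1 : ∀ {u v : SpecialLinearGroup (Fin 4) (ZMod p)}, u * v = v * u → ⁅u, v⁆ = 1 :=
    fun h => commutatorElement_eq_one_iff_mul_comm.2 h
  have k12 : ⁅B, C⁆ = 1 := c1 (elem4_comm p 0 1 2 3 _ _ (by decide) (by decide) 1 1)
  have k13 : ⁅B, B'⁆ = 1 := c1 (elem4_comm p 0 1 0 2 _ _ (by decide) (by decide) 1 1)
  have k14 : ⁅B, C'⁆ = Z :=
    comm_eq_of (by simpa using elem4_chain p 0 1 3 (by decide) (by decide) (by decide) 1 1)
  have k23 : ⁅C, B'⁆ = Z⁻¹ := by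
    rw [← commutatorElement_inv]
    exact congrArg (·⁻¹) (comm_eq_of
      (by simpa using elem4_chain p 0 2 3 (by decide) (by decide) (by decide) 1 1))
  have k24 : ⁅C, C'⁆ = 1 := c1 (elem4_comm p 2 3 1 3 _ _ (by decide) (by decide) 1 1)
  have k34 : ⁅B', C'⁆ = 1 := c1 (elem4_comm p 0 2 1 3 _ _ (by decide) (by decide) 1 1)
  have m1 : ⁅A, B⁆ = B'⁻¹ := by
    rw [← commutatorElement_inv]
    exact congrArg (·⁻¹) (comm_eq_of
      (by simpa using elem4_chain p 0 1 2 (by decide) (by decide) (by decide) 1 1))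
  have m2 : ⁅A, C⁆ = C' :=
    comm_eq_of (by simpa using elem4_chain p 1 2 3 (by decide) (by decide) (by decide) 1 1)
  have m3 : ⁅A, B'⁆ = 1 := c1 (elem4_comm p 1 2 0 2 _ _ (by decide) (by decide) 1 1)
  have m4 : ⁅A, C'⁆ = 1 := c1 (elem4_comm p 1 2 1 3 _ _ (by decide) (by decide) 1 1)
  refine ⟨A, Z, ![B, C, B', C'],
    ⟨elem4_pow_p p _ _ _ _, elem4_pow_p p _ _ _ _, ?_, ?_, ?_, ?_, ?_⟩, ?_⟩
  · intro i
    fin_cases i <;> exact elem4_pow_p p _ _ (by decide) _
  · exact elem4_comm p 1 2 0 3 _ (by decide) (by decide) (by decide) 1 1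
  · intro k
    fin_cases k
    · exact elem4_comm p 0 1 0 3 (by decide) (by decide) (by decide) (by decide) 1 1
    · exact elem4_comm p 2 3 0 3 (by decide) (by decide) (by decide) (by decide) 1 1
    · exact elem4_comm p 0 2 0 3 (by decide) (by decide) (by decide) (by decide) 1 1
    · exact elem4_comm p 1 3 0 3 (by decide) (by decide) (by decide) (by decide) 1 1
  · intro a b hab
    fin_cases a <;> fin_cases b <;> simp [cL, k12, k13, k14, k23, k24, k34] <;> simp at hab
  · intro a
    fin_cases a <;> simp [eL, wordQ, m1, m2, m3, m4]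
  · intro h
    have h1 := congrFun (congrFun (congrArg Subtype.val h) 0) 3
    simp [Z, elem4, transvection, Matrix.single, Matrix.one_apply] at h1

theorem not_dvd_card_SL : ¬ p ^ 7 ∣ Nat.card (SpecialLinearGroup (Fin 4) (ZMod p)) := by
  have hp : p.Prime := Fact.out
  rw [GLOrder.card_SL, Nat.card_zmod]
  intro h
  rw [show 4 * (4 - 1) / 2 = 6 from rfl, pow_succ] at h
  have h1 := Nat.dvd_of_mul_dvd_mul_left (pow_pos hp.pos 6) h
  rcases (Prime.dvd_finsetProd_iff (Nat.prime_iff.1 hp) _).1 h1 with ⟨i, -, hi⟩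
  have h2 : 1 ≤ p ^ (i + 1) := Nat.one_le_pow _ _ hp.pos
  have h3 : p ∣ p ^ (i + 1) := dvd_pow_self p (Nat.succ_ne_zero i)
  have h4 := Nat.dvd_sub h3 hi
  rw [show p ^ (i + 1) - (p ^ (i + 1) - 1) = 1 by omega] at h4
  exact hp.one_lt.ne' (Nat.dvd_one.1 h4)

end Cfsg.Agent.ExtraspecialIndexP
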