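import Cfsg.Agent.Lib.ExtraspecialIndexP.Frame
import Cfsg.Agent.Lib.Unitary.Count
import Mathlib.FieldTheory.Finite.GaloisField

/-
The unitary frame inside `SU₄(p)`, written on a basis of two hyperbolic pairs.
Main results (namespace `Cfsg.Agent.ExtraspecialIndexP`): `exists_frame_SU`, `not_dvd_card_SU`, `exists_field_sq`.
-/

set_option autoImplicit false

namespace Cfsg.Agent.ExtraspecialIndexP.UModel

open scoped commutatorElement Matrix
open Matrix

variable {K : Type} [Field K] [Fintype K] (p : ℕ) [Fact p.Prime] [CharP K p]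

/-- The conjugation of the field of order `p²`. -/
noncomputable def sg : K →+* K := frobenius K p

theorem sg_sg (hK : Fintype.card K = p ^ 2) (x : K) : sg p (sg p x) = x := by
  show (x ^ p) ^ p = x
  rw [← pow_mul, ← pow_two, ← hK, FiniteField.pow_card]

/-- Unipotent elements of the radical. -/
def Xm (s : K →+* K) (m w k : K) : Matrix (Fin 4) (Fin 4) K :=
  !![1, 0, m, w; 0, 1, -s w, k; 0, 0, 1, 0; 0, 0, 0, 1]

/-- Unipotent elements of the Levi complement. -/
def Lm (s : K →+* K) (t : K) : Matrix (Fin 4) (Fin 4) K :=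
  !![1, t, 0, 0; 0, 1, 0, 0; 0, 0, 1, 0; 0, 0, -s t, 1]

/-- The form on the new basis. -/
def Jm : Matrix (Fin 4) (Fin 4) K :=
  !![0, 0, 1, 0; 0, 0, 0, 1; 1, 0, 0, 0; 0, 1, 0, 0]

variable {p}

omit [Fintype K] in
theorem Xm_mul (s : K →+* K) (m w k m' w' k' : K) :
    Xm s m w k * Xm s m' w' k' = Xm s (m + m') (w + w') (k + k') := by
  ext i j
  fin_cases i <;> fin_cases j <;> simp [Xm, Matrix.mul_apply, Fin.sum_univ_four, map_add] <;> ring

omit [Fintype K] in
theorem Lm_mul (s : K →+* K) (t t' : K) : Lm s t * Lm s t' = Lm s (t + t') := by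
  ext i j
  fin_cases i <;> fin_cases j <;> simp [Lm, Matrix.mul_apply, Fin.sum_univ_four, map_add] <;> ring

omit [Fintype K] in
theorem Lm_Xm (s : K →+* K) (hs : ∀ a, s (s a) = a) (t m w k : K) (hk : s k = -k) :
    Lm s t * Xm s m w k = Xm s (m - t * s w + w * s t + t * s t * k) (w + t * k) k * Lm s t := by
  ext i j
  fin_cases i <;> fin_cases j <;>
    simp [Lm, Xm, Matrix.mul_apply, Fin.sum_univ_four, map_add, map_mul, hk, hs] <;> ring

omit [Fintype K] in
theorem Xm_J (s : K →+* K) (hs : ∀ a, s (s a) = a) (m w k : K) (hm : s m = -m) (hk : s k = -k) :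
    (Xm s m w k)ᵀ * Jm * (Xm s m w k).map s = Jm := by
  ext i j
  fin_cases i <;> fin_cases j <;>
    simp [Xm, Jm, Matrix.mul_apply, Fin.sum_univ_four, Matrix.transpose, hm, hk, hs]

omit [Fintype K] in
theorem Lm_J (s : K →+* K) (hs : ∀ a, s (s a) = a) (t : K) : (Lm s t)ᵀ * Jm * (Lm s t).map s = Jm := by
  ext i j
  fin_cases i <;> fin_cases j <;>
    simp [Lm, Jm, Matrix.mul_apply, Fin.sum_univ_four, Matrix.transpose, hs]

omit [Fintype K] in
theorem det_Xm (s : K →+* K) (m w k : K) : (Xm s m w k).det = 1 := by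
  simp [Xm, Matrix.det_succ_row_zero, Fin.sum_univ_succ, Fin.succAbove]

omit [Fintype K] in
theorem det_Lm (s : K →+* K) (t : K) : (Lm s t).det = 1 := by
  simp [Lm, Matrix.det_succ_row_zero, Fin.sum_univ_succ, Fin.succAbove]

/-- The change of basis. -/
def Pm (a : K) : Matrix (Fin 4) (Fin 4) K :=
  !![1, 0, 2⁻¹, 0; a, 0, -a * 2⁻¹, 0; 0, 1, 0, 2⁻¹; 0, a, 0, -a * 2⁻¹]

/-- Its inverse. -/
def Pi' (s : K →+* K) (a : K) : Matrix (Fin 4) (Fin 4) K :=
  !![2⁻¹, -s a * 2⁻¹, 0, 0; 0, 0, 2⁻¹, -s a * 2⁻¹; 1, s a, 0, 0; 0, 0, 1, s a]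

omit [Fintype K] in
theorem Pi_mul (s : K →+* K) (a : K) (h2 : (2 : K) ≠ 0) (ha : a * s a = -1) :
    Pi' s a * Pm a = 1 := by
  ext i j
  fin_cases i <;> fin_cases j <;>
    simp [Pi', Pm, Matrix.mul_apply, Fin.sum_univ_four, Matrix.one_apply] <;> field_simp <;>
    (first | linear_combination (1 : K) * ha | linear_combination (-1 : K) * ha |
      linear_combination (2 : K) * ha | linear_combination (-2 : K) * ha)

omit [Fintype K] in
theorem Pm_J (s : K →+* K) (a : K) (h2 : (2 : K) ≠ 0) (ha : a * s a = -1) :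
    (Pm a)ᵀ * (Pm a).map s = Jm := by
  ext i j
  fin_cases i <;> fin_cases j <;>
    simp [Pm, Jm, Matrix.mul_apply, Fin.sum_univ_four, Matrix.transpose, map_inv₀, map_ofNat] <;> field_simp <;>
    (first | linear_combination (1 : K) * ha | linear_combination (-1 : K) * ha |
      linear_combination (2 : K) * ha | linear_combination (-2 : K) * ha)

/-- The transported matrix. -/
def conj' (s : K →+* K) (a : K) (M : Matrix (Fin 4) (Fin 4) K) : Matrix (Fin 4) (Fin 4) K :=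
  Pm a * M * Pi' s a

omit [Fintype K] in
theorem conj'_mul (s : K →+* K) (a : K) (h2 : (2 : K) ≠ 0) (ha : a * s a = -1)
    (M N : Matrix (Fin 4) (Fin 4) K) : conj' s a (M * N) = conj' s a M * conj' s a N := by
  simp only [conj', Matrix.mul_assoc]
  rw [← Matrix.mul_assoc (Pi' s a) (Pm a), Pi_mul s a h2 ha, Matrix.one_mul]

theorem isUnitary_conj' (a : K) (h2 : (2 : K) ≠ 0) (ha : a * sg p a = -1) {M : Matrix (Fin 4) (Fin 4) K}
    (hM : Mᵀ * Jm * M.map (sg p) = Jm) : Unitary.IsUnitary p (conj' (sg p) a M) := by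
  set s : K →+* K := sg p
  set G := conj' s a M
  have hP : Pm a * Pi' s a = 1 := mul_eq_one_comm.1 (Pi_mul s a h2 ha)
  have hG : Gᵀ * G.map s = 1 := by
    have e : Gᵀ * G.map s = (Pi' s a)ᵀ * (Mᵀ * ((Pm a)ᵀ * (Pm a).map s) * M.map s) * (Pi' s a).map s := by
      simp only [G, conj', Matrix.transpose_mul, Matrix.map_mul, Matrix.mul_assoc]
    rw [e, Pm_J s a h2 ha, hM, ← Pm_J s a h2 ha]
    calc (Pi' s a)ᵀ * ((Pm a)ᵀ * (Pm a).map s) * (Pi' s a).map s
        = (Pm a * Pi' s a)ᵀ * (Pm a * Pi' s a).map s := by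
          simp only [Matrix.transpose_mul, Matrix.map_mul, Matrix.mul_assoc]
      _ = 1 := by rw [hP]; simp
  intro u v
  have hh : ∀ u v : Fin 4 → K, Cfsg.hermForm 4 K p u v = u ⬝ᵥ (s ∘ v) := fun u v => rfl
  have hmv : (s ∘ (G *ᵥ v)) = G.map s *ᵥ (s ∘ v) := funext fun i => RingHom.map_mulVec s G v i
  rw [hh, hh, hmv, Matrix.dotProduct_mulVec, ← Matrix.vecMul_transpose, Matrix.vecMul_vecMul,
    hG, Matrix.vecMul_one]

theorem det_conj' (a : K) (h2 : (2 : K) ≠ 0) (ha : a * sg p a = -1) {M : Matrix (Fin 4) (Fin 4) K}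
    (hM : M.det = 1) : (conj' (sg p) a M).det = 1 := by
  rw [conj', Matrix.det_mul, Matrix.det_mul, hM, mul_one, ← Matrix.det_mul,
    mul_eq_one_comm.1 (Pi_mul _ a h2 ha), Matrix.det_one]

/-- The element of `SU₄` given by a matrix on the new basis. -/
noncomputable def el (a : K) (h2 : (2 : K) ≠ 0) (ha : a * sg p a = -1) (M : Matrix (Fin 4) (Fin 4) K)
    (hM : Mᵀ * Jm * M.map (sg p) = Jm) (hd : M.det = 1) : Cfsg.SU 4 K p :=
  Unitary.suOfUnitary (conj' (sg p) a M) (isUnitary_conj' a h2 ha hM) (det_conj' a h2 ha hd)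

omit [Fact p.Prime] [CharP K p] in
theorem su_ext {g h : Cfsg.SU 4 K p}
    (e : ((g : Matrix.SpecialLinearGroup (Fin 4) K) : Matrix (Fin 4) (Fin 4) K) =
      ((h : Matrix.SpecialLinearGroup (Fin 4) K) : Matrix (Fin 4) (Fin 4) K)) : g = h :=
  Subtype.ext (Subtype.ext e)

theorem exists_frame_SU (hK : Fintype.card K = p ^ 2) (h2 : (2 : K) ≠ 0) (ν : ℤ) (ι : K)
    (hι : ι * ι = (ν : K)) (hισ : sg p ι = -ι) (hι0 : ι ≠ 0) :
    ∃ (x z : Cfsg.SU 4 K p) (q : Fin 4 → Cfsg.SU 4 K p), Frame p (cU ν) eU x z q ∧ z ≠ 1 := by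
  set s : K →+* K := sg p
  have hs : ∀ a, s (s a) = a := sg_sg p hK
  obtain ⟨a, ha'⟩ := Unitary.exists_norm_eq hK (c := (-1 : K)) (by
    show (-1 : K) ^ p = -1
    rw [← frobenius_def (R := K) (p := p), map_neg, map_one])
  have ha : a * s a = -1 := by
    show a * a ^ p = -1
    rw [← pow_succ', ha']
  let X : ∀ m w k : K, s m = -m → s k = -k → Cfsg.SU 4 K p := fun m w k hm hk =>
    el a h2 ha (Xm s m w k) (Xm_J s hs m w k hm hk) (det_Xm s m w k)
  let L : K → Cfsg.SU 4 K p := fun t => el a h2 ha (Lm s t) (Lm_J s hs t) (det_Lm s t)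
  have hsν : s (ν : K) = (ν : K) := map_intCast s ν
  have hneg : ∀ c : K, s c = -c → s (-c) = -(-c) := fun c hc => by rw [map_neg, hc]
  have h0 : s 0 = -(0 : K) := by rw [map_zero, neg_zero]
  have hp0 : (p : K) = 0 := CharP.cast_eq_zero K p
  have hone : conj' s a (1 : Matrix (Fin 4) (Fin 4) K) = 1 := by
    rw [conj', Matrix.mul_one]; exact mul_eq_one_comm.1 (Pi_mul s a h2 ha)
  have X0 : ∀ h1 h3, X 0 0 0 h1 h3 = 1 := fun h1 h3 => su_ext (by
    show conj' s a (Xm s 0 0 0) = 1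
    have : Xm s (0 : K) 0 0 = 1 := by ext i j; fin_cases i <;> fin_cases j <;> simp [Xm, Matrix.one_apply]
    rw [this, hone])
  have L0 : L 0 = 1 := su_ext (by
    show conj' s a (Lm s 0) = 1
    have : Lm s (0 : K) = 1 := by ext i j; fin_cases i <;> fin_cases j <;> simp [Lm, Matrix.one_apply]
    rw [this, hone])
  have Xmul : ∀ m w k m' w' k' h1 h3 h1' h3' h5 h6,
      X m w k h1 h3 * X m' w' k' h1' h3' = X (m + m') (w + w') (k + k') h5 h6 := by
    intros
    exact su_ext (by show conj' s a _ * conj' s a _ = _; rw [← conj'_mul s a h2 ha, Xm_mul]; rfl)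
  have Lmul : ∀ t t', L t * L t' = L (t + t') := fun t t' =>
    su_ext (by show conj' s a _ * conj' s a _ = _; rw [← conj'_mul s a h2 ha, Lm_mul]; rfl)
  have Xcongr : ∀ {m w k m' w' k' : K} {h1 : s m = -m} {h3 : s k = -k} {h1' : s m' = -m'} {h3' : s k' = -k'},
      m = m' → w = w' → k = k' → X m w k h1 h3 = X m' w' k' h1' h3' := by
    intros; subst_vars; rfl
  have LX : ∀ t m w k h1 h3 h5, L t * X m w k h1 h3 =
      X (m - t * s w + w * s t + t * s t * k) (w + t * k) k h5 h3 * L t := by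
    intros t m w k h1 h3 h5
    exact su_ext (by
      show conj' s a _ * conj' s a _ = conj' s a _ * conj' s a _
      rw [← conj'_mul s a h2 ha, ← conj'_mul s a h2 ha, Lm_Xm s hs t m w k h3])
  have Xval : ∀ m w k h1 h3, ((X m w k h1 h3 : Matrix.SpecialLinearGroup (Fin 4) K) : Matrix (Fin 4) (Fin 4) K) =
      conj' s a (Xm s m w k) := fun _ _ _ _ _ => rfl
  clear_value X
  have Xcomm : ∀ m w k m' w' k' h1 h3 h1' h3',
      X m w k h1 h3 * X m' w' k' h1' h3' = X m' w' k' h1' h3' * X m w k h1 h3 := by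
    intros m w k m' w' k' h1 h3 h1' h3'
    have h5 : s (m + m') = -(m + m') := by rw [map_add, h1, h1']; ring
    have h6 : s (k + k') = -(k + k') := by rw [map_add, h3, h3']; ring
    have h7 : s (m' + m) = -(m' + m) := by rw [map_add, h1, h1']; ring
    have h8 : s (k' + k) = -(k' + k) := by rw [map_add, h3, h3']; ring
    rw [Xmul m w k m' w' k' h1 h3 h1' h3' h5 h6, Xmul m' w' k' m w k h1' h3' h1 h3 h7 h8]
    exact Xcongr (add_comm _ _) (add_comm _ _) (add_comm _ _)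
  have hn : ∀ (c : K) (k : ℕ), s c = -c → s ((k : K) * c) = -((k : K) * c) := fun c k hc => by
    rw [map_mul, map_natCast, hc]; ring
  have Xpow : ∀ m w k h1 h3, X m w k h1 h3 ^ p = 1 := by
    intro m w k h1 h3
    have key : ∀ i : ℕ, X m w k h1 h3 ^ i = X (i * m) (i * w) (i * k) (hn m i h1) (hn k i h3) := by
      intro i
      induction i with
      | zero =>
        rw [pow_zero, ← X0 h0 h0]
        exact Xcongr (by simp) (by simp) (by simp)
      | succ i ih =>
        rw [pow_succ, ih, Xmul _ _ _ _ _ _ _ _ _ _ (by rw [map_add, hn m i h1, h1]; ring)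
          (by rw [map_add, hn k i h3, h3]; ring)]
        exact Xcongr (by push_cast; ring) (by push_cast; ring) (by push_cast; ring)
    rw [key p, ← X0 h0 h0]
    exact Xcongr (by rw [hp0, zero_mul]) (by rw [hp0, zero_mul]) (by rw [hp0, zero_mul])
  have Lpow : ∀ t, L t ^ p = 1 := by
    intro t
    have key : ∀ i : ℕ, L t ^ i = L (i * t) := by
      intro i
      induction i with
      | zero => rw [pow_zero, Nat.cast_zero, zero_mul, L0]
      | succ i ih => rw [pow_succ, ih, Lmul, Nat.cast_succ, add_one_mul]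
    rw [key p, hp0, zero_mul, L0]
  set z := X (-2 * ι) 0 0 (by rw [map_mul, map_neg, map_ofNat, hισ]; ring) h0 with hz
  set x := X 0 0 ι h0 hισ with hx
  set q3 := X (-ι) (-ι) 0 (hneg ι hισ) h0 with hq3
  set q4 := X ((ν : K) * ι) (-(ν : K)) 0 (by rw [map_mul, hsν, hισ]; ring) h0 with hq4
  have zpowX : ∀ (i : ℤ) h1, z ^ i = X ((i : K) * (-2 * ι)) 0 0 h1 h0 := by
    intro i
    induction i with
    | zero => intro h1; rw [zpow_zero, ← X0 h0 h0]; exact Xcongr (by simp) rfl rfl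
    | succ i ih =>
      intro h1
      rw [_root_.zpow_add_one, ih (by rw [map_mul, map_intCast, map_mul, map_neg, map_ofNat, hισ]; ring), hz,
        Xmul _ _ _ _ _ _ _ _ _ _ (by rw [map_add, map_mul, map_intCast, map_mul, map_neg, map_ofNat, hισ]; ring)
          (by rw [map_add, map_zero]; ring)]
      exact Xcongr (by push_cast; ring) (add_zero _) (add_zero _)
    | pred i ih =>
      intro h1
      have hz' : z⁻¹ = X (2 * ι) 0 0 (by rw [map_mul, map_ofNat, hισ]; ring) h0 := by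
        refine inv_eq_of_mul_eq_one_right ?_
        rw [hz, Xmul _ _ _ _ _ _ _ _ _ _ (by rw [map_add, map_mul, map_mul, map_neg, map_ofNat, hισ]; ring)
          (by rw [map_add, map_zero]; ring), ← X0 h0 h0]
        exact Xcongr (by ring) (add_zero _) (add_zero _)
      rw [_root_.zpow_sub_one, ih (by rw [map_mul, map_intCast, map_mul, map_neg, map_ofNat, hισ]; ring), hz',
        Xmul _ _ _ _ _ _ _ _ _ _ (by rw [map_add, map_mul, map_intCast, map_mul, map_mul, map_neg, map_ofNat, hισ]; ring)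
          (by rw [map_add, map_zero]; ring)]
      exact Xcongr (by push_cast; ring) (add_zero _) (add_zero _)
  have Xsplit : ∀ (m w k c : K) h1 h3 hc h5,
      X (c + m) w k h5 h3 = X c 0 0 hc h0 * X m w k h1 h3 := by
    intros m w k c h1 h3 hc h5
    rw [Xmul _ _ _ _ _ _ _ _ _ _ h5 (by rw [map_add, h3, map_zero]; ring)]
    exact Xcongr rfl (zero_add _).symm (zero_add _).symm
  have c1 : ∀ {u v : Cfsg.SU 4 K p}, u * v = v * u → ⁅u, v⁆ = 1 :=
    fun h => commutatorElement_eq_one_iff_mul_comm.2 h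
  have ceq : ∀ {u v w : Cfsg.SU 4 K p}, u * v = w * v * u → ⁅u, v⁆ = w := fun {u v w} h => by
    rw [commutatorElement_def, h]; group
  have k12 : ⁅L 1, L ι⁆ = 1 := c1 (by rw [Lmul, Lmul, add_comm])
  have k13 : ⁅L 1, q3⁆ = z := by
    refine ceq ?_
    rw [hq3, LX _ _ _ _ _ _ (by simp [hισ]; ring), hz, Xmul _ _ _ _ _ _ _ _ _ _
      (by rw [map_add, map_mul, map_neg, map_neg, map_ofNat, hισ]; ring) (by rw [map_add, map_zero]; ring)]
    exact congrArg (· * L 1) (Xcongr (by simp [hισ]; ring) (by simp) (by simp))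
  have k14 : ⁅L 1, q4⁆ = 1 := by
    refine ceq ?_
    rw [one_mul, hq4, LX _ _ _ _ _ _ (by simp [hισ, hsν])]
    exact congrArg (· * L 1) (Xcongr (by simp [hsν]) (by simp) rfl)
  have k23 : ⁅L ι, q3⁆ = 1 := by
    refine ceq ?_
    rw [one_mul, hq3, LX _ _ _ _ _ _ (by simp [hισ])]
    exact congrArg (· * L ι) (Xcongr (by simp [hισ]) (by simp) rfl)
  have k24 : ⁅L ι, q4⁆ = z ^ (-ν) := by
    refine ceq ?_
    rw [hq4, zpowX _ (by rw [map_mul, map_intCast, map_mul, map_neg, map_ofNat, hισ]; ring),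
      LX _ _ _ _ _ _ (by simp [hισ, hsν]; ring), Xmul _ _ _ _ _ _ _ _ _ _
      (by simp [hισ, hsν, map_ofNat]; ring) (by rw [map_add, map_zero]; ring)]
    refine congrArg (· * L ι) (Xcongr ?_ (by simp) (by simp))
    simp [hισ, hsν, map_ofNat]; ring
  have k34 : ⁅q3, q4⁆ = 1 := c1 (Xcomm _ _ _ _ _ _ _ _ _ _)
  have m1 : ⁅x, L 1⁆ = q3 := by
    refine ceq ?_
    have e := LX 1 0 0 ι h0 hισ (by simp [hισ])
    rw [← hx] at e
    rw [mul_assoc, e, hq3, ← mul_assoc, Xmul _ _ _ _ _ _ _ _ _ _ (by simp [hισ]) (by simp [hισ])]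
    exact congrArg (· * L 1) (Xcongr (by simp) (by simp) (by simp))
  have m2 : ⁅x, L ι⁆ = q4 := by
    refine ceq ?_
    have e := LX ι 0 0 ι h0 hισ (by simp [hισ])
    rw [← hx] at e
    rw [mul_assoc, e, hq4, ← mul_assoc, Xmul _ _ _ _ _ _ _ _ _ _ (by simp [hισ, hsν]; ring) (by simp [hισ])]
    refine congrArg (· * L ι) (Xcongr ?_ ?_ (by simp))
    · simp [hισ]; linear_combination ι * hι
    · simp; linear_combination -hι
  refine ⟨x, z, ![L 1, L ι, q3, q4], ⟨Xpow _ _ _ _ _, Xpow _ _ _ _ _, ?_, Xcomm _ _ _ _ _ _ _ _ _ _, ?_, ?_, ?_⟩, ?_⟩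
  · intro i; fin_cases i
    · exact Lpow 1
    · exact Lpow ι
    · exact Xpow _ _ _ _ _
    · exact Xpow _ _ _ _ _
  · have hL : ∀ t, L t * z = z * L t := fun t => by
      rw [hz, LX _ _ _ _ _ _ (by simp [hισ, map_ofNat])]
      exact congrArg (· * L t) (Xcongr (by simp) (by simp) rfl)
    intro i; fin_cases i
    · exact hL 1
    · exact hL ι
    · exact Xcomm _ _ _ _ _ _ _ _ _ _
    · exact Xcomm _ _ _ _ _ _ _ _ _ _
  · intro a b hab
    fin_cases a <;> fin_cases b <;> simp [cU, k12, k13, k14, k23, k24, k34] <;> simp at hab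
  · intro i
    have m3 : ⁅x, q3⁆ = 1 := c1 (Xcomm _ _ _ _ _ _ _ _ _ _)
    have m4 : ⁅x, q4⁆ = 1 := c1 (Xcomm _ _ _ _ _ _ _ _ _ _)
    fin_cases i <;> simp [eU, wordQ, m1, m2, m3, m4]
  · intro h
    have h' : conj' s a (Xm s (-2 * ι) 0 0) = conj' s a 1 := by
      rw [hone, ← Xval (-2 * ι) 0 0 (by rw [map_mul, map_neg, map_ofNat, hισ]; ring) h0]
      exact congrArg (fun g : Cfsg.SU 4 K p =>
        ((g : Matrix.SpecialLinearGroup (Fin 4) K) : Matrix (Fin 4) (Fin 4) K)) h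
    have h1 := congrArg (fun M => Pi' s a * M * Pm a) h'
    simp only [conj', ← Matrix.mul_assoc, Pi_mul s a h2 ha, Matrix.one_mul] at h1
    simp only [Matrix.mul_assoc, Pi_mul s a h2 ha, Matrix.mul_one] at h1
    have h3 := congrFun (congrFun h1 0) 2
    simp [Xm, Matrix.one_apply, h2, hι0] at h3

theorem not_dvd_card_SU (hK : Fintype.card K = p ^ 2) : ¬ p ^ 7 ∣ Nat.card (Cfsg.SU 4 K p) := by
  have hp : p.Prime := Fact.out
  intro h
  have h1 : p ^ 7 ∣ (p + 1) * Nat.card (Cfsg.SU 4 K p) := h.mul_left _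
  rw [Unitary.card_SU hK 4 (by norm_num), show 4 * (4 - 1) / 2 = 6 from rfl, pow_succ] at h1
  have h2 := Nat.dvd_of_mul_dvd_mul_left (pow_pos hp.pos 6) h1
  rcases (Prime.dvd_finsetProd_iff (Nat.prime_iff.1 hp) _).1 h2 with ⟨i, -, hi⟩
  have h3 : p ∣ p ^ (i + 1) := dvd_pow_self p (Nat.succ_ne_zero i)
  have h4 : 1 ≤ p ^ (i + 1) := Nat.one_le_pow _ _ hp.pos
  split_ifs at hi
  · exact hp.one_lt.ne' (Nat.dvd_one.1 ((Nat.dvd_add_right h3).1 hi))
  · have h5 := Nat.dvd_sub h3 hi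
    rw [show p ^ (i + 1) - (p ^ (i + 1) - 1) = 1 by omega] at h5
    exact hp.one_lt.ne' (Nat.dvd_one.1 h5)

omit [CharP K p] in
theorem exists_field_sq (hp2 : p ≠ 2) (ν : ℤ) (hν : ¬ IsSquare (ν : ZMod p)) :
    ∃ (K : Type) (_ : Field K) (_ : Fintype K), Fintype.card K = p ^ 2 ∧
      ∃ P : CharP K p, (2 : K) ≠ 0 ∧
        ∃ ι : K, ι * ι = (ν : K) ∧ @sg K _ p _ P ι = -ι ∧ ι ≠ 0 := by
  have hp : p.Prime := Fact.out
  let K := GaloisField p 2
  letI : Fintype K := Fintype.ofFinite K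
  have hK : Fintype.card K = p ^ 2 := by
    rw [← Nat.card_eq_fintype_card]; exact GaloisField.card p 2 two_ne_zero
  have h2 : (2 : K) ≠ 0 := by
    intro h
    have h' : ((2 : ℕ) : K) = 0 := by exact_mod_cast h
    rw [CharP.cast_eq_zero_iff K p] at h'
    exact hp2 ((Nat.prime_dvd_prime_iff_eq hp Nat.prime_two).1 h')
  have hν0 : (ν : ZMod p) ≠ 0 := fun h => hν (h ▸ IsSquare.zero)
  have hcast : (ν : K) = algebraMap (ZMod p) K (ν : ZMod p) := (map_intCast _ ν).symm
  have hνK : (ν : K) ≠ 0 := by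
    rw [hcast]; exact (map_ne_zero _).2 hν0
  have hring : ringChar K ≠ 2 := by rw [ringChar.eq K p]; exact hp2
  obtain ⟨k, hk⟩ := hp.odd_of_ne_two hp2
  have hhalf : Fintype.card K / 2 = (p - 1) * ((p + 1) / 2) := by
    rw [hK, hk, show (2 * k + 1) ^ 2 = 2 * (2 * k * (k + 1)) + 1 by ring, show (2 * k + 1 + 1) / 2 = k + 1 by omega,
      Nat.add_sub_cancel]
    omega
  have hνq : (ν : K) ^ (p - 1) = 1 := by
    rw [hcast, ← map_pow, ZMod.pow_card_sub_one_eq_one hν0, map_one]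
  obtain ⟨ι, hι⟩ := (FiniteField.isSquare_iff hring hνK).2 (by rw [hhalf, pow_mul, hνq, one_pow])
  refine ⟨K, inferInstance, inferInstance, hK, inferInstance, h2, ι, hι.symm, ?_, fun h => hνK (by rw [hι, h, mul_zero])⟩
  show ι ^ p = -ι
  have hneg : ((ν : ZMod p) ^ (p / 2)) = -1 := by
    rcases ZMod.pow_div_two_eq_neg_one_or_one p hν0 with h | h
    · exact absurd ((ZMod.euler_criterion p hν0).2 h) hν
    · exact h
  have h5 : ι ^ (p - 1) = -1 := by
    rw [show p - 1 = 2 * (p / 2) by omega, pow_mul, pow_two, ← hι, hcast, ← map_pow, hneg, map_neg, map_one]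
  calc ι ^ p = ι ^ (p - 1 + 1) := by congr 1; omega
    _ = -ι := by rw [pow_succ, h5, neg_one_mul]

end Cfsg.Agent.ExtraspecialIndexP.UModel
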