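import Cfsg.Agent.Lib.ExtraspecialIndexP.Setup
import Cfsg.Agent.Lib.FusionChain.Alperin
import Cfsg.Agent.Lib.FusionChain.Radical

/-
A subgroup of largest order carrying a map that moves the centre.
Main results (namespace `Cfsg.Agent.ExtraspecialIndexP`): `Mover`, `exists_mover`, and for a mover
`aut_pGroup_fix`, `star`, `moved_spec` : every moved point `u` of `R` is central in `R` and `R = C_S(u)`,
`not_le` : `R` is not contained in `Q`.
-/

set_option autoImplicit false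

universe u

namespace Cfsg.Agent.ExtraspecialIndexP

open Cfsg Cfsg.FusionSystem Cfsg.Agent.Fusion Cfsg.Agent.FusionChain
open scoped commutatorElement

variable {Ω : Type u} [Group Ω] {S : Subgroup Ω} {p : ℕ} {F : FusionSystem S} {Q : Subgroup Ω} {z : Ω}

/-- A fully normalized subgroup with an automorphism moving the centre, of largest possible order. -/
structure Mover (F : FusionSystem S) (p : ℕ) (Q : Subgroup Ω) (z : Ω) (R : Subgroup Ω) : Prop where
  setup : Setup F p Q z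
  fn : F.IsFullyNormalized R
  zR : z ∈ R
  cent : centralizerIn S R ≤ R
  ex : ∃ g ∈ F.autGroup R, autFn g z ∉ Subgroup.zpowers z
  big : ∀ (P : Subgroup Ω) (f : Ω → Ω), IsMap F P f → z ∈ P → Nat.card R < Nat.card P →
    f z ∈ Subgroup.zpowers z

namespace Setup

variable (D : Setup F p Q z)
include D

theorem map_eq_zpow {P : Subgroup Ω} {f : Ω → Ω} (hf : IsMap F P f) (hz : z ∈ P) (i : ℕ) :
    f (z ^ i) = f z ^ i := by
  have _ := D
  induction i with
  | zero => simpa using hf.map_one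
  | succ i ih => rw [pow_succ, hf.map_mul (pow_mem hz i) hz, ih, pow_succ]

theorem exists_pow_eq {w : Ω} (hw : w ∈ Subgroup.zpowers z) : ∃ i : ℕ, z ^ i = w := by
  classical
  have h : IsOfFinOrder z := orderOf_pos_iff.1 (by rw [D.ordz]; exact D.prime.pos)
  obtain ⟨i, -, hi⟩ := Finset.mem_image.1 (h.mem_zpowers_iff_mem_range_orderOf.1 hw)
  exact ⟨i, hi⟩

theorem map_mem_zpowers {P : Subgroup Ω} {f : Ω → Ω} (hf : IsMap F P f) (hz : z ∈ P)
    (h : f z ∈ Subgroup.zpowers z) {w : Ω} (hw : w ∈ Subgroup.zpowers z) :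
    f w ∈ Subgroup.zpowers z := by
  obtain ⟨i, rfl⟩ := D.exists_pow_eq hw
  rw [D.map_eq_zpow hf hz]
  exact pow_mem h i

/-- A map that sends `z` into `⟨z⟩` sends nothing outside `⟨z⟩` into it. -/
theorem mem_of_map_mem {P : Subgroup Ω} {f : Ω → Ω} (hf : IsMap F P f) (hz : z ∈ P)
    (h : f z ∈ Subgroup.zpowers z) {w : Ω} (hwP : w ∈ P) (hw : f w ∈ Subgroup.zpowers z) :
    w ∈ Subgroup.zpowers z := by
  haveI := Fact.mk D.prime
  have hne : f z ≠ 1 := fun e => D.z_ne (hf.inj hz P.one_mem (e.trans hf.map_one.symm))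
  have hgen : Subgroup.zpowers (f z) = Subgroup.zpowers z := by
    haveI : Finite (Subgroup.zpowers z) := Nat.finite_of_card_ne_zero (by rw [D.card_Z]; exact D.prime.ne_zero)
    refine Subgroup.eq_of_le_of_card_ge (Subgroup.zpowers_le.2 h) ?_
    rw [D.card_Z, Nat.card_zpowers, orderOf_eq_prime (p := p) ?_ hne]
    rw [← D.map_eq_zpow hf hz, D.z_pow, hf.map_one]
  obtain ⟨i, hi⟩ := Subgroup.mem_zpowers_iff.1 (hgen.ge hw)
  have h2 : f (z ^ i) = f z ^ i := by
    rcases Int.eq_nat_or_neg i with ⟨j, rfl | rfl⟩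
    · rw [zpow_natCast, zpow_natCast, D.map_eq_zpow hf hz]
    · rw [zpow_neg, zpow_natCast, hf.map_inv (pow_mem hz j), D.map_eq_zpow hf hz, zpow_neg, zpow_natCast]
  exact Subgroup.mem_zpowers_iff.2 ⟨i, hf.inj (zpow_mem hz i) hwP (h2.trans hi)⟩

theorem exists_moving : ∃ P f, IsMap F P f ∧ z ∈ P ∧ f z ∉ Subgroup.zpowers z := by
  haveI := D.fin
  haveI := Fact.mk D.prime
  by_contra hc
  push Not at hc
  have hN : F.IsNormal (Subgroup.zpowers z) := by
    refine isNormal_of_radicals D.hS D.hF (Subgroup.zpowers_le.2 D.z_memS) fun R _ hRc _ => ?_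
    have hzR : z ∈ R := hRc.2 R (isConj_refl F hRc.1)
      (mem_centralizerIn.2 ⟨D.z_memS, fun y hy => (D.z_comm (hRc.1 hy)).symm⟩)
    refine ⟨Subgroup.zpowers_le.2 hzR, fun α hα q hq => ?_⟩
    have hf := (mem_autGroup_iff hRc.1).1 hα
    exact D.map_mem_zpowers hf hzR (hc R _ hf hzR) hq
  have h : Subgroup.zpowers z ≤ F.core := le_sSup hN
  rw [D.core] at h
  exact D.z_ne (Subgroup.mem_bot.1 (h (Subgroup.mem_zpowers z)))

theorem exists_mover : ∃ R, Mover F p Q z R := by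
  haveI := D.fin
  haveI := Fact.mk D.prime
  classical
  let C := {P : Subgroup Ω // ∃ f, IsMap F P f ∧ z ∈ P ∧ f z ∉ Subgroup.zpowers z}
  have : Finite C := Finite.of_injective (fun P : C => P.1.subgroupOf S) fun P P' h => by
    apply Subtype.ext
    have hP : ∀ P : C, P.1 ≤ S := fun P => P.2.choose_spec.1.le
    rw [← Subgroup.map_subgroupOf_eq_of_le (hP P), show P.1.subgroupOf S = P'.1.subgroupOf S from h,
      Subgroup.map_subgroupOf_eq_of_le (hP P')]
  obtain ⟨P0, f0, h0⟩ := D.exists_moving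
  have : Nonempty C := ⟨⟨P0, f0, h0⟩⟩
  obtain ⟨⟨P, f, hf, hzP, hfz⟩, hmax⟩ := Finite.exists_max (fun P : C => Nat.card P.1)
  have hbig : ∀ (P' : Subgroup Ω) (f' : Ω → Ω), IsMap F P' f' → z ∈ P' → Nat.card P < Nat.card P' →
      f' z ∈ Subgroup.zpowers z := by
    intro P' f' hf' hz' hlt
    by_contra hn
    exact (hmax ⟨P', f', hf', hz', hn⟩).not_gt hlt
  have hlt : ∀ P' : Subgroup Ω, P' ≤ S → Nat.card P' = Nat.card P →
      Nat.card P < Nat.card (normalizerIn S P') := by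
    intro P' hP' hcard
    have hne : P' < S := by
      refine lt_of_le_of_ne hP' fun e => hfz ?_
      have hPS : P = S := eq_of_le_of_card le_rfl hf.le (by rw [← hcard, e])
      subst hPS
      rw [← D.centerS]
      refine ⟨hf.mem hzP, Subgroup.mem_centralizer_iff.2 fun w hw => ?_⟩
      have himg : img f P = P := eq_of_le_of_card le_rfl hf.img_le_S (hf.card_img le_rfl).ge
      obtain ⟨v, hv, rfl⟩ := (hf.mem_img_iff le_rfl).1 (himg.ge hw)
      rw [← hf.map_mul hv hzP, ← hf.map_mul hzP hv, D.z_comm hv]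
    rw [← hcard]
    haveI := finite_of_le (S := S) (P := normalizerIn S P') inf_le_left
    refine lt_of_not_ge fun hle => (lt_normalizerIn D.hS le_rfl hne).ne ?_
    exact Subgroup.eq_of_le_of_card_ge (le_normalizerIn hP') hle
  obtain ⟨R, f1, hRn, hf1, hf1P, -⟩ := exists_fullyNormalized_map D.hS D.hF hf.le
  have hRa := fullyAutomized_of_fullyNormalized D.hS D.hF hRn
  have hRr := receptive_of_fullyNormalized D.hS D.hF hRn
  have hPR : IsIso F P R f1 := ⟨hf1.mono (le_normalizerIn hf.le), hf1P⟩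
  have hcR : Nat.card R = Nat.card P := hPR.card_eq
  have hf1z : f1 z ∈ Subgroup.zpowers z :=
    hbig _ f1 hf1 (le_normalizerIn hf.le hzP) (hlt P hf.le rfl)
  have hzR : z ∈ R := by
    have h1 : f1 z ∈ R := hPR.mem hzP
    have hne : f1 z ≠ 1 := fun e => D.z_ne (hf1.inj (le_normalizerIn hf.le hzP) (one_mem _)
      (e.trans hf1.map_one.symm))
    obtain ⟨i, hi⟩ := Subgroup.mem_zpowers_iff.1 hf1z
    haveI : Finite (Subgroup.zpowers z) := finite_of_le (Subgroup.zpowers_le.2 D.z_memS)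
    have : Subgroup.zpowers z ≤ R := by
      have hle : Subgroup.zpowers z ⊓ R ≠ ⊥ := fun e =>
        hne (Subgroup.mem_bot.1 (e ▸ (⟨hf1z, h1⟩ : f1 z ∈ Subgroup.zpowers z ⊓ R)))
      have hd := Subgroup.card_dvd_of_le (inf_le_left : Subgroup.zpowers z ⊓ R ≤ Subgroup.zpowers z)
      rw [D.card_Z] at hd
      rcases (Nat.dvd_prime D.prime).1 hd with h | h
      · exact absurd (Subgroup.eq_bot_of_card_eq _ h) hle
      · exact inf_eq_left.1 (Subgroup.eq_of_le_of_card_ge inf_le_left (by rw [D.card_Z, h]))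
    exact this (Subgroup.mem_zpowers z)
  -- transport the moving map to `R`
  set P' := img f P
  have hP'S : P' ≤ S := hf.img_le_S
  have hcP' : Nat.card P' = Nat.card P := hf.card_img le_rfl
  have hP'R : F.IsConj P' R := isConj_trans (isConj_symm (isConj_iff.2 ⟨f, hf.isIso⟩)) (isConj_iff.2 ⟨f1, hPR⟩)
  obtain ⟨f2, hf2, hf2P, -⟩ := exists_normalizer_map D.hS hRa hRr hP'R
  have hP'R' : IsIso F P' R f2 := ⟨hf2.mono (le_normalizerIn hP'S), hf2P⟩
  obtain ⟨inv, hinv, hinvl, -⟩ := hPR.symm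
  obtain ⟨α, hα, hαe⟩ := exists_aut_of_isIso ((hinv.trans hf.isIso).trans hP'R')
  have hzN : z ∈ normalizerIn S P' := mem_normalizerIn.2 ⟨D.z_memS, fun y => by
    constructor
    · intro hy; rwa [← (D.z_comm (hP'S hy)), mul_inv_cancel_right]
    · intro hy
      have hyS : y ∈ S := by
        have := mul_mem (mul_mem (inv_mem D.z_memS) (hP'S hy)) D.z_memS
        simpa [mul_assoc] using this
      rwa [← (D.z_comm hyS), mul_inv_cancel_right] at hy⟩
  have hf2z : f2 z ∈ Subgroup.zpowers z := hbig _ f2 hf2 hzN (hlt P' hP'S hcP')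
  have hmove : autFn α z ∉ Subgroup.zpowers z := by
    rw [autFn_apply α hzR, hαe ⟨z, hzR⟩]
    intro h
    have hinvP : inv z ∈ P := hinv.mem hzR
    have h1 : f (inv z) ∈ Subgroup.zpowers z :=
      D.mem_of_map_mem hf2 hzN hf2z (le_normalizerIn hP'S (hf.isIso.mem hinvP)) h
    have h2 : inv z ∈ Subgroup.zpowers z := by
      obtain ⟨w, hw, hwz⟩ := hPR.exists_eq hzR
      have hwZ : w ∈ Subgroup.zpowers z := D.mem_of_map_mem hf1 (le_normalizerIn hf.le hzP) hf1z
        (le_normalizerIn hf.le hw) (by rw [hwz]; exact Subgroup.mem_zpowers z)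
      have hiw := hinvl w hw
      rw [hwz] at hiw
      rwa [hiw]
    -- `f` would fix the line
    have h3 : inv z ≠ 1 := fun e => D.z_ne (hinv.1.inj hzR R.one_mem (e.trans hinv.1.map_one.symm))
    obtain ⟨i, hi⟩ := D.exists_pow_eq h2
    have hgen : Subgroup.zpowers (inv z) = Subgroup.zpowers z := by
      haveI : Finite (Subgroup.zpowers z) := finite_of_le (Subgroup.zpowers_le.2 D.z_memS)
      refine Subgroup.eq_of_le_of_card_ge (Subgroup.zpowers_le.2 h2) ?_
      rw [D.card_Z, Nat.card_zpowers, orderOf_eq_prime (p := p) ?_ h3]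
      rw [← hi, ← pow_mul, mul_comm, pow_mul, D.z_pow, one_pow]
    obtain ⟨j, hj⟩ := Subgroup.mem_zpowers_iff.1 (hgen.ge (Subgroup.mem_zpowers z))
    refine hfz ?_
    obtain ⟨φ, hφ, hφf⟩ := hf
    rw [← hφf z hzP, show (⟨z, hzP⟩ : P) = (⟨inv z, hinvP⟩ : P) ^ j from Subtype.ext hj.symm, map_zpow,
      hφf (inv z) hinvP]
    exact zpow_mem h1 j
  refine ⟨R, D, hRn, hzR, ?_, ⟨α, hα, hmove⟩, fun P f hf hz hlt => hbig P f hf hz (hcR ▸ hlt)⟩
  by_contra hC
  obtain ⟨f', hf', he⟩ := exists_extension hRr hα (centralizerIn_le_normalizerIn S R) fun g hg => by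
    rw [(normConj_eq_one_iff _).2 hg, mul_one, mul_inv_cancel]
    exact one_mem _
  refine hmove (he z hzR ▸ hbig _ f' hf' (Subgroup.mem_sup_left hzR) ?_)
  rw [← hcR]
  haveI := finite_of_le hf'.le
  refine lt_of_not_ge fun hle => hC ?_
  exact le_trans le_sup_right (Subgroup.eq_of_le_of_card_ge le_sup_left hle).ge

end Setup

namespace Mover

variable {R : Subgroup Ω} (M : Mover F p Q z R)
include M

theorem hRS : R ≤ S := M.fn.1

theorem finR : Finite R := haveI := M.setup.fin; finite_of_le M.hRS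

theorem finAut : Finite (MulAut R) := haveI := M.setup.fin; finite_mulAut M.hRS

theorem sylow : IsSylowIn p (autInducedBy S R) (F.autGroup R) := by
  haveI := M.setup.fin
  haveI := Fact.mk M.setup.prime
  exact (isFullyAutomized_iff.1 (fullyAutomized_of_fullyNormalized M.setup.hS M.setup.hF M.fn)).2

theorem lt_S : R < S := by
  refine lt_of_le_of_ne M.hRS fun e => ?_
  subst e
  obtain ⟨g, hg, hgz⟩ := M.ex
  refine hgz ?_
  rw [← M.setup.centerS, autFn_apply g M.zR]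
  refine ⟨(g ⟨z, M.zR⟩).2, Subgroup.mem_centralizer_iff.2 fun w hw => ?_⟩
  obtain ⟨v, hv⟩ := g.surjective ⟨w, hw⟩
  have := congrArg Subtype.val (congrArg g (Subtype.ext (M.setup.z_comm v.2) :
    v * ⟨z, M.zR⟩ = ⟨z, M.zR⟩ * v))
  rw [map_mul, map_mul, hv] at this
  exact this

/-- The stabilizer of the line `⟨z⟩`. -/
theorem fix_of_isPGroup {U : Subgroup (MulAut R)} (hU : IsPGroup p U) {α : MulAut R} (hα : α ∈ U)
    (h : autFn α z ∈ Subgroup.zpowers z) : autFn α z = z := by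
  haveI := Fact.mk M.setup.prime
  obtain ⟨i, hi⟩ := Subgroup.mem_zpowers_iff.1 h
  rw [autFn_apply α M.zR] at hi ⊢
  set w : R := ⟨z, M.zR⟩
  have hiw : α w = w ^ i := Subtype.ext hi.symm
  have hpow : ∀ k : ℕ, (α ^ k) w = w ^ (i ^ k) := by
    intro k
    induction k with
    | zero => simp
    | succ k ih => rw [pow_succ, MulAut.mul_apply, hiw, map_zpow, ih, ← zpow_mul, pow_succ]
  obtain ⟨k, hk⟩ := hU ⟨α, hα⟩
  have hk' : α ^ p ^ k = 1 := congrArg Subtype.val hk
  have h1 := congrArg Subtype.val (hpow (p ^ k))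
  rw [hk', MulAut.one_apply] at h1
  have h2 : ((i : ZMod p)) = 1 := by
    have h3 : z ^ (1 : ℤ) = z ^ (i ^ p ^ k) := by rw [zpow_one]; exact h1
    rw [M.setup.zpow_eq_iff, Int.cast_one, Int.cast_pow, ZMod.pow_card_pow] at h3
    exact h3.symm
  rw [← hi]
  calc z ^ i = z ^ (1 : ℤ) := M.setup.zpow_eq_iff.2 (by rw [h2, Int.cast_one])
    _ = z := zpow_one z

theorem stab_mul {α β : MulAut R} (hα : α ∈ F.autGroup R) (h1 : autFn α z ∈ Subgroup.zpowers z)
    (h2 : autFn β z ∈ Subgroup.zpowers z) : autFn (α * β) z ∈ Subgroup.zpowers z := by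
  rw [autFn_apply _ M.zR, MulAut.mul_apply, ← autFn_apply α (β ⟨z, M.zR⟩).2, ← autFn_apply β M.zR]
  exact M.setup.map_mem_zpowers ((mem_autGroup_iff M.hRS).1 hα) M.zR h1 h2

theorem stab_inv {α : MulAut R} (hα : α ∈ F.autGroup R) (h : autFn α z ∈ Subgroup.zpowers z) :
    autFn α⁻¹ z ∈ Subgroup.zpowers z := by
  refine M.setup.mem_of_map_mem ((mem_autGroup_iff M.hRS).1 hα) M.zR h (autFn_mem _ M.zR) ?_
  rw [autFn_apply α (autFn_mem _ M.zR)]
  simp only [autFn_apply _ M.zR, Subtype.coe_eta, MulAut.apply_inv_self]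
  exact Subgroup.mem_zpowers z

/-- The subgroup fixing the line `⟨z⟩`. -/
def stab : Subgroup (MulAut R) where
  carrier := {α | α ∈ F.autGroup R ∧ autFn α z ∈ Subgroup.zpowers z}
  one_mem' := ⟨one_mem _, by rw [autFn_apply _ M.zR]; exact Subgroup.mem_zpowers z⟩
  mul_mem' := fun ha hb => ⟨mul_mem ha.1 hb.1, M.stab_mul ha.1 ha.2 hb.2⟩
  inv_mem' := fun ha => ⟨inv_mem ha.1, M.stab_inv ha.1 ha.2⟩

theorem mem_stab {α : MulAut R} :
    α ∈ M.stab ↔ α ∈ F.autGroup R ∧ autFn α z ∈ Subgroup.zpowers z := Iff.rfl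

theorem inducedBy_fix {α : MulAut R} (hα : α ∈ autInducedBy S R) : autFn α z = z := by
  obtain ⟨s, hs, hsa⟩ := mem_autInducedBy_iff.1 hα
  rw [autFn_apply α M.zR, hsa]
  show s * z * s⁻¹ = z
  rw [M.setup.z_comm hs, mul_inv_cancel_right]

theorem inducedBy_le_stab : autInducedBy S R ≤ M.stab := fun α hα =>
  ⟨autInducedBy_le_autGroup F le_rfl M.hRS hα, by rw [M.inducedBy_fix hα]; exact Subgroup.mem_zpowers z⟩

/-- An automorphism normalizing a subgroup of `Aut_S(R)` that is not inner fixes the line. -/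
theorem stab_of_normalizes {U : Subgroup (MulAut R)} (hU : U ≤ autInducedBy S R) {a : MulAut R}
    (ha : a ∈ U) (hai : a ∉ Cfsg.Inn R) {α : MulAut R} (hα : α ∈ F.autGroup R)
    (hn : ∀ k ∈ U, α * k * α⁻¹ ∈ U) : α ∈ M.stab := by
  haveI := M.setup.fin
  haveI := Fact.mk M.setup.prime
  obtain ⟨f, hf, hfα, -⟩ := exists_extension_NK (receptive_of_fullyNormalized M.setup.hS M.setup.hF M.fn)
    hα U fun k hk => ⟨hU (hn k hk.2), hn k hk.2⟩
  refine ⟨hα, hfα z M.zR ▸ M.big _ f hf (Subgroup.mem_sup_left M.zR) ?_⟩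
  haveI := finite_of_le hf.le
  refine lt_of_not_ge fun hle => hai ?_
  obtain ⟨s, hs, hsa⟩ := mem_autInducedBy_iff.1 (hU ha)
  have hsR : s ∈ R := (Subgroup.eq_of_le_of_card_ge le_sup_left hle).ge
    (Subgroup.mem_sup_right (mem_NK.2 ⟨hs, a, ha, hsa⟩))
  exact ⟨⟨s, hsR⟩, MulEquiv.ext fun y => Subtype.ext (hsa y).symm⟩

/-- A `p`-group of automorphisms with a non-inner element in the stabilizer lies in it. -/
theorem pGroup_le_stab {U : Subgroup (MulAut R)} (hU : IsPGroup p U) (hUL : U ≤ F.autGroup R)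
    {a : MulAut R} (ha : a ∈ U) (hai : a ∉ Cfsg.Inn R) (haz : autFn a z ∈ Subgroup.zpowers z) :
    U ≤ M.stab := by
  haveI := M.finAut
  haveI := Fact.mk M.setup.prime
  by_contra hne
  have hlt : U ⊓ M.stab < U := lt_of_le_of_ne inf_le_left fun e => hne (e ▸ inf_le_right)
  haveI : Group.IsNilpotent U := hU.isNilpotent
  have hlt' : (U ⊓ M.stab).subgroupOf U < ⊤ :=
    lt_top_iff_ne_top.2 fun h => hlt.not_ge (Subgroup.subgroupOf_eq_top.1 h)
  obtain ⟨⟨v, hvU⟩, hvN, hvn⟩ := SetLike.exists_of_lt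
    (Group.normalizerCondition_of_isNilpotent (G := U) _ hlt')
  have hT : IsSylowIn p (autInducedBy S R) M.stab := M.sylow.mono M.inducedBy_le_stab fun _ h => h.1
  obtain ⟨m, hm, hmX⟩ := hT.exists_conj_le hU.to_inf_left inf_le_right
  refine hvn ⟨hvU, ?_⟩
  have h1 : m * v * m⁻¹ ∈ M.stab := by
    refine M.stab_of_normalizes (U := (U ⊓ M.stab).map (MulAut.conj m).toMonoidHom)
      (by rintro _ ⟨k, hk, rfl⟩; exact hmX k hk)
      ⟨a, ⟨ha, hUL ha, haz⟩, rfl⟩ (fun h => hai ?_)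
      (mul_mem (mul_mem hm.1 (hUL hvU)) (inv_mem hm.1)) ?_
    · have := (Cfsg.innNormal R).conj_mem _ h m⁻¹
      simpa [mul_assoc] using this
    · rintro _ ⟨k, hk, rfl⟩
      have h2 := (Subgroup.mem_normalizer_iff.1 hvN ⟨k, hk.1⟩).1 hk
      refine ⟨v * k * v⁻¹, h2, ?_⟩
      simp [mul_assoc]
  have := mul_mem (mul_mem (inv_mem hm) h1) hm
  simpa [mul_assoc] using this

/-- A `p`-group of automorphisms containing a non-inner element induced by `S` fixes `z`. -/
theorem pGroup_fix {U : Subgroup (MulAut R)} (hU : IsPGroup p U) (hUL : U ≤ F.autGroup R)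
    {a : MulAut R} (ha : a ∈ U) (hai : a ∉ Cfsg.Inn R) (hat : a ∈ autInducedBy S R) {α : MulAut R}
    (hα : α ∈ U) : autFn α z = z :=
  M.fix_of_isPGroup hU hα
    (M.pGroup_le_stab hU hUL ha hai (M.inducedBy_le_stab hat).2 hα).2

theorem not_inner {s : Ω} (hs : s ∈ normalizerIn S R) (hsR : s ∉ R) :
    normConj S R ⟨s, hs⟩ ∉ Cfsg.Inn R := fun h =>
  hsR (mem_of_conj_mem_inn M.cent hs.1 M.hRS h fun _ => rfl)

theorem normConj_mem {s : Ω} (hs : s ∈ normalizerIn S R) :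
    normConj S R ⟨s, hs⟩ ∈ autInducedBy S R := range_normConj S R ▸ ⟨_, rfl⟩

/-- No element of `N_S(R)` outside `R` fixes a moved point. -/
theorem star_aut {g a : MulAut R} (hg : g ∈ F.autGroup R) (hgz : autFn g z ∉ Subgroup.zpowers z)
    (ha : a ∈ autInducedBy S R) (hai : a ∉ Cfsg.Inn R) : autFn a (autFn g z) ≠ autFn g z := by
  intro he
  haveI := M.finAut
  haveI := Fact.mk M.setup.prime
  set T := autInducedBy S R
  have hT := M.sylow
  set U := T.map (MulAut.conj g⁻¹).toMonoidHom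
  have hUL : U ≤ F.autGroup R := by
    rintro _ ⟨t, ht, rfl⟩
    exact mul_mem (mul_mem (inv_mem hg) (hT.le ht)) (inv_mem (inv_mem hg))
  have hU : IsPGroup p U := hT.isPGroup.map _
  have ha' : g⁻¹ * a * g ∈ U := ⟨a, ha, by simp [MulAut.conj]⟩
  have hle : U ≤ M.stab := by
    refine M.pGroup_le_stab hU hUL ha' (fun h => hai ?_) ?_
    · have := (Cfsg.innNormal R).conj_mem _ h g
      simpa [mul_assoc] using this
    · rw [autFn_apply _ M.zR]
      simp only [autFn_apply g M.zR, autFn_apply a (g ⟨z, M.zR⟩).2, Subtype.coe_eta] at he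
      rw [MulAut.mul_apply, MulAut.mul_apply, Subtype.ext he, MulAut.inv_apply_self]
      exact Subgroup.mem_zpowers z
  have hTs : IsSylowIn p T M.stab := hT.mono M.inducedBy_le_stab fun _ h => h.1
  obtain ⟨m, hm, hmU⟩ := hTs.exists_conj_le hU hle
  have h1 : m * g⁻¹ ∈ M.stab := M.stab_of_normalizes le_rfl ha hai (mul_mem hm.1 (inv_mem hg))
    fun k hk => by
      have := hmU _ ⟨k, hk, rfl⟩
      simpa [mul_assoc] using this
  refine hgz ?_
  have h2 : g ∈ M.stab := by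
    have := mul_mem (inv_mem h1) hm
    simpa [mul_assoc] using this
  exact h2.2

/-- The points to which `z` is moved. -/
def Moved (_M : Mover F p Q z R) (w : Ω) : Prop :=
  (∃ g ∈ F.autGroup R, autFn g z = w) ∧ w ∉ Subgroup.zpowers z

theorem moved_mem {w : Ω} (hw : M.Moved w) : w ∈ R := by
  obtain ⟨⟨g, -, rfl⟩, -⟩ := hw
  exact autFn_mem g M.zR

theorem moved_pow {w : Ω} (hw : M.Moved w) : w ^ p = 1 := by
  obtain ⟨⟨g, hg, rfl⟩, -⟩ := hw
  have hf := (mem_autGroup_iff M.hRS).1 hg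
  rw [← M.setup.map_eq_zpow hf M.zR, M.setup.z_pow, hf.map_one]

theorem moved_comm {w : Ω} (hw : M.Moved w) {r : Ω} (hr : r ∈ R) : r * w = w * r := by
  obtain ⟨⟨g, hg, rfl⟩, -⟩ := hw
  obtain ⟨v, hv⟩ := g.surjective ⟨r, hr⟩
  have := congrArg Subtype.val (congrArg g (Subtype.ext (M.setup.z_comm (M.hRS v.2)) :
    v * ⟨z, M.zR⟩ = ⟨z, M.zR⟩ * v))
  rw [map_mul, map_mul, hv] at this
  rw [autFn_apply g M.zR]
  exact this

theorem moved_star {w : Ω} (hw : M.Moved w) {s : Ω} (hs : s ∈ normalizerIn S R) (hsR : s ∉ R) :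
    s * w * s⁻¹ ≠ w := by
  obtain ⟨⟨g, hg, rfl⟩, hn⟩ := hw
  have := M.star_aut hg hn (M.normConj_mem hs) (M.not_inner hs hsR)
  rwa [autFn_apply _ (autFn_mem g M.zR)] at this

/-- `R` is the centralizer in `S` of each moved point. -/
theorem moved_centralizer {w : Ω} (hw : M.Moved w) {s : Ω} :
    s ∈ R ↔ s ∈ S ∧ s * w = w * s := by
  refine ⟨fun hs => ⟨M.hRS hs, M.moved_comm hw hs⟩, fun ⟨hs, hsw⟩ => ?_⟩
  haveI := M.setup.fin
  haveI := Fact.mk M.setup.prime
  set C := S ⊓ Subgroup.centralizer ({w} : Set Ω)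
  have hsC : s ∈ C := ⟨hs, Subgroup.mem_centralizer_singleton_iff.2 hsw⟩
  have hRC : R ≤ C := fun r hr =>
    ⟨M.hRS hr, Subgroup.mem_centralizer_singleton_iff.2 (M.moved_comm hw hr)⟩
  by_contra hsR
  obtain ⟨t, ht, htR⟩ := SetLike.exists_of_lt
    (lt_normalizerIn M.setup.hS (inf_le_left : C ≤ S) (lt_of_le_of_ne hRC fun e => hsR (e ▸ hsC)))
  obtain ⟨htC, htN⟩ := mem_normalizerIn.1 ht
  refine M.moved_star hw (mem_normalizerIn.2 ⟨htC.1, htN⟩) htR ?_
  rw [Subgroup.mem_centralizer_singleton_iff.1 htC.2, mul_inv_cancel_right]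

theorem exists_moved : ∃ w, M.Moved w := by
  obtain ⟨g, hg, hgz⟩ := M.ex
  exact ⟨_, ⟨g, hg, rfl⟩, hgz⟩

theorem aut_moved {w : Ω} (hw : M.Moved w) {g : MulAut R} (hg : g ∈ F.autGroup R) :
    M.Moved (autFn g w) ∨ autFn g w ∈ Subgroup.zpowers z := by
  obtain ⟨⟨h, hh, rfl⟩, -⟩ := hw
  by_cases hc : autFn g (autFn h z) ∈ Subgroup.zpowers z
  · exact Or.inr hc
  · refine Or.inl ⟨⟨g * h, mul_mem hg hh, ?_⟩, hc⟩
    rw [autFn_apply _ M.zR, MulAut.mul_apply, autFn_apply h M.zR, autFn_apply g (h ⟨z, M.zR⟩).2]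

/-- A commutator subgroup inside `⟨z⟩` forces `R` to be abelian. -/
theorem abelian_of_comm (h : ∀ a ∈ R, ∀ b ∈ R, ⁅a, b⁆ ∈ Subgroup.zpowers z) :
    ∀ a ∈ R, ∀ b ∈ R, a * b = b * a := by
  intro a ha b hb
  by_contra hne
  haveI := Fact.mk M.setup.prime
  obtain ⟨g, hg, hgz⟩ := M.ex
  refine hgz ?_
  have hc : ⁅a, b⁆ ≠ 1 := fun e => hne (commutatorElement_eq_one_iff_mul_comm.1 e)
  obtain ⟨k, hk⟩ := Subgroup.mem_zpowers_iff.1 (h a ha b hb)
  have hk0 : (k : ZMod p) ≠ 0 := fun e => hc (by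
    rw [← hk, ← zpow_zero z]; exact M.setup.zpow_eq_iff.2 (by simpa using e))
  have hz : z = ⁅a, b⁆ ^ (((k : ZMod p)⁻¹).val : ℤ) := by
    rw [← hk, ← zpow_mul]
    conv_lhs => rw [← zpow_one z]
    refine M.setup.zpow_eq_iff.2 ?_
    push_cast
    rw [ZMod.natCast_zmod_val, mul_inv_cancel₀ hk0]
  have e : (⟨z, M.zR⟩ : R) = ⁅(⟨a, ha⟩ : R), ⟨b, hb⟩⁆ ^ (((k : ZMod p)⁻¹).val : ℤ) :=
    Subtype.ext (by rw [Subgroup.coe_zpow]; exact hz)
  rw [autFn_apply g M.zR, e, map_zpow, map_commutatorElement, Subgroup.coe_zpow]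
  exact zpow_mem (h _ (g ⟨a, ha⟩).2 _ (g ⟨b, hb⟩).2) _

theorem not_le : ¬ R ≤ Q := by
  intro hle
  have D := M.setup
  haveI := D.fin
  haveI := D.finQ
  haveI := M.finR
  haveI := Fact.mk D.prime
  have hab := M.abelian_of_comm fun a ha b hb => D.comm_mem (hle ha) (hle hb)
  obtain ⟨w, hw⟩ := M.exists_moved
  have hCR : Q ⊓ Subgroup.centralizer ({w} : Set Ω) ≤ R := fun q hq => (M.moved_centralizer hw).2
    ⟨D.hQS hq.1, Subgroup.mem_centralizer_singleton_iff.1 hq.2⟩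
  set H := Subgroup.zpowers z ⊔ Subgroup.zpowers w
  have hHR : H ≤ R := sup_le (Subgroup.zpowers_le.2 M.zR) (Subgroup.zpowers_le.2 (M.moved_mem hw))
  have h1 := D.card_centralizer_mul (H := H) (hHR.trans hle) (Subgroup.mem_sup_left (Subgroup.mem_zpowers z))
  have hHp : Nat.card H ≤ p * p := by
    haveI : Finite (Subgroup.zpowers z) := finite_of_le (Subgroup.zpowers_le.2 D.z_memS)
    have hn : w ∈ Subgroup.normalizer (Subgroup.zpowers z : Set Ω) :=
      Subgroup.centralizer_le_normalizer _ (Subgroup.mem_centralizer_iff.2 fun b hb =>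
        (D.zpow_comm (M.hRS (M.moved_mem hw)) hb).symm)
    exact (card_sup_zpowers_le D.prime.pos (M.moved_pow hw) hn).2.trans_eq (by rw [D.card_Z])
  have hC : Q ⊓ Subgroup.centralizer (H : Set Ω) ≤ R := fun q hq => hCR ⟨hq.1,
    Subgroup.mem_centralizer_singleton_iff.2
      ((Subgroup.mem_centralizer_iff.1 hq.2 w (Subgroup.mem_sup_right (Subgroup.mem_zpowers w))).symm)⟩
  have h2 : p * Nat.card Q ≤ p * p * Nat.card R := h1 ▸ Nat.mul_le_mul hHp (Subgroup.card_le_of_le hC)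
  have h3 := D.card_abelian_sq hle hab
  obtain ⟨n, hn2, hn, -⟩ := D.exists_card
  rw [hn] at h2 h3
  have h4 : p ^ (2 * n + 1) ≤ p * Nat.card R := by
    refine Nat.le_of_mul_le_mul_left ?_ D.prime.pos
    rw [← mul_assoc]; exact h2
  have h5 : p ^ (2 * n + 1) * p ^ (2 * n + 1) ≤ p ^ (2 * n + 4) := by
    calc p ^ (2 * n + 1) * p ^ (2 * n + 1) ≤ (p * Nat.card R) * (p * Nat.card R) := Nat.mul_le_mul h4 h4
      _ = p * p * (Nat.card R * Nat.card R) := by ring
      _ ≤ p * p * (p * p ^ (2 * n + 1)) := Nat.mul_le_mul_left _ h3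
      _ = p ^ (2 * n + 4) := by ring
  rw [← pow_add, Nat.pow_le_pow_iff_right D.prime.one_lt] at h5
  omega

end Mover

end Cfsg.Agent.ExtraspecialIndexP
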