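import Mathlib
import Cfsg.Agent.EqLemmas

/-
Groups of linear maps of a four-dimensional space whose orbit of a point `z` avoids a hyperplane through `z`:
an anisotropic pair of unipotent elements forces an elliptic quadric and hence a torus element.
Main result (namespace `Cfsg.Agent.ExtraspecialIndexP`): `ConeData.exists_torus`.
-/

set_option autoImplicit false

namespace Cfsg.Agent.ExtraspecialIndexP

/-- Coordinates `x, e₁, e₂, z` with the two unipotent elements and the conjugating map `g : z ↦ x`. -/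
structure ConeData (K : Type*) [Field K] (V : Type*) [AddCommGroup V] [Module K V] (G : Type*) [Group G] where
  ρ : G →* (V ≃ₗ[K] V)
  inj : Function.Injective ρ
  L : Subgroup G
  T : Subgroup G
  TL : T ≤ L
  x : V
  e1 : V
  e2 : V
  z : V
  A : V →ₗ[K] K
  spans : ∀ v, ∃ a s t c : K, v = a • x + s • e1 + t • e2 + c • z
  indep : ∀ a s t c : K, a • x + s • e1 + t • e2 + c • z = 0 → a = 0 ∧ s = 0 ∧ t = 0 ∧ c = 0
  Ax : A x = 1
  Ae1 : A e1 = 0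
  Ae2 : A e2 = 0
  Az : A z = 0
  g : G
  gL : g ∈ L
  gz : ρ g z = x
  He1 : A (ρ g⁻¹ e1) = 0
  He2 : A (ρ g⁻¹ e2) = 0
  away : ∀ α ∈ L, A (ρ α z) = 0 → ∃ c : K, ρ α z = c • z
  Tz : ∀ α ∈ T, ρ α z = z
  TA : ∀ α ∈ T, ∀ v, A (ρ α v) = A v
  T0 : ∀ α ∈ T, ∀ v, A v = 0 → ∃ c : K, ρ α v = v + c • z
  star : ∀ α ∈ T, ∀ β ∈ L, (∀ c : K, ρ β z ≠ c • z) → ρ α (ρ β z) = ρ β z → α = 1
  u1 : G
  u2 : G
  hu1 : u1 ∈ T
  hu2 : u2 ∈ T
  b1 : K
  b2 : K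
  B1 : K
  B2 : K
  u1x : ρ u1 x = x + e1 + b1 • z
  u1e1 : ρ u1 e1 = e1 + B1 • z
  u1e2 : ρ u1 e2 = e2
  u2x : ρ u2 x = x + e2 + b2 • z
  u2e1 : ρ u2 e1 = e1
  u2e2 : ρ u2 e2 = e2 + B2 • z
  B1ne : B1 ≠ 0
  B2ne : B2 ≠ 0
  two : (2 : K) ≠ 0

namespace ConeData

variable {K : Type*} [Field K] {V : Type*} [AddCommGroup V] [Module K V] {G : Type*} [Group G]
variable (D : ConeData K V G)

/-- The point with given coordinates. -/
def pt (a s t c : K) : V := a • D.x + s • D.e1 + t • D.e2 + c • D.z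

theorem A_pt (a s t c : K) : D.A (D.pt a s t c) = a := by
  simp [pt, D.Ax, D.Ae1, D.Ae2, D.Az]

theorem pt_inj {a s t c a' s' t' c' : K} (h : D.pt a s t c = D.pt a' s' t' c') :
    a = a' ∧ s = s' ∧ t = t' ∧ c = c' := by
  have h' : (a - a') • D.x + (s - s') • D.e1 + (t - t') • D.e2 + (c - c') • D.z = 0 := by
    have := sub_eq_zero.2 h
    rw [← this, pt, pt]; module
  obtain ⟨h1, h2, h3, h4⟩ := D.indep _ _ _ _ h'
  exact ⟨sub_eq_zero.1 h1, sub_eq_zero.1 h2, sub_eq_zero.1 h3, sub_eq_zero.1 h4⟩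

theorem map_pt (α : G) (a s t c : K) :
    D.ρ α (D.pt a s t c) = a • D.ρ α D.x + s • D.ρ α D.e1 + t • D.ρ α D.e2 + c • D.ρ α D.z := by
  simp only [pt, map_add, map_smul]

theorem ρ_mul (α β : G) (v : V) : D.ρ (α * β) v = D.ρ α (D.ρ β v) := by rw [map_mul]; rfl

theorem ρ_inv (α : G) (v : V) : D.ρ α⁻¹ (D.ρ α v) = v := by
  rw [← ρ_mul, inv_mul_cancel, map_one]; rfl

theorem ρ_inv' (α : G) (v : V) : D.ρ α (D.ρ α⁻¹ v) = v := by
  rw [← ρ_mul, mul_inv_cancel, map_one]; rfl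

theorem ext {α β : G} (hx : D.ρ α D.x = D.ρ β D.x) (h1 : D.ρ α D.e1 = D.ρ β D.e1)
    (h2 : D.ρ α D.e2 = D.ρ β D.e2) (hz : D.ρ α D.z = D.ρ β D.z) : α = β := by
  refine D.inj (LinearEquiv.ext fun v => ?_)
  obtain ⟨a, s, t, c, rfl⟩ := D.spans v
  simp only [map_add, map_smul, hx, h1, h2, hz]

theorem gxz : D.ρ D.g⁻¹ D.x = D.z := by rw [← D.gz, D.ρ_inv]

/-- A moved point in the image of the hyperplane is a multiple of `x`. -/
theorem on_axis {α : G} (hα : α ∈ D.L) {a s t : K} (h : D.ρ α D.z = D.pt a s t 0) : s = 0 ∧ t = 0 := by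
  have h0 : D.A (D.ρ (D.g⁻¹ * α) D.z) = 0 := by
    rw [D.ρ_mul, h, D.map_pt]
    simp only [map_add, map_smul, D.gxz, D.He1, D.He2, D.Az, smul_eq_mul, mul_zero, zero_mul, add_zero]
  obtain ⟨c, hc⟩ := D.away _ (mul_mem (inv_mem D.gL) hα) h0
  have hc' : D.ρ α D.z = D.pt c 0 0 0 := by
    have := congrArg (D.ρ D.g) hc
    rw [D.ρ_mul, D.ρ_inv', map_smul, D.gz] at this
    rw [this, pt]; module
  have := D.pt_inj (h.symm.trans hc')
  exact ⟨this.2.1, this.2.2.1⟩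

theorem pow_u1 (n : ℕ) : D.ρ (D.u1 ^ n) D.x = D.x + (n : K) • D.e1 +
      ((n : K) * D.b1 + (n : K) * ((n : K) - 1) / 2 * D.B1) • D.z ∧
    D.ρ (D.u1 ^ n) D.e1 = D.e1 + ((n : K) * D.B1) • D.z ∧ D.ρ (D.u1 ^ n) D.e2 = D.e2 := by
  induction n with
  | zero => simp
  | succ n ih =>
    refine ⟨?_, ?_, ?_⟩
    · rw [pow_succ', D.ρ_mul, ih.1]
      simp only [map_add, map_smul, D.u1x, D.u1e1, D.Tz _ D.hu1]
      have := D.two
      match_scalars <;> field_simp <;> push_cast <;> ring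
    · rw [pow_succ', D.ρ_mul, ih.2.1]
      simp only [map_add, map_smul, D.u1e1, D.Tz _ D.hu1]
      match_scalars <;> push_cast <;> ring
    · rw [pow_succ', D.ρ_mul, ih.2.2, D.u1e2]

theorem pow_u2 (n : ℕ) : D.ρ (D.u2 ^ n) D.x = D.x + (n : K) • D.e2 +
      ((n : K) * D.b2 + (n : K) * ((n : K) - 1) / 2 * D.B2) • D.z ∧
    D.ρ (D.u2 ^ n) D.e1 = D.e1 ∧ D.ρ (D.u2 ^ n) D.e2 = D.e2 + ((n : K) * D.B2) • D.z := by
  induction n with
  | zero => simp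
  | succ n ih =>
    refine ⟨?_, ?_, ?_⟩
    · rw [pow_succ', D.ρ_mul, ih.1]
      simp only [map_add, map_smul, D.u2x, D.u2e2, D.Tz _ D.hu2]
      have := D.two
      match_scalars <;> field_simp <;> push_cast <;> ring
    · rw [pow_succ', D.ρ_mul, ih.2.1, D.u2e1]
    · rw [pow_succ', D.ρ_mul, ih.2.2]
      simp only [map_add, map_smul, D.u2e2, D.Tz _ D.hu2]
      match_scalars <;> push_cast <;> ring

section Prime

variable {p : ℕ} [Fact p.Prime] {V : Type*} [AddCommGroup V] [Module (ZMod p) V] {G : Type*} [Group G]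
variable (D : ConeData (ZMod p) V G)

theorem b1_eq : D.b1 = D.B1 / 2 := by
  set r : ZMod p := 1 - 2 * D.b1 / D.B1
  obtain ⟨h1, -, -⟩ := D.pow_u1 r.val
  rw [ZMod.natCast_zmod_val] at h1
  have h0 : r * D.b1 + r * (r - 1) / 2 * D.B1 = 0 := by
    have := D.two; have := D.B1ne
    simp only [r]; field_simp; ring
  have h : D.ρ (D.u1 ^ r.val * D.g) D.z = D.pt 1 r 0 0 := by
    rw [D.ρ_mul, D.gz, h1, h0, pt]; module
  have hr := (D.on_axis (mul_mem (pow_mem (D.TL D.hu1) _) D.gL) h).1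
  have := D.two; have := D.B1ne
  simp only [r] at hr
  field_simp at hr ⊢
  linear_combination -hr

theorem b2_eq : D.b2 = D.B2 / 2 := by
  set r : ZMod p := 1 - 2 * D.b2 / D.B2
  obtain ⟨h1, -, -⟩ := D.pow_u2 r.val
  rw [ZMod.natCast_zmod_val] at h1
  have h0 : r * D.b2 + r * (r - 1) / 2 * D.B2 = 0 := by
    have := D.two; have := D.B2ne
    simp only [r]; field_simp; ring
  have h : D.ρ (D.u2 ^ r.val * D.g) D.z = D.pt 1 0 r 0 := by
    rw [D.ρ_mul, D.gz, h1, h0, pt]; module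
  have hr := (D.on_axis (mul_mem (pow_mem (D.TL D.hu2) _) D.gL) h).2
  have := D.two; have := D.B2ne
  simp only [r] at hr
  field_simp at hr ⊢
  linear_combination -hr

/-- The quadratic form on the span of `e₁, e₂`. -/
def qf (s t : ZMod p) : ZMod p := D.B1 * s ^ 2 + D.B2 * t ^ 2

/-- The element of `T` with parameters `s, t`. -/
def U (s t : ZMod p) : G := D.u1 ^ s.val * D.u2 ^ t.val

theorem U_mem (s t : ZMod p) : D.U s t ∈ D.T := mul_mem (pow_mem D.hu1 _) (pow_mem D.hu2 _)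

theorem U_x (s t : ZMod p) : D.ρ (D.U s t) D.x = D.pt 1 s t (D.qf s t / 2) := by
  obtain ⟨a1, a2, a3⟩ := D.pow_u1 s.val
  obtain ⟨c1, c2, c3⟩ := D.pow_u2 t.val
  rw [ZMod.natCast_zmod_val] at a1 a2 c1 c3
  rw [U, D.ρ_mul, c1, D.b2_eq]
  simp only [map_add, map_smul, a1, a3, D.Tz _ (pow_mem D.hu1 _), D.b1_eq, pt, qf]
  have := D.two
  match_scalars <;> field_simp <;> ring

theorem U_e1 (s t : ZMod p) : D.ρ (D.U s t) D.e1 = D.pt 0 1 0 (s * D.B1) := by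
  obtain ⟨-, a2, -⟩ := D.pow_u1 s.val
  obtain ⟨-, c2, -⟩ := D.pow_u2 t.val
  rw [ZMod.natCast_zmod_val] at a2
  rw [U, D.ρ_mul, c2, a2, pt]; module

theorem U_e2 (s t : ZMod p) : D.ρ (D.U s t) D.e2 = D.pt 0 0 1 (t * D.B2) := by
  obtain ⟨-, -, a3⟩ := D.pow_u1 s.val
  obtain ⟨-, -, c3⟩ := D.pow_u2 t.val
  rw [ZMod.natCast_zmod_val] at c3
  rw [U, D.ρ_mul, c3]
  simp only [map_add, map_smul, a3, D.Tz _ (pow_mem D.hu1 _), pt]
  module

theorem U_z (s t : ZMod p) : D.ρ (D.U s t) D.z = D.z := D.Tz _ (D.U_mem s t)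

theorem U_pt (s t a s' t' c : ZMod p) : D.ρ (D.U s t) (D.pt a s' t' c) =
    D.pt a (a * s + s') (a * t + t') (a * (D.qf s t / 2) + s' * (s * D.B1) + t' * (t * D.B2) + c) := by
  rw [D.map_pt, D.U_x, D.U_e1, D.U_e2, D.U_z]
  simp only [pt]
  module

/-- Every point of the orbit of `z` lies on the cone. -/
theorem cone {α : G} (hα : α ∈ D.L) {a s t c : ZMod p} (h : D.ρ α D.z = D.pt a s t c) :
    2 * a * c = D.qf s t := by
  by_cases ha : a = 0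
  · obtain ⟨d, hd⟩ := D.away α hα (by rw [h, D.A_pt, ha])
    have hd' : D.ρ α D.z = D.pt 0 0 0 d := by rw [hd, pt]; module
    obtain ⟨-, hs, ht, -⟩ := D.pt_inj (h.symm.trans hd')
    rw [ha, hs, ht, qf]; ring
  by_contra hne
  set c' := c - D.qf s t / (2 * a)
  have h2 := D.two
  have hc' : c' ≠ 0 := fun h0 => hne (by
    rw [sub_eq_zero] at h0; rw [h0]; field_simp)
  have hv : D.ρ (D.U (-s / a) (-t / a) * α) D.z = D.pt a 0 0 c' := by
    rw [D.ρ_mul, h, D.U_pt]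
    congr 1 <;> (try simp only [qf, c']) <;> field_simp <;> ring
  obtain ⟨σ, τ, hστ⟩ : ∃ σ τ : ZMod p, D.B1 * σ ^ 2 + D.B2 * τ ^ 2 = -2 * c' / a := by
    obtain ⟨σ, τ, hh⟩ := FiniteField.exists_root_sum_quadratic (R := ZMod p)
      (f := Polynomial.C D.B1 * Polynomial.X ^ 2)
      (g := Polynomial.C D.B2 * Polynomial.X ^ 2 - Polynomial.C (-2 * c' / a))
      (Polynomial.degree_C_mul_X_pow 2 D.B1ne)
      (by rw [Polynomial.degree_sub_C (by rw [Polynomial.degree_C_mul_X_pow 2 D.B2ne]; norm_num),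
        Polynomial.degree_C_mul_X_pow 2 D.B2ne]; rfl)
      (by rw [ZMod.card]; exact (Fact.out : p.Prime).odd_of_ne_two (fun e => h2 (by subst e; rfl)) |> Nat.odd_iff.1)
    refine ⟨σ, τ, ?_⟩
    simp at hh
    linear_combination hh
  have hw : D.ρ (D.U σ τ * (D.U (-s / a) (-t / a) * α)) D.z = D.pt a (a * σ) (a * τ) 0 := by
    rw [D.ρ_mul, hv, D.U_pt]
    have hq : D.qf σ τ = -2 * c' / a := hστ
    congr 1
    · ring
    · ring
    · rw [hq]; field_simp; ring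
  have hax := D.on_axis (mul_mem (D.TL (D.U_mem σ τ)) (mul_mem (D.TL (D.U_mem _ _)) hα)) hw
  rw [(mul_eq_zero.1 hax.1).resolve_left ha, (mul_eq_zero.1 hax.2).resolve_left ha] at hστ
  refine hc' ?_
  field_simp at hστ
  rcases mul_eq_zero.1 (show (2 : ZMod p) * c' = 0 by linear_combination hστ) with h0 | h0
  · exact absurd h0 h2
  · exact h0

/-- `T` consists of the elements `U s t`. -/
theorem T_eq {α : G} (hα : α ∈ D.T) : ∃ s t, α = D.U s t := by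
  obtain ⟨a, s, t, c, h⟩ := D.spans (D.ρ α D.x)
  change D.ρ α D.x = D.pt a s t c at h
  have ha : a = 1 := by rw [← D.A_pt a s t c, ← h, D.TA α hα, D.Ax]
  have hc := D.cone (mul_mem (D.TL hα) D.gL) (a := a) (s := s) (t := t) (c := c) (by rw [D.ρ_mul, D.gz, h])
  refine ⟨s, t, ?_⟩
  have hx : D.ρ α D.x = D.ρ (D.U s t) D.x := by
    rw [h, D.U_x, ha]; congr 1
    rw [← hc, ha]; have := D.two; field_simp
  have h1 : (D.U s t)⁻¹ * α = 1 := by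
    refine D.star _ (mul_mem (inv_mem (D.U_mem s t)) hα) D.g D.gL ?_ ?_
    · intro d hd
      rw [D.gz] at hd
      have := congrArg D.A hd
      rw [D.Ax, map_smul, D.Az, smul_zero] at this
      exact one_ne_zero this
    · rw [D.gz, D.ρ_mul, hx, D.ρ_inv]
  exact (inv_mul_eq_one.1 h1).symm

theorem gA : D.A (D.ρ D.g⁻¹ D.z) ≠ 0 := by
  intro h
  obtain ⟨c, hc⟩ := D.away _ (inv_mem D.gL) h
  have := congrArg D.A (congrArg (D.ρ D.g) hc)
  rw [D.ρ_inv', map_smul, D.gz, map_smul, D.Az, D.Ax, smul_eq_mul, mul_one] at this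
  rw [← this, zero_smul] at hc
  have h0 := congrArg (D.ρ D.g) hc
  rw [D.ρ_inv', map_zero] at h0
  exact one_ne_zero (D.indep 0 0 0 1 (by rw [h0]; simp)).2.2.2

/-- The conjugates of `T` by `g`. -/
theorem lower {t0 : G} (ht : t0 ∈ D.T) : ∃ w1 w2 : ZMod p,
    D.ρ (D.g * t0 * D.g⁻¹) D.x = D.x ∧
    D.ρ (D.g * t0 * D.g⁻¹) D.e1 = D.pt (D.B1 * w1) 1 0 0 ∧
    D.ρ (D.g * t0 * D.g⁻¹) D.e2 = D.pt (D.B2 * w2) 0 1 0 ∧
    D.ρ (D.g * t0 * D.g⁻¹) D.z = D.pt (D.qf w1 w2 / 2) w1 w2 1 := by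
  set τ := D.g * t0 * D.g⁻¹
  have hτ : τ ∈ D.L := mul_mem (mul_mem D.gL (D.TL ht)) (inv_mem D.gL)
  have hval : ∀ v, D.ρ τ v = D.ρ D.g (D.ρ t0 (D.ρ D.g⁻¹ v)) := fun v => by rw [D.ρ_mul, D.ρ_mul]
  have hx : D.ρ τ D.x = D.x := by rw [hval, D.gxz, D.Tz _ ht, D.gz]
  obtain ⟨p1, hp1⟩ := D.T0 _ ht _ D.He1
  obtain ⟨p2, hp2⟩ := D.T0 _ ht _ D.He2
  have h1 : D.ρ τ D.e1 = D.pt p1 1 0 0 := by
    rw [hval, hp1, map_add, map_smul, D.ρ_inv', D.gz, pt]; module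
  have h2 : D.ρ τ D.e2 = D.pt p2 0 1 0 := by
    rw [hval, hp2, map_add, map_smul, D.ρ_inv', D.gz, pt]; module
  obtain ⟨c, w1, w2, d, h⟩ := D.spans (D.ρ τ D.z)
  change D.ρ τ D.z = D.pt c w1 w2 d at h
  have hd : d = 1 := by
    have e : D.A (D.ρ D.g⁻¹ (D.ρ τ D.z)) = D.A (D.ρ D.g⁻¹ D.z) := by rw [hval, D.ρ_inv, D.TA _ ht]
    rw [h, D.map_pt] at e
    simp only [map_add, map_smul, D.gxz, D.He1, D.He2, D.Az, smul_eq_mul, mul_zero, zero_add] at e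
    exact mul_right_cancel₀ D.gA (e.trans (one_mul _).symm)
  subst hd
  have hc := D.cone hτ h
  have hh := D.two
  have hc' : c = D.qf w1 w2 / 2 := by rw [← hc]; field_simp
  -- images of the two orbit points
  have k1 : D.ρ (τ * (D.U 1 0 * D.g)) D.z =
      D.pt (1 + p1 + D.B1 / 2 * c) (1 + D.B1 / 2 * w1) (D.B1 / 2 * w2) (D.B1 / 2) := by
    rw [D.ρ_mul τ, D.ρ_mul (D.U _ _), D.gz, D.U_x, D.map_pt, hx, h1, h2, h]
    simp only [qf, pt]; module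
  have k2 : D.ρ (τ * (D.U 0 1 * D.g)) D.z =
      D.pt (1 + p2 + D.B2 / 2 * c) (D.B2 / 2 * w1) (1 + D.B2 / 2 * w2) (D.B2 / 2) := by
    rw [D.ρ_mul τ, D.ρ_mul (D.U _ _), D.gz, D.U_x, D.map_pt, hx, h1, h2, h]
    simp only [qf, pt]; module
  have c1 := D.cone (mul_mem hτ (mul_mem (D.TL (D.U_mem 1 0)) D.gL)) k1
  have c2 := D.cone (mul_mem hτ (mul_mem (D.TL (D.U_mem 0 1)) D.gL)) k2
  refine ⟨w1, w2, hx, ?_, ?_, by rw [h, hc']⟩
  · rw [h1]
    congr 1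
    refine mul_left_cancel₀ (mul_ne_zero D.B1ne (mul_ne_zero hh hh)) ?_
    rw [hc'] at c1
    simp only [qf] at c1
    field_simp at c1
    linear_combination c1
  · rw [h2]
    congr 1
    refine mul_left_cancel₀ (mul_ne_zero D.B2ne (mul_ne_zero hh hh)) ?_
    rw [hc'] at c2
    simp only [qf] at c2
    field_simp at c2
    linear_combination c2

theorem lower_surj (w1 w2 : ZMod p) : ∃ τ ∈ D.L, D.ρ τ D.x = D.x ∧
    D.ρ τ D.e1 = D.pt (D.B1 * w1) 1 0 0 ∧ D.ρ τ D.e2 = D.pt (D.B2 * w2) 0 1 0 ∧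
    D.ρ τ D.z = D.pt (D.qf w1 w2 / 2) w1 w2 1 := by
  choose f1 f2 hf using fun st : ZMod p × ZMod p => D.lower (D.U_mem st.1 st.2)
  have hinj : Function.Injective fun st => (f1 st, f2 st) := by
    intro st st' he
    simp only [Prod.mk.injEq] at he
    have e : D.ρ (D.g * D.U st.1 st.2 * D.g⁻¹) D.z = D.ρ (D.g * D.U st'.1 st'.2 * D.g⁻¹) D.z := by
      rw [(hf st).2.2.2, (hf st').2.2.2, he.1, he.2]
    simp only [D.ρ_mul] at e
    have e' := (D.ρ D.g).injective e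
    have h1 : (D.U st'.1 st'.2)⁻¹ * D.U st.1 st.2 = 1 := by
      refine D.star _ (mul_mem (inv_mem (D.U_mem _ _)) (D.U_mem _ _)) D.g⁻¹ (inv_mem D.gL) ?_ ?_
      · intro c hc
        exact D.gA (by rw [hc, map_smul, D.Az, smul_zero])
      · rw [D.ρ_mul, e', D.ρ_inv]
    have hx := D.U_x st.1 st.2
    rw [← inv_mul_eq_one.1 h1, D.U_x] at hx
    obtain ⟨-, h2, h3, -⟩ := D.pt_inj hx
    exact Prod.ext h2.symm h3.symm
  obtain ⟨st, hst⟩ := (Finite.injective_iff_surjective.1 hinj) (w1, w2)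
  simp only [Prod.mk.injEq] at hst
  refine ⟨_, mul_mem (mul_mem D.gL (D.TL (D.U_mem st.1 st.2))) (inv_mem D.gL), ?_⟩
  rw [← hst.1, ← hst.2]
  exact hf st

theorem exists_n1 : ∃ n ∈ D.L, D.ρ n D.z = D.pt (2 / D.B1) 0 0 0 ∧ D.ρ n D.x = D.pt 0 0 0 (D.B1 / 2) ∧
    D.ρ n D.e1 = D.pt 0 (-1) 0 0 ∧ D.ρ n D.e2 = D.e2 := by
  obtain ⟨l, hl, lx, l1, l2, lz⟩ := D.lower_surj (-2 / D.B1) 0
  have hU := D.TL (D.U_mem 1 0)
  have h2 := D.two
  have hB := D.B1ne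
  refine ⟨D.U 1 0 * l * D.U 1 0, mul_mem (mul_mem hU hl) hU, ?_, ?_, ?_, ?_⟩
  · rw [D.ρ_mul, D.ρ_mul, D.U_z, lz, D.U_pt]
    congr 1 <;> (simp only [qf]; field_simp; ring)
  · rw [D.ρ_mul, D.ρ_mul, D.U_x, D.map_pt, lx, l1, l2, lz]
    simp only [pt, map_add, map_smul, D.U_x, D.U_e1, D.U_e2, D.U_z, qf]
    match_scalars <;> field_simp <;> ring
  · rw [D.ρ_mul, D.ρ_mul, D.U_e1, D.map_pt, lx, l1, l2, lz]
    simp only [pt, map_add, map_smul, D.U_x, D.U_e1, D.U_e2, D.U_z, qf]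
    match_scalars <;> field_simp <;> ring
  · rw [D.ρ_mul, D.ρ_mul, D.U_e2, D.map_pt, lx, l1, l2, lz]
    simp only [pt, map_add, map_smul, D.U_x, D.U_e1, D.U_e2, D.U_z, qf]
    match_scalars <;> field_simp <;> ring

theorem exists_n2 : ∃ n ∈ D.L, D.ρ n D.z = D.pt (2 / D.B2) 0 0 0 ∧ D.ρ n D.x = D.pt 0 0 0 (D.B2 / 2) ∧
    D.ρ n D.e1 = D.e1 ∧ D.ρ n D.e2 = D.pt 0 0 (-1) 0 := by
  obtain ⟨l, hl, lx, l1, l2, lz⟩ := D.lower_surj 0 (-2 / D.B2)
  have hU := D.TL (D.U_mem 0 1)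
  have h2 := D.two
  have hB := D.B2ne
  refine ⟨D.U 0 1 * l * D.U 0 1, mul_mem (mul_mem hU hl) hU, ?_, ?_, ?_, ?_⟩
  · rw [D.ρ_mul, D.ρ_mul, D.U_z, lz, D.U_pt]
    congr 1 <;> (simp only [qf]; field_simp; ring)
  · rw [D.ρ_mul, D.ρ_mul, D.U_x, D.map_pt, lx, l1, l2, lz]
    simp only [pt, map_add, map_smul, D.U_x, D.U_e1, D.U_e2, D.U_z, qf]
    match_scalars <;> field_simp <;> ring
  · rw [D.ρ_mul, D.ρ_mul, D.U_e1, D.map_pt, lx, l1, l2, lz]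
    simp only [pt, map_add, map_smul, D.U_x, D.U_e1, D.U_e2, D.U_z, qf]
    match_scalars <;> field_simp <;> ring
  · rw [D.ρ_mul, D.ρ_mul, D.U_e2, D.map_pt, lx, l1, l2, lz]
    simp only [pt, map_add, map_smul, D.U_x, D.U_e1, D.U_e2, D.U_z, qf]
    match_scalars <;> field_simp <;> ring

/-- A torus element normalizing `T` and acting on it as the negative of its action on `z`. -/
theorem exists_torus : ∃ ν ∈ D.L, ∃ μ : ZMod p, μ ≠ 0 ∧ D.ρ ν D.z = μ • D.z ∧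
    (∀ α ∈ D.T, ν * α * ν⁻¹ ∈ D.T) ∧
    ν * D.u1 * ν⁻¹ = D.u1 ^ (-μ).val ∧ ν * D.u2 * ν⁻¹ = D.u2 ^ (-μ).val := by
  obtain ⟨n1, hn1, az, ax, a1, a2⟩ := D.exists_n1
  obtain ⟨n2, hn2, cz, cx, c1, c2⟩ := D.exists_n2
  have h2 := D.two; have hB1 := D.B1ne; have hB2 := D.B2ne
  set μ := D.B1 / D.B2
  set ν := n1 * n2
  have nz : D.ρ ν D.z = μ • D.z := by
    rw [D.ρ_mul, cz, D.map_pt, ax]; simp only [pt, μ]; match_scalars <;> field_simp <;> ring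
  have nx : D.ρ ν D.x = μ⁻¹ • D.x := by
    rw [D.ρ_mul, cx, D.map_pt, az]; simp only [pt, μ]; match_scalars <;> field_simp <;> ring
  have n1' : D.ρ ν D.e1 = -D.e1 := by rw [D.ρ_mul, c1, a1, pt]; module
  have n2' : D.ρ ν D.e2 = -D.e2 := by rw [D.ρ_mul, c2, D.map_pt, a2]; module
  have hμ : μ ≠ 0 := div_ne_zero hB1 hB2
  have hνL : ν ∈ D.L := mul_mem hn1 hn2
  clear_value ν
  have key : ∀ s t, ν * D.U s t * ν⁻¹ = D.U (-μ * s) (-μ * t) := by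
    intro s t
    rw [mul_inv_eq_iff_eq_mul]
    refine D.ext ?_ ?_ ?_ ?_
    · rw [D.ρ_mul, D.U_x, D.map_pt, nx, n1', n2', nz, D.ρ_mul, nx, map_smul, D.U_x]
      simp only [pt, qf]; match_scalars <;> field_simp
    · rw [D.ρ_mul, D.U_e1, D.map_pt, n1', nz, D.ρ_mul, n1', map_neg, D.U_e1]
      simp only [pt]; match_scalars <;> ring
    · rw [D.ρ_mul, D.U_e2, D.map_pt, n2', nz, D.ρ_mul, n2', map_neg, D.U_e2]
      simp only [pt]; match_scalars <;> ring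
    · rw [D.ρ_mul, D.U_z, D.ρ_mul, nz, map_smul, D.U_z]
  haveI : Fact (1 < p) := ⟨(Fact.out : p.Prime).one_lt⟩
  refine ⟨ν, hνL, μ, hμ, nz, fun α hα => ?_, ?_, ?_⟩
  · obtain ⟨s, t, rfl⟩ := D.T_eq hα
    rw [key]; exact D.U_mem _ _
  · have h := key 1 0
    simpa [U, ZMod.val_one, ZMod.val_zero] using h
  · have h := key 0 1
    simpa [U, ZMod.val_one, ZMod.val_zero] using h

end Prime

end ConeData

end Cfsg.Agent.ExtraspecialIndexP
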