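import Cfsg.Agent.Lib.ExtraspecialIndexP.CaseQuad
import Cfsg.Agent.Lib.ExtraspecialIndexP.QuadCone
import Cfsg.Agent.Lib.ExtraspecialIndexP.Data

/-
The anisotropic case: `Q` has exponent `p`, so the data of the frame is present.
Main result (namespace `Cfsg.Agent.ExtraspecialIndexP`): `Quad.uData`.
-/

set_option autoImplicit false

universe u

namespace Cfsg.Agent.ExtraspecialIndexP

open Cfsg Cfsg.FusionSystem Cfsg.Agent.Fusion Cfsg.Agent.FusionChain
open scoped commutatorElement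

variable {Ω : Type u} [Group Ω] {S : Subgroup Ω} {p : ℕ} {F : FusionSystem S} {Q : Subgroup Ω} {z : Ω}
variable {R : Subgroup Ω}

theorem Setup.eq_zpow_zlog (D : Setup F p Q z) {w : Ω} (hw : w ∈ Subgroup.zpowers z) :
    w = z ^ (zlog p z w).val := by
  haveI := Fact.mk D.prime
  obtain ⟨i, rfl⟩ := Subgroup.mem_zpowers_iff.1 hw
  rw [← zpow_natCast z, D.zpow_eq_iff, Int.cast_natCast, ZMod.natCast_zmod_val, D.zlog_zpow]

theorem Setup.omega_Zl (D : Setup F p Q z) {a : Ω} (ha : a ∈ Q) (k : ℕ) : omega p z a (z ^ k) = 0 :=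
  (D.omega_eq_zero ha (pow_mem D.z_mem k)).2 (D.zpow_comm (D.hQS ha) (pow_mem (Subgroup.mem_zpowers z) k))

namespace Quad

variable {M : Mover F p Q z R} {x : Ω} (E : Quad M x)
include E

theorem inn_trivial {α : MulAut R} (h : α ∈ Cfsg.Inn R) : α = 1 := by
  obtain ⟨r, rfl⟩ := h
  refine MulEquiv.ext fun y => ?_
  show r * y * r⁻¹ = y
  rw [E.comm r y, mul_inv_cancel_right]

/-- The element of `⁅q,x⁆⟨z⟩` in the conjugate of `R ∩ Q`. -/
theorem exists_shift {g : MulAut R} (hg : g ∈ F.autGroup R) (hgz : autFn g z = x) {d : R} :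
    ∃ b : ℕ, ((g⁻¹ (d * ((⟨z, M.zR⟩ : R) ^ b)⁻¹) : R) : Ω) ∈ Q := by
  have D := M.setup
  letI : CommGroup R := { (inferInstance : Group R) with mul_comm := E.comm }
  set zR : R := ⟨z, M.zR⟩
  have hm := E.moved_inv hg (hgz.symm ▸ E.moved.2)
  obtain ⟨a, q, hq, hqR, -, e⟩ := M.out_decomp E.out E.moved (M.moved_mem hm)
  have ha : (a : ZMod p) ≠ 0 := fun h0 => E.out _ hm (by
    rw [e, zpow_congr E.xp (i := a) (j := 0) (by simpa using h0), zpow_zero, one_mul]; exact hq)
  obtain ⟨k, q', hq', hq'R, -, e'⟩ := M.out_decomp E.out E.moved (g⁻¹ d).2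
  obtain ⟨b, hb⟩ := D.exists_mul_eq ha k
  refine ⟨b, ?_⟩
  set xR : R := ⟨x, E.xR⟩
  have e1 : g⁻¹ zR = xR ^ a * ⟨q, hqR⟩ := Subtype.ext (by rw [Subgroup.coe_mul, Subgroup.coe_zpow]; exact e)
  have e2 : g⁻¹ d = xR ^ k * ⟨q', hq'R⟩ := Subtype.ext (by rw [Subgroup.coe_mul, Subgroup.coe_zpow]; exact e')
  have e3 : g⁻¹ (d * (zR ^ b)⁻¹) = ⟨q', hq'R⟩ * ((⟨q, hqR⟩ : R) ^ b)⁻¹ := by
    rw [map_mul, map_inv, map_pow, e1, e2, mul_pow, mul_inv, ← zpow_natCast (xR ^ a), ← zpow_mul,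
      zpow_congr (E.exp xR) (i := a * b) (j := k) (by rw [mul_comm, hb])]
    rw [mul_comm (xR ^ k) _, mul_assoc, mul_inv_cancel_left]
  rw [e3, Subgroup.coe_mul, Subgroup.coe_inv, SubmonoidClass.coe_pow]
  exact mul_mem hq' (inv_mem (pow_mem hq b))

/-- The data of the anisotropic frame. -/
theorem uData : UData S p Q z := by
  have D := M.setup
  haveI := D.fin
  haveI := D.finQ
  haveI := M.finR
  haveI := Fact.mk D.prime
  obtain ⟨hQ5, hR3, q1, q2, hq1, hq2, hcomm, h12, hb1, hb2, hns⟩ := E.exists_orth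
  obtain ⟨g, hg, hgz⟩ := E.moved.1
  letI : CommGroup R := { (inferInstance : Group R) with mul_comm := E.comm }
  letI : Module (ZMod p) (Additive R) := AddCommGroup.zmodModule (n := p) fun v => E.exp v.toMul
  have hsmul : ∀ (c : ZMod p) (r : R), c • Additive.ofMul r = Additive.ofMul (r ^ c.val) := fun c r => by
    conv_lhs => rw [← ZMod.natCast_zmod_val c]
    rw [Nat.cast_smul_eq_nsmul, ofMul_pow]
  set zR : R := ⟨z, M.zR⟩
  set xR : R := ⟨x, E.xR⟩
  set n1 : normalizerIn S R := ⟨q1, E.le_normalizer (D.hQS hq1)⟩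
  set n2 : normalizerIn S R := ⟨q2, E.le_normalizer (D.hQS hq2)⟩
  have hd : ∀ q ∈ Q, ⁅q, x⁆ ∈ R := fun q hq => by
    rw [← commutatorElement_inv]; exact inv_mem (E.comm_x_R hq)
  obtain ⟨b1, hH1⟩ := E.exists_shift hg hgz (d := ⟨_, hd q1 hq1⟩)
  obtain ⟨b2, hH2⟩ := E.exists_shift hg hgz (d := ⟨_, hd q2 hq2⟩)
  set e1 : R := ⟨_, hd q1 hq1⟩ * (zR ^ b1)⁻¹
  set e2 : R := ⟨_, hd q2 hq2⟩ * (zR ^ b2)⁻¹
  have hdQ : ∀ q ∈ Q, ⁅q, x⁆ ∈ Q := fun q hq => D.comm_S_mem (D.hQS hq) E.xS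
  have e1Q : (e1 : Ω) ∈ Q := mul_mem (hdQ q1 hq1) (inv_mem (pow_mem D.z_mem _))
  have e2Q : (e2 : Ω) ∈ Q := mul_mem (hdQ q2 hq2) (inv_mem (pow_mem D.z_mem _))
  have hom : ∀ {q q' : Ω}, q ∈ Q → q' ∈ Q → ∀ b : ℕ,
      omega p z q (⁅q', x⁆ * (z ^ b)⁻¹) = -bq p z x q q' := by
    intro q q' hq hq' b
    have h1 := D.omega_mul_right hq (mul_mem (hdQ q' hq') (inv_mem (pow_mem D.z_mem b))) (pow_mem D.z_mem b)
    rw [inv_mul_cancel_right, D.omega_Zl hq, add_zero] at h1
    have h2 := D.omega_mul_right hq (hdQ q' hq') (E.comm_x_Q hq')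
    rw [← commutatorElement_inv x q', inv_mul_cancel,
      (D.omega_eq_zero hq (one_mem _)).2 (by rw [mul_one, one_mul]), commutatorElement_inv] at h2
    rw [bq, ← h1]
    linear_combination -h2
  have w11 : omega p z q1 (e1 : Ω) = -bq p z x q1 q1 := hom hq1 hq1 b1
  have w22 : omega p z q2 (e2 : Ω) = -bq p z x q2 q2 := hom hq2 hq2 b2
  have w12 : omega p z q1 (e2 : Ω) = 0 := (hom hq1 hq2 b2).trans (by rw [h12, neg_zero])
  have w21 : omega p z q2 (e1 : Ω) = 0 :=
    (hom hq2 hq1 b1).trans (by rw [E.bq_symm hq1 hq2, h12, neg_zero])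
  -- coordinates
  let X : Additive R := Additive.ofMul xR
  let E1 : Additive R := Additive.ofMul e1
  let E2 : Additive R := Additive.ofMul e2
  let Zv : Additive R := Additive.ofMul zR
  have hpt : ∀ a s t c : ZMod p, a • X + s • E1 + t • E2 + c • Zv =
      Additive.ofMul (xR ^ a.val * e1 ^ s.val * e2 ^ t.val * zR ^ c.val) := by
    intro a s t c; simp only [X, E1, E2, Zv, hsmul, ofMul_mul]
  have hindep : ∀ a s t c : ZMod p, a • X + s • E1 + t • E2 + c • Zv = 0 → a = 0 ∧ s = 0 ∧ t = 0 ∧ c = 0 := by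
    intro a s t c h
    rw [hpt, ofMul_eq_zero] at h
    have h' := congrArg Subtype.val h
    simp only [Subgroup.coe_mul, SubmonoidClass.coe_pow, Subgroup.coe_one] at h'
    change x ^ a.val * (e1 : Ω) ^ s.val * (e2 : Ω) ^ t.val * z ^ c.val = 1 at h'
    have hQp : (e1 : Ω) ^ s.val * (e2 : Ω) ^ t.val * z ^ c.val ∈ Q :=
      mul_mem (mul_mem (pow_mem e1Q _) (pow_mem e2Q _)) (pow_mem D.z_mem _)
    have hxa : x ^ (a.val : ℤ) ∈ Q := by
      rw [zpow_natCast]
      rw [mul_assoc, mul_assoc, ← mul_assoc ((e1 : Ω) ^ s.val)] at h'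
      rw [eq_inv_of_mul_eq_one_left h']
      exact inv_mem hQp
    have ha : a = 0 := by
      have := M.moved_zpow_mem_Q E.out E.moved hxa
      rwa [Int.cast_natCast, ZMod.natCast_zmod_val] at this
    subst ha
    rw [ZMod.val_zero, pow_zero, one_mul] at h'
    have key : ∀ q, q ∈ Q → (s * omega p z q (e1 : Ω) + t * omega p z q (e2 : Ω) = 0) := by
      intro q hq
      have h0 := D.omega_mul_right hq (mul_mem (pow_mem e1Q s.val) (pow_mem e2Q t.val)) (pow_mem D.z_mem c.val)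
      rw [h', (D.omega_eq_zero hq (one_mem _)).2 (by rw [mul_one, one_mul]), D.omega_Zl hq, add_zero,
        D.omega_mul_right hq (pow_mem e1Q _) (pow_mem e2Q _), D.omega_pow_right hq e1Q,
        D.omega_pow_right hq e2Q, ZMod.natCast_zmod_val, ZMod.natCast_zmod_val] at h0
      exact h0.symm
    have hs := key q1 hq1
    rw [w11, w12, mul_zero, add_zero] at hs
    have ht := key q2 hq2
    rw [w22, w21, mul_zero, zero_add] at ht
    have hs0 : s = 0 := (mul_eq_zero.1 hs).resolve_right (neg_ne_zero.2 hb1)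
    have ht0 : t = 0 := (mul_eq_zero.1 ht).resolve_right (neg_ne_zero.2 hb2)
    refine ⟨rfl, hs0, ht0, ?_⟩
    rw [hs0, ht0, ZMod.val_zero, pow_zero, pow_zero, one_mul, one_mul, ← zpow_natCast, ← zpow_zero z,
      D.zpow_eq_iff, Int.cast_natCast, ZMod.natCast_zmod_val, Int.cast_zero] at h'
    exact h'
  let Φ : (ZMod p × ZMod p × ZMod p × ZMod p) →ₗ[ZMod p] Additive R :=
    (LinearMap.toSpanSingleton (ZMod p) _ X).coprod ((LinearMap.toSpanSingleton (ZMod p) _ E1).coprod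
      ((LinearMap.toSpanSingleton (ZMod p) _ E2).coprod (LinearMap.toSpanSingleton (ZMod p) _ Zv)))
  have hΦ : ∀ a s t c : ZMod p, Φ (a, s, t, c) = a • X + s • E1 + t • E2 + c • Zv := by
    intro a s t c; simp [Φ, add_assoc]
  have hΦb : Function.Bijective Φ := by
    refine (Nat.bijective_iff_injective_and_card _).2 ⟨?_, ?_⟩
    · refine (injective_iff_map_eq_zero Φ).2 fun ⟨a, s, t, c⟩ h => ?_
      obtain ⟨rfl, rfl, rfl, rfl⟩ := hindep a s t c (hΦ a s t c ▸ h)
      rfl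
    · rw [Nat.card_prod, Nat.card_prod, Nat.card_prod, Nat.card_zmod,
        Nat.card_congr (Additive.toMul : Additive R ≃ R), E.card_R, hR3]
      ring
  let A : Additive R →ₗ[ZMod p] ZMod p :=
    (LinearMap.fst _ _ _).comp (LinearEquiv.ofBijective Φ hΦb).symm.toLinearMap
  have hA : ∀ a s t c : ZMod p, A (a • X + s • E1 + t • E2 + c • Zv) = a := by
    intro a s t c
    have h := (LinearEquiv.ofBijective Φ hΦb).symm_apply_apply (a, s, t, c)
    rw [LinearEquiv.ofBijective_apply, hΦ] at h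
    show ((LinearEquiv.ofBijective Φ hΦb).symm (a • X + s • E1 + t • E2 + c • Zv)).1 = a
    rw [h]
  have hAx : ∀ (r : R) (k : ℤ), x ^ (-k) * (r : Ω) ∈ Q → A (Additive.ofMul r) = k := by
    intro r k hk
    obtain ⟨⟨a, s, t, c⟩, h⟩ := hΦb.2 (Additive.ofMul r)
    rw [hΦ] at h
    rw [← h, hA]
    rw [hpt] at h
    obtain rfl := Additive.ofMul.injective h
    simp only [Subgroup.coe_mul, SubmonoidClass.coe_pow] at hk
    change x ^ (-k) * (x ^ a.val * (e1 : Ω) ^ s.val * (e2 : Ω) ^ t.val * z ^ c.val) ∈ Q at hk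
    have hQp : (e1 : Ω) ^ s.val * (e2 : Ω) ^ t.val * z ^ c.val ∈ Q :=
      mul_mem (mul_mem (pow_mem e1Q _) (pow_mem e2Q _)) (pow_mem D.z_mem _)
    have hxa : x ^ ((a.val : ℤ) - k) ∈ Q := by
      have := mul_mem hk (inv_mem hQp)
      have e : x ^ (-k) * (x ^ a.val * (e1 : Ω) ^ s.val * (e2 : Ω) ^ t.val * z ^ c.val) *
          ((e1 : Ω) ^ s.val * (e2 : Ω) ^ t.val * z ^ c.val)⁻¹ = x ^ ((a.val : ℤ) - k) := by
        rw [sub_eq_neg_add, zpow_add, zpow_natCast]; group
      rwa [e] at this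
    have := M.moved_zpow_mem_Q E.out E.moved hxa
    rw [Int.cast_sub, Int.cast_natCast, ZMod.natCast_zmod_val, sub_eq_zero] at this
    exact this
  have hA0 : ∀ r : R, (r : Ω) ∈ Q → A (Additive.ofMul r) = 0 := fun r hr => by
    simpa using hAx r 0 (by simpa using hr)
  have hA0' : ∀ r : R, A (Additive.ofMul r) = 0 → (r : Ω) ∈ Q := by
    intro r hr
    obtain ⟨k, q, hq, -, -, e⟩ := M.out_decomp E.out E.moved r.2
    have h := hAx r k (by rw [e, zpow_neg, inv_mul_cancel_left]; exact hq)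
    rw [hr] at h
    rw [e, zpow_congr E.xp (i := k) (j := 0) (by rw [← h, Int.cast_zero]), zpow_zero, one_mul]
    exact hq
  let ρ : MulAut R →* (Additive R ≃ₗ[ZMod p] Additive R) :=
    { toFun := fun α =>
        { MulEquiv.toAdditive α with
          map_smul' := fun c v => ZMod.map_smul (MulEquiv.toAdditive α).toAddMonoidHom c v }
      map_one' := rfl
      map_mul' := fun _ _ => rfl }
  have hρ : ∀ (α : MulAut R) (r : R), ρ α (Additive.ofMul r) = Additive.ofMul (α r) := fun _ _ => rfl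
  have hT : ∀ α ∈ autInducedBy S R, ∃ s ∈ S, ∀ r : R, ((α r : R) : Ω) = s * r * s⁻¹ := fun α hα =>
    mem_autInducedBy_iff.1 hα
  have hz1 : ∀ v, ∀ hv : v ∈ R, v ∈ Subgroup.zpowers z →
      ∃ c : ZMod p, Additive.ofMul (⟨v, hv⟩ : R) = c • Zv := by
    intro v hv hvZ
    obtain ⟨i, rfl⟩ := D.exists_pow_eq hvZ
    refine ⟨(i : ZMod p), ?_⟩
    simp only [Zv]
    rw [Nat.cast_smul_eq_nsmul, ← ofMul_pow]
    exact congrArg _ (Subtype.ext (by rw [SubmonoidClass.coe_pow]))
  have hu : ∀ q (hq : q ∈ Q) (b : ℕ), normConj S R ⟨q, E.le_normalizer (D.hQS hq)⟩ xR =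
      xR * (⟨_, hd q hq⟩ * (zR ^ b)⁻¹) * zR ^ b := by
    intro q hq b
    rw [mul_assoc, inv_mul_cancel_right, mul_comm]
    exact Subtype.ext (show q * x * q⁻¹ = ⁅q, x⁆ * x by rw [commutatorElement_def, inv_mul_cancel_right])
  have hue : ∀ q (hq : q ∈ Q) (e : R), (e : Ω) ∈ Q → normConj S R ⟨q, E.le_normalizer (D.hQS hq)⟩ e =
      e * zR ^ (omega p z q (e : Ω)).val := by
    intro q hq e he
    rw [mul_comm]
    refine Subtype.ext ?_
    rw [Subgroup.coe_mul, SubmonoidClass.coe_pow]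
    show q * e * q⁻¹ = z ^ (zlog p z ⁅q, (e : Ω)⁆).val * e
    rw [← D.eq_zpow_zlog (D.comm_mem hq he), commutatorElement_def, inv_mul_cancel_right]
  let C : ConeData (ZMod p) (Additive R) (MulAut R) :=
    { ρ := ρ
      inj := fun α β h => MulEquiv.ext fun r => Additive.ofMul.injective (by rw [← hρ, ← hρ, h])
      L := F.autGroup R
      T := autInducedBy S R
      TL := autInducedBy_le_autGroup F le_rfl M.hRS
      x := X
      e1 := E1
      e2 := E2
      z := Zv
      A := A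
      spans := fun v => by
        obtain ⟨⟨a, s, t, c⟩, h⟩ := hΦb.2 v
        exact ⟨a, s, t, c, by rw [← h, hΦ]⟩
      indep := hindep
      Ax := by simpa using hA 1 0 0 0
      Ae1 := by simpa using hA 0 1 0 0
      Ae2 := by simpa using hA 0 0 1 0
      Az := by simpa using hA 0 0 0 1
      g := g
      gL := hg
      gz := by
        simp only [Zv, X, hρ]
        exact congrArg _ (Subtype.ext (by rw [← autFn_apply g M.zR]; exact hgz))
      He1 := by simp only [E1, hρ]; exact hA0 _ hH1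
      He2 := by simp only [E2, hρ]; exact hA0 _ hH2
      away := fun α hα h => by
        simp only [Zv, hρ] at h
        exact hz1 _ (α zR).2 (E.mem_Z_of_Q hα (hA0' _ h))
      Tz := fun α hα => by
        simp only [Zv, hρ]
        exact congrArg _ (Subtype.ext ((autFn_apply α M.zR).symm.trans (M.inducedBy_fix hα)))
      TA := fun α hα v => by
        obtain ⟨r, rfl⟩ := Additive.ofMul.surjective v
        obtain ⟨s, hs, hsα⟩ := hT α hα
        obtain ⟨k, q, hq, -, -, e⟩ := M.out_decomp E.out E.moved r.2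
        rw [hρ, hAx r k (by rw [e, zpow_neg, inv_mul_cancel_left]; exact hq)]
        refine hAx _ k ?_
        rw [hsα]
        have e' : x ^ (-k) * (s * (r : Ω) * s⁻¹) =
            x ^ (-k) * ⁅s, (r : Ω)⁆ * (x ^ (-k))⁻¹ * q := by
          rw [commutatorElement_def, e, zpow_neg, inv_inv]; group
        rw [e']
        exact mul_mem (D.conj_Q (zpow_mem E.xS _) (D.comm_S_mem hs (M.hRS r.2))) hq
      T0 := fun α hα v hv => by
        obtain ⟨r, rfl⟩ := Additive.ofMul.surjective v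
        have hrQ := hA0' r hv
        obtain ⟨s, hs, hsα⟩ := hT α hα
        obtain ⟨l, q, hq, rfl⟩ := D.exists_decomp E.xS E.xQ hs
        have hc : Commute (x ^ l) (r : Ω) := (show Commute x (r : Ω) from (M.moved_comm E.moved r.2).symm).zpow_left l
        have hcz := D.comm_mem hq hrQ
        have e : ((α r : R) : Ω) = ⁅q, (r : Ω)⁆ * r := by
          rw [hsα]
          have e' : x ^ l * q * r * (x ^ l * q)⁻¹ = x ^ l * (⁅q, (r : Ω)⁆ * r) * (x ^ l)⁻¹ := by
            rw [commutatorElement_def]; group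
          rw [e', ((show Commute (x ^ l) ⁅q, (r : Ω)⁆ from D.zpow_comm (zpow_mem E.xS l) hcz).mul_right hc).eq,
            mul_inv_cancel_right]
        obtain ⟨c, hc'⟩ := hz1 _ (Subgroup.zpowers_le.2 M.zR hcz) hcz
        refine ⟨c, ?_⟩
        rw [hρ, ← hc', ← ofMul_mul]
        exact congrArg _ (Subtype.ext (by rw [e, Subgroup.coe_mul]; exact D.zpow_comm (M.hRS r.2) hcz |>.symm))
      star := fun α hα β hβ hne h => by
        simp only [Zv, hρ] at hne h
        have hnz : autFn β z ∉ Subgroup.zpowers z := fun hn => by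
          rw [autFn_apply β M.zR] at hn
          obtain ⟨c, hc⟩ := hz1 _ (β zR).2 hn
          exact hne c hc
        by_contra h1
        refine M.star_aut hβ hnz hα (fun hi => h1 (E.inn_trivial hi)) ?_
        rw [autFn_apply β M.zR, autFn_apply α (β zR).2]
        exact congrArg Subtype.val (Additive.ofMul.injective h)
      u1 := normConj S R n1
      u2 := normConj S R n2
      hu1 := M.normConj_mem n1.2
      hu2 := M.normConj_mem n2.2
      b1 := (b1 : ZMod p)
      b2 := (b2 : ZMod p)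
      B1 := omega p z q1 (e1 : Ω)
      B2 := omega p z q2 (e2 : Ω)
      u1x := by
        simp only [X, E1, Zv, hρ, Nat.cast_smul_eq_nsmul, ← ofMul_pow, ← ofMul_mul]
        exact congrArg _ (hu q1 hq1 b1)
      u1e1 := by
        simp only [E1, Zv, hρ, hsmul, ← ofMul_mul]
        exact congrArg _ (hue q1 hq1 e1 e1Q)
      u1e2 := by
        simp only [E2, hρ]
        refine congrArg _ ((hue q1 hq1 e2 e2Q).trans ?_)
        rw [w12, ZMod.val_zero, pow_zero, mul_one]
      u2x := by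
        simp only [X, E2, Zv, hρ, Nat.cast_smul_eq_nsmul, ← ofMul_pow, ← ofMul_mul]
        exact congrArg _ (hu q2 hq2 b2)
      u2e1 := by
        simp only [E1, hρ]
        refine congrArg _ ((hue q2 hq2 e1 e1Q).trans ?_)
        rw [w21, ZMod.val_zero, pow_zero, mul_one]
      u2e2 := by
        simp only [E2, Zv, hρ, hsmul, ← ofMul_mul]
        exact congrArg _ (hue q2 hq2 e2 e2Q)
      B1ne := by rw [w11]; exact neg_ne_zero.2 hb1
      B2ne := by rw [w22]; exact neg_ne_zero.2 hb2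
      two := by
        intro h2
        have h2' : ((2 : ℕ) : ZMod p) = 0 := by exact_mod_cast h2
        rw [ZMod.natCast_eq_zero_iff] at h2'
        exact D.odd ((Nat.prime_dvd_prime_iff_eq D.prime Nat.prime_two).1 h2') }
  obtain ⟨ν, hν, μ, hμ, hνz, hνT, hν1, hν2⟩ := C.exists_torus
  change ν ∈ F.autGroup R at hν
  -- the extension to `S`
  obtain ⟨f, hf, hfν⟩ := exists_extension (receptive_of_fullyNormalized D.hS D.hF M.fn) hν E.le_normalizer
    fun q hq => hνT _ (M.normConj_mem (E.le_normalizer hq))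
  have hfS : IsMap F S f := hf.mono le_sup_right
  have hfz : f z = z ^ μ.val := by
    change ρ ν Zv = μ • Zv at hνz
    simp only [Zv, hρ, hsmul] at hνz
    rw [hfν z M.zR, autFn_apply ν M.zR]
    show ((ν zR : R) : Ω) = z ^ μ.val
    rw [Additive.ofMul.injective hνz, SubmonoidClass.coe_pow]
  have hfQ : ∀ q ∈ Q, f q ∈ Q := fun q hq => D.map_mem_Q E.xS E.xQ
    (by rw [E.lev_one, hR3, hQ5, ← pow_succ']; exact Nat.pow_lt_pow_right D.prime.one_lt (by norm_num))
    hfS (hfz ▸ pow_mem (Subgroup.mem_zpowers z) _) hq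
  have hcent : ∀ a b : normalizerIn S R, normConj S R a = normConj S R b → (b : Ω)⁻¹ * a ∈ R := by
    intro a b h
    refine M.cent ?_
    have h1 : normConj S R (b⁻¹ * a) = 1 := by rw [map_mul, map_inv, h, inv_mul_cancel]
    exact (normConj_eq_one_iff _).1 h1
  have hexp : ∀ q (hq : q ∈ Q), ν * normConj S R ⟨q, E.le_normalizer (D.hQS hq)⟩ * ν⁻¹ =
      normConj S R ⟨q, E.le_normalizer (D.hQS hq)⟩ ^ (-μ).val → q ^ p = 1 := by
    intro q hq hνq
    set m := (-μ).val
    have hfq := hfQ q hq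
    have hconj : normConj S R ⟨f q, E.le_normalizer (D.hQS hfq)⟩ =
        normConj S R (⟨q, E.le_normalizer (D.hQS hq)⟩ ^ m) := by
      rw [map_pow, ← hνq]
      refine MulEquiv.ext fun r => Subtype.ext ?_
      set w := ν⁻¹ r
      have hw : (r : Ω) = f w := by rw [hfν w w.2, autFn_apply ν w.2, Subtype.coe_eta, MulAut.apply_inv_self]
      set u' := normConj S R ⟨q, E.le_normalizer (D.hQS hq)⟩
      show f q * r * (f q)⁻¹ = ((ν (u' w) : R) : Ω)
      rw [hw, ← hfS.map_conj (D.hQS hq) (M.hRS w.2), ← autFn_apply ν (u' w).2, ← hfν _ (u' w).2]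
      rfl
    have hr := hcent _ _ hconj
    rw [SubmonoidClass.coe_pow] at hr
    have hrQ : (q ^ m)⁻¹ * f q ∈ Q := mul_mem (inv_mem (pow_mem hq m)) hfq
    have h1 : (f q) ^ p = (q ^ p) ^ m := by
      conv_lhs => rw [← mul_inv_cancel_left (q ^ m) (f q)]
      rw [D.mul_pow_Q (pow_mem hq m) hrQ, M.out_pow E.out _ hr, mul_one, ← pow_mul, ← pow_mul, mul_comm]
    have hmap : ∀ k : ℕ, f (q ^ k) = f q ^ k := by
      intro k
      induction k with
      | zero => simpa using hfS.map_one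
      | succ k ihk => rw [pow_succ, hfS.map_mul (pow_mem (D.hQS hq) k) (D.hQS hq), ihk, pow_succ]
    obtain ⟨i, hi⟩ := D.exists_pow_eq (D.pth_mem hq)
    rw [← hmap, ← hi, D.map_eq_zpow hfS D.z_memS, hfz, ← pow_mul, ← pow_mul, ← zpow_natCast,
      ← zpow_natCast, D.zpow_eq_iff] at h1
    push_cast at h1
    rw [ZMod.natCast_zmod_val, ZMod.natCast_zmod_val] at h1
    rw [← hi, ← zpow_natCast, ← zpow_zero z]
    refine D.zpow_eq_iff.2 ?_
    push_cast
    have h2 : (2 * μ) * (i : ZMod p) = 0 := by linear_combination h1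
    exact (mul_eq_zero.1 h2).resolve_left (mul_ne_zero C.two hμ)
  have hp1 : q1 ^ p = 1 := hexp q1 hq1 hν1
  have hp2 : q2 ^ p = 1 := hexp q2 hq2 hν2
  have hpow : ∀ q ∈ Q, q ^ p = 1 := by
    intro q hq
    obtain ⟨s, t, hst⟩ := C.T_eq (α := normConj S R ⟨q, E.le_normalizer (D.hQS hq)⟩) (M.normConj_mem _)
    have hst' : normConj S R ⟨q, E.le_normalizer (D.hQS hq)⟩ = normConj S R (n1 ^ s.val * n2 ^ t.val) := by
      rw [map_mul, map_pow, map_pow]; exact hst
    have hr := hcent _ _ hst'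
    rw [Subgroup.coe_mul, SubmonoidClass.coe_pow, SubmonoidClass.coe_pow] at hr
    have ha : q1 ^ s.val * q2 ^ t.val ∈ Q := mul_mem (pow_mem hq1 _) (pow_mem hq2 _)
    have hrp := M.out_pow E.out _ hr
    rw [← mul_inv_cancel_left (q1 ^ s.val * q2 ^ t.val) q, D.mul_pow_Q ha (mul_mem (inv_mem ha) hq), hrp,
      mul_one, D.mul_pow_Q (pow_mem hq1 _) (pow_mem hq2 _), ← pow_mul, ← pow_mul, mul_comm s.val,
      mul_comm t.val, pow_mul, pow_mul, hp1, hp2, one_pow, one_pow, one_mul]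
  have hdd : ∀ q ∈ Q, ⁅x, ⁅x, q⁆⁆ = 1 := fun q hq =>
    commutatorElement_eq_one_iff_mul_comm.2 (M.out_abelian E.out x E.xR _ (E.comm_x_R hq))
  exact ⟨x, q1, q2, ⟨hQ5, hpow, E.xS, E.xQ, E.xp⟩, hq1, hq2, hcomm, hdd q1 hq1, hdd q2 hq2, h12, hb1, hns⟩

end Quad

end Cfsg.Agent.ExtraspecialIndexP
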