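import Cfsg.Agent.Lib.ExtraspecialIndexP.Data
import Cfsg.Agent.Lib.ExtraspecialIndexP.Levels
import Cfsg.Agent.Lib.ExtraspecialIndexP.Weights
import Cfsg.Agent.Lib.ExtraspecialIndexP.ModelL
import Cfsg.Agent.Lib.ExtraspecialIndexP.ModelU
import Cfsg.Agent.Lib.ExtraspecialIndexP.ModelG

/-
The frames inside `S` and the resulting isomorphisms with Sylow subgroups of the models.
Main results (namespace `Cfsg.Agent.ExtraspecialIndexP.Setup`): `iso_of_G`, `iso_of_L`, `iso_of_U`.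
-/

set_option autoImplicit false

universe u

namespace Cfsg.Agent.ExtraspecialIndexP

open Cfsg Cfsg.FusionSystem Cfsg.Agent.Fusion
open scoped commutatorElement

variable {Ω : Type u} [Group Ω] {S : Subgroup Ω} {p : ℕ} {F : FusionSystem S} {Q : Subgroup Ω} {z : Ω}

namespace Setup

variable (D : Setup F p Q z)
include D

theorem omega_Z_left {v b : Ω} (hv : v ∈ Subgroup.zpowers z) (hb : b ∈ Q) : omega p z v b = 0 :=
  (D.omega_eq_zero (D.Z_le hv) hb).2 (D.zpow_comm (D.hQS hb) hv).symm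

theorem omega_Z_right {a v : Ω} (ha : a ∈ Q) (hv : v ∈ Subgroup.zpowers z) : omega p z a v = 0 :=
  (D.omega_eq_zero ha (D.Z_le hv)).2 (D.zpow_comm (D.hQS ha) hv)

theorem omega_inv_left {a b : Ω} (ha : a ∈ Q) (hb : b ∈ Q) : omega p z a⁻¹ b = -omega p z a b := by
  have h := D.omega_mul_left (inv_mem ha) ha hb
  rw [inv_mul_cancel, D.omega_Z_left (one_mem _) hb] at h
  linear_combination -h

theorem omega_inv_right {a b : Ω} (ha : a ∈ Q) (hb : b ∈ Q) : omega p z a b⁻¹ = -omega p z a b := by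
  rw [D.omega_swap (inv_mem hb) ha, D.omega_inv_left hb ha, D.omega_swap hb ha]

theorem comm_eq_zpow {a b a' b' : Ω} (ha : a ∈ Q) (hb : b ∈ Q) (ha' : a' ∈ Q) (hb' : b' ∈ Q) (c : ℤ)
    (h : omega p z a b = (c : ZMod p) * omega p z a' b') : ⁅a, b⁆ = ⁅a', b'⁆ ^ c := by
  obtain ⟨i, hi⟩ := Subgroup.mem_zpowers_iff.1 (D.comm_mem ha hb)
  obtain ⟨j, hj⟩ := Subgroup.mem_zpowers_iff.1 (D.comm_mem ha' hb')
  rw [omega, omega, ← hi, ← hj, D.zlog_zpow, D.zlog_zpow] at h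
  rw [← hi, ← hj, ← zpow_mul]
  exact D.zpow_eq_iff.2 (by push_cast; rw [h]; ring)

variable {x : Ω} (hx : x ∈ S)
include hx

theorem comm_x_mem {a : Ω} (ha : a ∈ Q) : ⁅x, a⁆ ∈ Q := D.comm_S_mem hx (D.hQS ha)

theorem omega_rel {a b : Ω} (ha : a ∈ Q) (hb : b ∈ Q) :
    omega p z ⁅x, a⁆ b + omega p z a ⁅x, b⁆ + omega p z ⁅x, a⁆ ⁅x, b⁆ = 0 := by
  have h := D.omega_conj hx ha hb
  have ha' := D.comm_x_mem hx ha
  have hb' := D.comm_x_mem hx hb
  rw [conj_eq_comm_mul D, conj_eq_comm_mul D, D.omega_mul_left ha' ha (mul_mem hb' hb),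
    D.omega_mul_right ha' hb' hb, D.omega_mul_right ha hb' hb] at h
  linear_combination h

/-- Commutation with `x` is additive modulo `Z`. -/
theorem comm_x_mul {a b : Ω} (ha : a ∈ Q) (hb : b ∈ Q) :
    ∃ v ∈ Subgroup.zpowers z, ⁅x, a * b⁆ = ⁅x, a⁆ * ⁅x, b⁆ * v := by
  have hb' := D.comm_x_mem hx hb
  refine ⟨⁅⁅x, b⁆⁻¹, a⁆, D.comm_mem (inv_mem hb') ha, ?_⟩
  simp only [commutatorElement_def]; group

theorem comm_x_pow {a : Ω} (ha : a ∈ Q) (k : ℕ) :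
    ∃ v ∈ Subgroup.zpowers z, ⁅x, a ^ k⁆ = ⁅x, a⁆ ^ k * v := by
  induction k with
  | zero => exact ⟨1, one_mem _, by simp⟩
  | succ k ih =>
    obtain ⟨v, hv, e⟩ := ih
    obtain ⟨w, hw, e'⟩ := D.comm_x_mul hx (pow_mem ha k) ha
    refine ⟨v * w, mul_mem hv hw, ?_⟩
    rw [pow_succ a, e', e, pow_succ, mul_assoc (⁅x, a⁆ ^ k) v, ← D.zpow_comm (D.hQS (D.comm_x_mem hx ha)) hv]
    group

theorem comm_x_mul_Z {a v : Ω} (hv : v ∈ Subgroup.zpowers z) : ⁅x, a * v⁆ = ⁅x, a⁆ := by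
  have h : x * v = v * x := D.zpow_comm hx hv
  simp only [commutatorElement_def]
  rw [mul_inv_rev, ← mul_assoc x a v, mul_assoc (x * a) v, mul_assoc, mul_assoc, mul_assoc]
  have : v * (x⁻¹ * (v⁻¹ * a⁻¹)) = x⁻¹ * a⁻¹ := by
    rw [← mul_assoc v, ← (show Commute x⁻¹ v from (show Commute x v from h).inv_left).eq, mul_assoc,
      mul_inv_cancel_left]
  rw [this]
  group

omit hx in
theorem step_card {H : Subgroup Ω} (hH : H ≤ Q) {a w : Ω} (ha : a ∈ Q) (hw : w ∈ Q)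
    (hwH : ∀ h ∈ H, w * h = h * w) (hwa : omega p z w a ≠ 0) :
    p * Nat.card H ≤ Nat.card (H ⊔ Subgroup.zpowers a : Subgroup Ω) := by
  haveI := D.fin
  haveI := Fact.mk D.prime
  have hle : H ⊔ Subgroup.zpowers a ≤ S := (sup_le hH (Subgroup.zpowers_le.2 ha)).trans D.hQS
  have hlt : H.subgroupOf S < (H ⊔ Subgroup.zpowers a).subgroupOf S := by
    refine lt_of_le_of_ne (fun u hu => Subgroup.mem_sup_left hu) fun e => hwa ?_
    have hm : (⟨a, D.hQS ha⟩ : S) ∈ H.subgroupOf S :=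
      e.symm ▸ Subgroup.mem_subgroupOf.2 (Subgroup.mem_sup_right (Subgroup.mem_zpowers a))
    exact (D.omega_eq_zero hw ha).2 (hwH a hm)
  have := PGroup.mul_card_le_of_lt D.hS hlt
  rwa [Nat.card_congr (Subgroup.subgroupOfEquivOfLe (hH.trans D.hQS)).toEquiv,
    Nat.card_congr (Subgroup.subgroupOfEquivOfLe hle).toEquiv] at this

omit hx in
/-- A frame in `S` gives the isomorphism. -/
theorem iso_of_frame (hb : Base S p Q x) {c e : Fin 4 → Fin 4 → ℤ} {z' : Ω} {q : Fin 4 → Ω}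
    (hF : Frame p c e x z' q) (hq : ∀ i, q i ∈ Q) (hz' : z' ∈ Subgroup.zpowers z) (hz'1 : z' ≠ 1)
    (w : Fin 4 → Ω) (hw : ∀ i, w i ∈ Q) (hw1 : ∀ i j, i < j → omega p z (w i) (q j) = 0)
    (hw2 : ∀ i, omega p z (w i) (q i) ≠ 0)
    {M : Type} [Group M] [Finite M] {x'' z'' : M} {q'' : Fin 4 → M} (hM : Frame p c e x'' z'' q'')
    (hz'' : z'' ≠ 1) (hdvd : ¬ p ^ 7 ∣ Nat.card M) :
    ∃ P : Sylow p M, Nonempty (S ≃* (P : Subgroup M)) := by
  haveI := D.fin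
  haveI := D.finQ
  haveI := Fact.mk D.prime
  have hgz : Subgroup.zpowers z' = Subgroup.zpowers z := by
    haveI : Finite (Subgroup.zpowers z) := finite_of_le (Subgroup.zpowers_le.2 D.z_memS)
    refine Subgroup.eq_of_le_of_card_ge (Subgroup.zpowers_le.2 hz') ?_
    rw [D.card_Z, Nat.card_zpowers, orderOf_eq_prime hF.zp hz'1]
  have hwc : ∀ i (g : Ω), g ∈ Subgroup.zpowers z → w i * g = g * w i := fun i g hg =>
    D.zpow_comm (D.hQS (hw i)) hg
  have hcomm : ∀ i j, i < j → w i * q j = q j * w i := fun i j h => (D.omega_eq_zero (hw i) (hq j)).1 (hw1 i j h)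
  -- generation
  set H3 := Subgroup.zpowers z ⊔ Subgroup.zpowers (q 3)
  set H2 := H3 ⊔ Subgroup.zpowers (q 2)
  set H1 := H2 ⊔ Subgroup.zpowers (q 1)
  set H0 := H1 ⊔ Subgroup.zpowers (q 0)
  have l3 : H3 ≤ Q := sup_le D.Z_le (Subgroup.zpowers_le.2 (hq 3))
  have l2 : H2 ≤ Q := sup_le l3 (Subgroup.zpowers_le.2 (hq 2))
  have l1 : H1 ≤ Q := sup_le l2 (Subgroup.zpowers_le.2 (hq 1))
  have l0 : H0 ≤ Q := sup_le l1 (Subgroup.zpowers_le.2 (hq 0))
  have cent : ∀ (i : Fin 4) (H : Subgroup Ω), H ≤ Subgroup.centralizer {w i} → ∀ h ∈ H, w i * h = h * w i :=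
    fun i H hH h hh => (Subgroup.mem_centralizer_singleton_iff.1 (hH hh)).symm
  have cz : ∀ i : Fin 4, Subgroup.zpowers z ≤ Subgroup.centralizer {w i} := fun i g hg =>
    Subgroup.mem_centralizer_singleton_iff.2 (hwc i g hg).symm
  have cq : ∀ i j : Fin 4, i < j → Subgroup.zpowers (q j) ≤ Subgroup.centralizer {w i} := fun i j h =>
    Subgroup.zpowers_le.2 (Subgroup.mem_centralizer_singleton_iff.2 (hcomm i j h).symm)
  have s3 := D.step_card D.Z_le (hq 3) (hw 3) (fun h hh => hwc 3 h hh) (hw2 3)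
  have s2 := D.step_card l3 (hq 2) (hw 2) (cent 2 _ (sup_le (cz 2) (cq 2 3 (by decide)))) (hw2 2)
  have s1 := D.step_card l2 (hq 1) (hw 1)
    (cent 1 _ (sup_le (sup_le (cz 1) (cq 1 3 (by decide))) (cq 1 2 (by decide)))) (hw2 1)
  have s0 := D.step_card l1 (hq 0) (hw 0) (cent 0 _ (sup_le (sup_le (sup_le (cz 0) (cq 0 3 (by decide)))
    (cq 0 2 (by decide))) (cq 0 1 (by decide)))) (hw2 0)
  have hH0 : H0 = Q := by
    refine Subgroup.eq_of_le_of_card_ge l0 ?_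
    rw [hb.card_Q]
    calc p ^ 5 = p * (p * (p * (p * p))) := by ring
      _ ≤ p * (p * (p * Nat.card H3)) := by rw [D.card_Z] at s3; exact Nat.mul_le_mul_left _ (Nat.mul_le_mul_left _ (Nat.mul_le_mul_left _ s3))
      _ ≤ p * (p * Nat.card H2) := Nat.mul_le_mul_left _ (Nat.mul_le_mul_left _ s2)
      _ ≤ p * Nat.card H1 := Nat.mul_le_mul_left _ s1
      _ ≤ _ := s0
  let xS : S := ⟨x, hb.xS⟩
  let zS : S := ⟨z', Subgroup.zpowers_le.2 D.z_memS hz'⟩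
  let qS : Fin 4 → S := fun i => ⟨q i, D.hQS (hq i)⟩
  have hFS : Frame p c e xS zS qS :=
    { xp := Subtype.ext hF.xp
      zp := Subtype.ext hF.zp
      qp := fun i => Subtype.ext (hF.qp i)
      xz := Subtype.ext hF.xz
      qz := fun i => Subtype.ext (hF.qz i)
      qq := fun i j h => Subtype.ext (by
        simpa [qS, zS, commutatorElement_def] using hF.qq i j h)
      xq := fun i => Subtype.ext (by
        simpa [qS, xS, wordQ, commutatorElement_def] using hF.xq i) }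
  have hgen : Subgroup.closure (Set.range qS ∪ {zS, xS}) = ⊤ := by
    set K := (Subgroup.closure (Set.range qS ∪ {zS, xS})).map S.subtype
    have hm : ∀ g : S, g ∈ Set.range qS ∪ {zS, xS} → (g : Ω) ∈ K := fun g hg =>
      ⟨g, Subgroup.subset_closure hg, rfl⟩
    have hQK : Q ≤ K := by
      rw [← hH0]
      refine sup_le (sup_le (sup_le (sup_le ?_ ?_) ?_) ?_) ?_
      · rw [← hgz]; exact Subgroup.zpowers_le.2 (hm zS (Or.inr (Or.inl rfl)))
      all_goals exact Subgroup.zpowers_le.2 (hm (qS _) (Or.inl ⟨_, rfl⟩))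
    have hSK := D.le_of_mem hb.xS hb.xQ hQK (hm xS (Or.inr (Or.inr rfl)))
    refine (Subgroup.eq_top_iff' _).2 fun g => ?_
    obtain ⟨g', hg', e'⟩ := hSK g.2
    rwa [← Subtype.ext e' (a1 := g') (a2 := g)]
  have hcard : Nat.card S = p ^ 6 := by rw [D.card_S, hb.card_Q]; ring
  refine hFS.exists_equiv_sylow hgen D.hS hcard (fun g hg => ?_) hM hz'' hdvd
  have h1 : (g : Ω) ∈ Subgroup.zpowers z := by
    rw [← D.centerS]
    exact ⟨g.2, Subgroup.mem_centralizer_iff.2 fun u hu =>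
      congrArg Subtype.val (Subgroup.mem_center_iff.1 hg ⟨u, hu⟩)⟩
  rw [← hgz] at h1
  obtain ⟨k, hk⟩ := Subgroup.mem_zpowers_iff.1 h1
  exact Subgroup.mem_zpowers_iff.2 ⟨k, Subtype.ext (by rw [Subgroup.coe_zpow]; exact hk)⟩

omit hx in
theorem comm_ne_one {a b : Ω} (h : omega p z a b ≠ 0) : ⁅a, b⁆ ≠ 1 := fun e =>
  h (by rw [omega, e]; exact D.zlog_one)

omit hx in
theorem two_ne : (2 : ZMod p) ≠ 0 := by
  haveI := Fact.mk D.prime
  intro h
  have h' : ((2 : ℕ) : ZMod p) = 0 := by exact_mod_cast h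
  rw [ZMod.natCast_eq_zero_iff] at h'
  exact D.odd ((Nat.prime_dvd_prime_iff_eq D.prime Nat.prime_two).1 h')

omit hx in
theorem iso_of_L (h : LData S p Q z) [Fact p.Prime] :
    ∃ P : Sylow p (Matrix.SpecialLinearGroup (Fin 4) (ZMod p)),
      Nonempty (S ≃* (P : Subgroup (Matrix.SpecialLinearGroup (Fin 4) (ZMod p)))) := by
  obtain ⟨x, q1, q2, hb, h1, h2, h12, hd1, hd2, hw11, hw22, hw12⟩ := h
  have hx := hb.xS
  set d1 := ⁅x, q1⁆
  set q4 := ⁅x, q2⁆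
  have hd : d1 ∈ Q := D.comm_x_mem hx h1
  have h3 : d1⁻¹ ∈ Q := inv_mem hd
  have h4 : q4 ∈ Q := D.comm_x_mem hx h2
  have r1 := D.omega_rel hx h1 h4
  have r2 := D.omega_rel hx h1 h2
  rw [hd2, D.omega_Z_right hd (one_mem _), D.omega_Z_right h1 (one_mem _)] at r1
  have e12 : omega p z q1 q2 = 0 := (D.omega_eq_zero h1 h2).2 h12
  have e34 : omega p z d1 q4 = 0 := by linear_combination r1
  have e2d : omega p z q2 d1 = omega p z q1 q4 := by
    rw [D.omega_swap hd h2]; linear_combination -r2 + e34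
  have hz' := D.comm_mem h1 h4
  obtain ⟨xM, zM, qM, hM, hzM⟩ := exists_frame_SL p
  refine D.iso_of_frame hb (c := cL) (e := eL) (z' := ⁅q1, q4⁆) (q := ![q1, q2, d1⁻¹, q4])
    { xp := hb.xp
      zp := hb.pow_Q _ (D.Z_le hz')
      qp := ?_
      xz := D.zpow_comm hx hz'
      qz := ?_
      qq := ?_
      xq := ?_ } ?_ hz' (D.comm_ne_one hw12) ![q4, d1⁻¹, q2, q1] ?_ ?_ ?_ hM hzM (not_dvd_card_SL p)
  · intro i; fin_cases i
    exacts [hb.pow_Q _ h1, hb.pow_Q _ h2, hb.pow_Q _ h3, hb.pow_Q _ h4]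
  · intro i; fin_cases i
    exacts [D.zpow_comm (D.hQS h1) hz', D.zpow_comm (D.hQS h2) hz', D.zpow_comm (D.hQS h3) hz',
      D.zpow_comm (D.hQS h4) hz']
  · intro i j hij
    fin_cases i <;> fin_cases j <;> try simp at hij
    · exact D.comm_eq_zpow h1 h2 h1 h4 _ (by simp [cL, e12])
    · exact D.comm_eq_zpow h1 h3 h1 h4 _ (by simp [cL, D.omega_inv_right h1 hd, hw11])
    · exact D.comm_eq_zpow h1 h4 h1 h4 _ (by simp [cL])
    · exact D.comm_eq_zpow h2 h3 h1 h4 _ (by simp [cL, D.omega_inv_right h2 hd, e2d])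
    · exact D.comm_eq_zpow h2 h4 h1 h4 _ (by simp [cL, hw22, q4])
    · exact D.comm_eq_zpow h3 h4 h1 h4 _ (by simp [cL, D.omega_inv_left hd h4, e34])
  · have hc : x * d1 = d1 * x := commutatorElement_eq_one_iff_mul_comm.1 hd1
    have hd3 : ⁅x, d1⁻¹⁆ = 1 := commutatorElement_eq_one_iff_mul_comm.2 (show Commute x d1 from hc).inv_right
    intro i
    fin_cases i <;> simp only [eL, wordQ] <;> simp [-commutatorElement_inv, hd2, hd3, d1, q4]

  · intro i; fin_cases i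
    exacts [h1, h2, h3, h4]
  · intro i; fin_cases i
    exacts [h4, h3, h2, h1]
  · intro i j hij
    fin_cases i <;> fin_cases j <;> try simp at hij
    · show omega p z q4 q2 = 0
      rw [D.omega_swap h2 h4, hw22, neg_zero]
    · show omega p z q4 d1⁻¹ = 0
      rw [D.omega_inv_right h4 hd, D.omega_swap hd h4, e34, neg_zero, neg_zero]
    · exact (D.omega_eq_zero h4 h4).2 rfl
    · exact (D.omega_eq_zero h3 h3).2 rfl
    · show omega p z d1⁻¹ q4 = 0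
      rw [D.omega_inv_left hd h4, e34, neg_zero]
    · exact hw22
  · intro i
    fin_cases i
    · show omega p z q4 q1 ≠ 0
      rw [D.omega_swap h1 h4]; exact neg_ne_zero.2 hw12
    · show omega p z d1⁻¹ q2 ≠ 0
      rw [D.omega_inv_left hd h2, D.omega_swap h2 hd, e2d, neg_neg]; exact hw12
    · show omega p z q2 d1⁻¹ ≠ 0
      rw [D.omega_inv_right h2 hd, e2d]; exact neg_ne_zero.2 hw12
    · exact hw12

omit hx in
theorem iso_of_U (h : UData S p Q z) [Fact p.Prime] :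
    ∃ (K : Type) (_ : Field K) (_ : Fintype K), Fintype.card K = p ^ 2 ∧
      ∃ P : Sylow p ↥(Cfsg.SU 4 K p), Nonempty (↥S ≃* ↥(P : Subgroup ↥(Cfsg.SU 4 K p))) := by
  obtain ⟨x, q1, q2, hb, h1, h2, h12, hd1, hd2, hw12, hw11, hns⟩ := h
  have hx := hb.xS
  set A := omega p z q1 ⁅x, q1⁆
  set B := omega p z q2 ⁅x, q2⁆
  set r : ZMod p := -B * A
  set ν : ℤ := (r.val : ℤ)
  have hνr : (ν : ZMod p) = r := by rw [Int.cast_natCast, ZMod.natCast_zmod_val]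
  have hB0 : B ≠ 0 := fun e => hns (by simp [r, e])
  -- scaling: the new ratio is `ν`
  set k := A.val
  have hk : (k : ZMod p) = A := ZMod.natCast_zmod_val _
  set q2' := q2 ^ k
  set q3 := ⁅x, q1⁆
  set q4 := ⁅x, q2'⁆
  have h2' : q2' ∈ Q := pow_mem h2 k
  have hd : ⁅x, q2⁆ ∈ Q := D.comm_x_mem hx h2
  have h3 : q3 ∈ Q := D.comm_x_mem hx h1
  have h4 : q4 ∈ Q := D.comm_x_mem hx h2'
  obtain ⟨v, hv, hq4⟩ := D.comm_x_pow hx h2 k
  have hd4 : ⁅x, q4⁆ = 1 := by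
    show ⁅x, ⁅x, q2 ^ k⁆⁆ = 1
    rw [hq4, D.comm_x_mul_Z hx hv]
    exact commutatorElement_eq_one_iff_mul_comm.2
      ((show Commute x ⁅x, q2⁆ from commutatorElement_eq_one_iff_mul_comm.1 hd2).pow_right k)
  have hq4ω : ∀ a ∈ Q, omega p z a q4 = (k : ZMod p) * omega p z a ⁅x, q2⁆ := by
    intro a ha
    show omega p z a ⁅x, q2 ^ k⁆ = _
    rw [hq4, D.omega_mul_right ha (pow_mem hd k) (D.Z_le hv), D.omega_Z_right ha hv, add_zero,
      D.omega_pow_right ha hd]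
  have e14 : omega p z q1 q4 = 0 := by rw [hq4ω q1 h1, hw12, mul_zero]
  have e24 : omega p z q2' q4 = (-ν : ℤ) * A := by
    rw [hq4ω q2' h2', D.omega_pow_left h2 hd, hk, Int.cast_neg, hνr]
    ring
  have r1 := D.omega_rel hx h1 h4
  rw [hd4, D.omega_Z_right h3 (one_mem _), D.omega_Z_right h1 (one_mem _)] at r1
  have e34 : omega p z q3 q4 = 0 := by linear_combination r1
  have e12 : omega p z q1 q2' = 0 := by
    rw [D.omega_pow_right h1 h2, (D.omega_eq_zero h1 h2).2 h12, mul_zero]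
  have r2 := D.omega_rel hx h1 h2'
  have e23 : omega p z q2' q3 = 0 := by
    rw [D.omega_swap h3 h2']; linear_combination -r2 + e14 + e34
  have hA0 : (k : ZMod p) ≠ 0 := by rw [hk]; exact hw11
  have hν0 : ((-ν : ℤ) : ZMod p) * A ≠ 0 := by
    rw [Int.cast_neg, hνr]
    exact mul_ne_zero (neg_ne_zero.2 (mul_ne_zero (neg_ne_zero.2 hB0) hw11)) hw11
  have hz' := D.comm_mem h1 h3
  obtain ⟨K, hKf, hKt, hK, hKc, h2ne, ι, hι, hισ, hι0⟩ :=
    UModel.exists_field_sq (p := p) D.odd ν (by rw [hνr]; exact hns)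
  obtain ⟨xM, zM, qM, hM, hzM⟩ := UModel.exists_frame_SU hK h2ne ν ι hι hισ hι0
  refine ⟨K, hKf, hKt, hK, ?_⟩
  refine D.iso_of_frame hb (c := cU ν) (e := eU) (z' := ⁅q1, q3⁆) (q := ![q1, q2', q3, q4])
    { xp := hb.xp
      zp := hb.pow_Q _ (D.Z_le hz')
      qp := ?_
      xz := D.zpow_comm hx hz'
      qz := ?_
      qq := ?_
      xq := ?_ } ?_ hz' (D.comm_ne_one hw11) ![q3, q4, q1, q2'] ?_ ?_ ?_ hM hzM (UModel.not_dvd_card_SU hK)
  · intro i; fin_cases i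
    exacts [hb.pow_Q _ h1, hb.pow_Q _ h2', hb.pow_Q _ h3, hb.pow_Q _ h4]
  · intro i; fin_cases i
    exacts [D.zpow_comm (D.hQS h1) hz', D.zpow_comm (D.hQS h2') hz', D.zpow_comm (D.hQS h3) hz',
      D.zpow_comm (D.hQS h4) hz']
  · intro i j hij
    fin_cases i <;> fin_cases j <;> try simp at hij
    · exact D.comm_eq_zpow h1 h2' h1 h3 _ (by simp [cU, e12])
    · exact D.comm_eq_zpow h1 h3 h1 h3 _ (by simp [cU])
    · exact D.comm_eq_zpow h1 h4 h1 h3 _ (by simp [cU, e14])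
    · exact D.comm_eq_zpow h2' h3 h1 h3 _ (by simp [cU, e23])
    · exact D.comm_eq_zpow h2' h4 h1 h3 _ (by simpa [cU, q3, A] using e24)
    · exact D.comm_eq_zpow h3 h4 h1 h3 _ (by simp [cU, e34])
  · intro i
    fin_cases i <;> simp [eU, wordQ, hd1, hd4, q3, q4]
  · intro i; fin_cases i
    exacts [h1, h2', h3, h4]
  · intro i; fin_cases i
    exacts [h3, h4, h1, h2']
  · intro i j hij
    fin_cases i <;> fin_cases j <;> try simp at hij
    · show omega p z q3 q2' = 0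
      rw [D.omega_swap h2' h3, e23, neg_zero]
    · exact (D.omega_eq_zero h3 h3).2 rfl
    · exact e34
    · show omega p z q4 q3 = 0
      rw [D.omega_swap h3 h4, e34, neg_zero]
    · exact (D.omega_eq_zero h4 h4).2 rfl
    · exact e14
  · intro i
    fin_cases i
    · show omega p z q3 q1 ≠ 0
      rw [D.omega_swap h1 h3]; exact neg_ne_zero.2 hw11
    · show omega p z q4 q2' ≠ 0
      rw [D.omega_swap h2' h4, e24]; exact neg_ne_zero.2 hν0
    · exact hw11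
    · show omega p z q2' q4 ≠ 0
      rw [e24]; exact hν0

omit hx in
theorem iso_of_G (h : GData S p Q z) [Fact p.Prime] :
    5 ≤ p ∧ ∃ P : Sylow p ↥(Cfsg.Lie.G2 (ZMod p)),
      Nonempty (↥S ≃* ↥(P : Subgroup ↥(Cfsg.Lie.G2 (ZMod p)))) := by
  obtain ⟨hp5, x, a1, hb, ha1, hd4, hw⟩ := h
  refine ⟨hp5, ?_⟩
  have hx := hb.xS
  -- relations valid for any such first element
  have rel : ∀ b1 ∈ Q, ⁅x, ⁅x, ⁅x, ⁅x, b1⁆⁆⁆⁆ = 1 →
      omega p z ⁅x, b1⁆ ⁅x, ⁅x, ⁅x, b1⁆⁆⁆ = 0 ∧ omega p z ⁅x, ⁅x, b1⁆⁆ ⁅x, ⁅x, ⁅x, b1⁆⁆⁆ = 0 ∧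
      omega p z ⁅x, b1⁆ ⁅x, ⁅x, b1⁆⁆ = -omega p z b1 ⁅x, ⁅x, ⁅x, b1⁆⁆⁆ ∧
      omega p z b1 ⁅x, ⁅x, b1⁆⁆ = omega p z b1 ⁅x, ⁅x, ⁅x, b1⁆⁆⁆ := by
    intro b1 hb1 hk
    have g2 := D.comm_x_mem hx hb1
    have g3 := D.comm_x_mem hx g2
    have g4 := D.comm_x_mem hx g3
    have r1 := D.omega_rel hx hb1 g4
    rw [hk, D.omega_Z_right g2 (one_mem _), D.omega_Z_right hb1 (one_mem _)] at r1
    have e24 : omega p z ⁅x, b1⁆ ⁅x, ⁅x, ⁅x, b1⁆⁆⁆ = 0 := by linear_combination r1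
    have r2 := D.omega_rel hx g2 g4
    rw [hk, D.omega_Z_right g3 (one_mem _), D.omega_Z_right g2 (one_mem _)] at r2
    have e34 : omega p z ⁅x, ⁅x, b1⁆⁆ ⁅x, ⁅x, ⁅x, b1⁆⁆⁆ = 0 := by linear_combination r2
    have r3 := D.omega_rel hx hb1 g3
    have e23 : omega p z ⁅x, b1⁆ ⁅x, ⁅x, b1⁆⁆ = -omega p z b1 ⁅x, ⁅x, ⁅x, b1⁆⁆⁆ := by
      linear_combination r3 - e24
    have r4 := D.omega_rel hx hb1 g2
    rw [(D.omega_eq_zero g2 g2).2 rfl] at r4
    exact ⟨e24, e34, e23, by linear_combination r4 - e23⟩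
  obtain ⟨f24, f34, f23, f13⟩ := rel a1 ha1 hd4
  set a2 := ⁅x, a1⁆
  set a3 := ⁅x, a2⁆
  set a4 := ⁅x, a3⁆
  have g2 : a2 ∈ Q := D.comm_x_mem hx ha1
  have g3 : a3 ∈ Q := D.comm_x_mem hx g2
  have g4 : a4 ∈ Q := D.comm_x_mem hx g3
  set t := (-omega p z a1 a2 / (2 * omega p z a1 a4)).val
  have ht : (t : ZMod p) * (2 * omega p z a1 a4) = -omega p z a1 a2 := by
    rw [ZMod.natCast_zmod_val, div_mul_cancel₀]
    exact mul_ne_zero D.two_ne hw
  set q1 := a1 * a3 ^ t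
  set q2 := ⁅x, q1⁆
  set q3 := ⁅x, q2⁆
  set q4 := ⁅x, q3⁆
  have h1 : q1 ∈ Q := mul_mem ha1 (pow_mem g3 t)
  have h2 : q2 ∈ Q := D.comm_x_mem hx h1
  have h3 : q3 ∈ Q := D.comm_x_mem hx h2
  have h4 : q4 ∈ Q := D.comm_x_mem hx h3
  obtain ⟨v, hv, ev⟩ := D.comm_x_pow hx g3 t
  obtain ⟨w, hw', ew⟩ := D.comm_x_mul hx ha1 (pow_mem g3 t)
  have eq2 : q2 = a2 * a4 ^ t * (v * w) := by
    show ⁅x, a1 * a3 ^ t⁆ = _
    rw [ew, ev]; simp only [a2, a4, mul_assoc]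
  obtain ⟨w', hw'', ew'⟩ := D.comm_x_mul hx g2 (pow_mem g4 t)
  have ha4t : ⁅x, a4 ^ t⁆ = 1 := commutatorElement_eq_one_iff_mul_comm.2
    ((show Commute x a4 from commutatorElement_eq_one_iff_mul_comm.1 hd4).pow_right t)
  have eq3 : q3 = a3 * w' := by
    show ⁅x, q2⁆ = _
    rw [eq2, D.comm_x_mul_Z hx (mul_mem hv hw'), ew', ha4t, mul_one]
  have eq4 : q4 = a4 := by
    show ⁅x, q3⁆ = _
    rw [eq3, D.comm_x_mul_Z hx hw'']
  have hd4' : ⁅x, q4⁆ = 1 := eq4 ▸ hd4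
  obtain ⟨e24, e34, e23, e13⟩ := rel q1 h1 hd4'
  have e14 : omega p z q1 q4 = omega p z a1 a4 := by
    rw [eq4]
    show omega p z (a1 * a3 ^ t) a4 = _
    rw [D.omega_mul_left ha1 (pow_mem g3 t) g4, D.omega_pow_left g3 g4, f34, mul_zero, add_zero]
  have e12 : omega p z q1 q2 = 0 := by
    rw [eq2, D.omega_mul_right h1 (mul_mem g2 (pow_mem g4 t)) (D.Z_le (mul_mem hv hw')),
      D.omega_Z_right h1 (mul_mem hv hw'), add_zero, D.omega_mul_right h1 g2 (pow_mem g4 t),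
      D.omega_pow_right h1 g4]
    show omega p z (a1 * a3 ^ t) a2 + _ * omega p z (a1 * a3 ^ t) a4 = 0
    rw [D.omega_mul_left ha1 (pow_mem g3 t) g2, D.omega_pow_left g3 g2, D.omega_swap g2 g3, f23,
      D.omega_mul_left ha1 (pow_mem g3 t) g4, D.omega_pow_left g3 g4, f34]
    linear_combination ht
  have hw14 : omega p z q1 q4 ≠ 0 := by rw [e14]; exact hw
  have hz' := D.comm_mem h1 h4
  obtain ⟨xM, zM, qM, hM, hzM⟩ := GModel.exists_frame_G2 p hp5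
  refine D.iso_of_frame hb (c := cG) (e := eG) (z' := ⁅q1, q4⁆) (q := ![q1, q2, q3, q4])
    { xp := hb.xp
      zp := hb.pow_Q _ (D.Z_le hz')
      qp := ?_
      xz := D.zpow_comm hx hz'
      qz := ?_
      qq := ?_
      xq := ?_ } ?_ hz' (D.comm_ne_one hw14) ![q4, q3, q2, q1] ?_ ?_ ?_ hM hzM (GModel.not_dvd_card_G2 p)
  · intro i; fin_cases i
    exacts [hb.pow_Q _ h1, hb.pow_Q _ h2, hb.pow_Q _ h3, hb.pow_Q _ h4]
  · intro i; fin_cases i
    exacts [D.zpow_comm (D.hQS h1) hz', D.zpow_comm (D.hQS h2) hz', D.zpow_comm (D.hQS h3) hz',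
      D.zpow_comm (D.hQS h4) hz']
  · intro i j hij
    fin_cases i <;> fin_cases j <;> try simp at hij
    · exact D.comm_eq_zpow h1 h2 h1 h4 _ (by simp [cG, e12])
    · exact D.comm_eq_zpow h1 h3 h1 h4 _ (by simpa [cG, q2, q3, q4] using e13)
    · exact D.comm_eq_zpow h1 h4 h1 h4 _ (by simp [cG])
    · exact D.comm_eq_zpow h2 h3 h1 h4 _ (by simpa [cG, q2, q3, q4] using e23)
    · exact D.comm_eq_zpow h2 h4 h1 h4 _ (by simpa [cG, q2, q3, q4] using e24)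
    · exact D.comm_eq_zpow h3 h4 h1 h4 _ (by simpa [cG, q2, q3, q4] using e34)
  · intro i
    fin_cases i <;> simp [eG, wordQ, hd4', q2, q3, q4]
  · intro i; fin_cases i
    exacts [h1, h2, h3, h4]
  · intro i; fin_cases i
    exacts [h4, h3, h2, h1]
  · intro i j hij
    fin_cases i <;> fin_cases j <;> try simp at hij
    · show omega p z q4 q2 = 0
      rw [D.omega_swap h2 h4, e24, neg_zero]
    · show omega p z q4 q3 = 0
      rw [D.omega_swap h3 h4, e34, neg_zero]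
    · exact (D.omega_eq_zero h4 h4).2 rfl
    · exact (D.omega_eq_zero h3 h3).2 rfl
    · exact e34
    · exact e24
  · intro i
    fin_cases i
    · show omega p z q4 q1 ≠ 0
      rw [D.omega_swap h1 h4]; exact neg_ne_zero.2 hw14
    · show omega p z q3 q2 ≠ 0
      rw [D.omega_swap h2 h3, e23, neg_neg]; exact hw14
    · show omega p z q2 q3 ≠ 0
      rw [e23]; exact neg_ne_zero.2 hw14
    · exact hw14

end Setup

end Cfsg.Agent.ExtraspecialIndexP
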