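import Cfsg.Agent.EqLemmas
import Cfsg.Agent.S5178
import Cfsg.Agent.Lib.Extraspecial.Basic
import Cfsg.Agent.Lib.Fusion.Saturation

/-
A `p`-group `S` with an extraspecial subgroup `Q` of index `p`, carrying a saturated system with trivial core:
the elementary facts on `Q`, its centre `Z = ⟨z⟩` and the commutator form.
Main results (namespace `Cfsg.Agent.ExtraspecialIndexP`): `Setup`, `Setup.of_hyps`, `comm_mem`, `pth_mem`,
`conj_Q`, `mem_center_of`, `comm_mul_left/right`, `card_centralizer_mul`, `card_abelian_sq`, `omega`.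
-/

set_option autoImplicit false

universe u

namespace Cfsg.Agent.ExtraspecialIndexP

open Cfsg Cfsg.FusionSystem Cfsg.Agent.Fusion
open scoped commutatorElement

variable {Ω : Type u} [Group Ω] {S : Subgroup Ω}

/-- The hypotheses, with a generator `z` of the centre of `Q`. -/
structure Setup (F : FusionSystem S) (p : ℕ) (Q : Subgroup Ω) (z : Ω) : Prop where
  fin : Finite S
  prime : p.Prime
  odd : p ≠ 2
  hS : IsPGroup p S
  hF : F.IsSaturated p
  hQS : Q ≤ S
  hQ : Cfsg.IsExtraspecial p Q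
  index : (Q.subgroupOf S).index = p
  big : p ^ 6 ≤ Nat.card S
  core : F.core = ⊥
  z_mem : z ∈ Q
  z_ne : z ≠ 1
  z_pow : z ^ p = 1
  center_eq : Q ⊓ Subgroup.centralizer (Q : Set Ω) = Subgroup.zpowers z
  centerS : S ⊓ Subgroup.centralizer (S : Set Ω) = Subgroup.zpowers z

/-- Adjoining an element of order dividing `p` that normalizes a finite subgroup. -/
theorem card_sup_zpowers_le {G : Type*} [Group G] {p : ℕ} (hp : 0 < p) {H : Subgroup G} [Finite H] {a : G}
    (ha : a ^ p = 1) (hn : a ∈ Subgroup.normalizer (H : Set G)) :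
    Finite (H ⊔ Subgroup.zpowers a : Subgroup G) ∧
      Nat.card (H ⊔ Subgroup.zpowers a : Subgroup G) ≤ Nat.card H * p := by
  have hset : ∀ g ∈ (H ⊔ Subgroup.zpowers a : Subgroup G), ∃ h ∈ H, ∃ i : Fin p, h * a ^ (i : ℕ) = g := by
    intro g hg
    rw [sup_comm, ← SetLike.mem_coe,
      Subgroup.coe_mul_of_left_le_normalizer_right _ _ (Subgroup.zpowers_le.2 hn)] at hg
    obtain ⟨b, hb, h, hh, rfl⟩ := hg
    obtain ⟨j, rfl⟩ := Subgroup.mem_zpowers_iff.1 hb
    refine ⟨a ^ j * h * (a ^ j)⁻¹, (Subgroup.mem_normalizer_iff.1 (zpow_mem hn j) h).1 hh,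
      ⟨(j % p).toNat, ?_⟩, ?_⟩
    · have := Int.emod_lt_of_pos j (Int.natCast_pos.2 hp)
      omega
    · have e : a ^ (j % p).toNat = a ^ j := by
        rw [← zpow_natCast, Int.toNat_of_nonneg (Int.emod_nonneg _ (by omega))]
        conv_rhs => rw [← Int.emod_add_mul_ediv j p, zpow_add, zpow_mul, zpow_natCast, ha, one_zpow, mul_one]
      simp only [e, inv_mul_cancel_right]
  have hsur : Function.Surjective (fun x : H × Fin p =>
      (⟨x.1 * a ^ (x.2 : ℕ), mul_mem (Subgroup.mem_sup_left x.1.2)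
        (pow_mem (Subgroup.mem_sup_right (Subgroup.mem_zpowers a)) _)⟩ : (H ⊔ Subgroup.zpowers a : Subgroup G))) := by
    rintro ⟨g, hg⟩
    obtain ⟨h, hh, i, e⟩ := hset g hg
    exact ⟨(⟨h, hh⟩, i), Subtype.ext e⟩
  refine ⟨Finite.of_surjective _ hsur, ?_⟩
  refine (Nat.card_le_card_of_surjective _ hsur).trans ?_
  rw [Nat.card_prod, Nat.card_eq_fintype_card (α := Fin p), Fintype.card_fin]

variable {p : ℕ} {F : FusionSystem S} {Q : Subgroup Ω} {z : Ω}

theorem Setup.of_hyps [Finite S] [Fact p.Prime] (hp : Odd p) (hS : IsPGroup p S) (hQS : Q ≤ S)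
    (hQ : Cfsg.IsExtraspecial p Q) (hQi : (Q.subgroupOf S).index = p) (h6 : p ^ 6 ≤ Nat.card S)
    (hF : F.IsSaturated p) (hO : F.core = ⊥) : ∃ z, Setup F p Q z := by
  have hp' : p.Prime := Fact.out
  haveI : Finite Q := finite_of_le hQS
  haveI : Nontrivial (Subgroup.center Q) := by
    rw [← Finite.one_lt_card_iff_nontrivial, hQ.2]
    exact hp'.one_lt
  obtain ⟨⟨⟨z, hzQ⟩, hzc⟩, hz1⟩ := exists_ne (1 : Subgroup.center Q)
  have hzp : (⟨⟨z, hzQ⟩, hzc⟩ : Subgroup.center Q) ^ p = 1 := by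
    have h := pow_card_eq_one' (x := (⟨⟨z, hzQ⟩, hzc⟩ : Subgroup.center Q))
    rwa [hQ.2] at h
  have hord : orderOf (⟨⟨z, hzQ⟩, hzc⟩ : Subgroup.center Q) = p := orderOf_eq_prime hzp hz1
  have hC : Q ⊓ Subgroup.centralizer (Q : Set Ω) = (Subgroup.center Q).map Q.subtype := by
    ext x
    constructor
    · rintro ⟨hx, hxc⟩
      refine ⟨⟨x, hx⟩, Subgroup.mem_center_iff.2 fun y => Subtype.ext ?_, rfl⟩
      exact (Subgroup.mem_centralizer_iff.1 hxc y y.2)
    · rintro ⟨y, hy, rfl⟩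
      refine ⟨y.2, Subgroup.mem_centralizer_iff.2 fun w hw => ?_⟩
      exact congrArg Subtype.val (Subgroup.mem_center_iff.1 hy ⟨w, hw⟩)
  have hgen : (Subgroup.center Q).map Q.subtype = Subgroup.zpowers z := by
    haveI : Finite ((Subgroup.center Q).map Q.subtype) := finite_of_le (Subgroup.map_subtype_le _)
    have hz' : z ∈ (Subgroup.center Q).map Q.subtype := ⟨⟨z, hzQ⟩, hzc, rfl⟩
    refine (Subgroup.eq_of_le_of_card_ge (Subgroup.zpowers_le.2 hz') ?_).symm
    rw [Subgroup.card_map_of_injective Q.subtype_injective, hQ.2, Nat.card_zpowers]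
    refine le_of_eq ?_
    rw [← hord]
    exact (orderOf_injective (Q.subtype.comp (Subgroup.center Q).subtype)
      (Q.subtype_injective.comp (Subgroup.center Q).subtype_injective) _).symm
  refine ⟨z, ⟨inferInstance, hp', fun h => by rw [h] at hp; exact absurd hp (by decide), hS, hF, hQS, hQ,
    hQi, h6, hO, hzQ, fun h => hz1 (Subtype.ext (Subtype.ext h)),
    congrArg (fun x : Subgroup.center Q => ((x : Q) : Ω)) hzp, hC.trans hgen, ?_⟩⟩
  rw [S5178.result p hp hS Q hQS hQ hQi F hF hO, hC, hgen]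

namespace Setup

variable (D : Setup F p Q z)
include D

theorem z_memS : z ∈ S := D.hQS D.z_mem

theorem ordz : orderOf z = p := haveI := Fact.mk D.prime; orderOf_eq_prime D.z_pow D.z_ne

theorem z_comm {s : Ω} (hs : s ∈ S) : s * z = z * s :=
  Subgroup.mem_centralizer_iff.1 ((D.centerS.ge (Subgroup.mem_zpowers z)).2) s hs

theorem zpow_comm {s w : Ω} (hs : s ∈ S) (hw : w ∈ Subgroup.zpowers z) : s * w = w * s :=
  Subgroup.mem_centralizer_iff.1 ((D.centerS.ge hw).2) s hs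

theorem Z_le : Subgroup.zpowers z ≤ Q := Subgroup.zpowers_le.2 D.z_mem

theorem finQ : Finite Q := haveI := D.fin; finite_of_le D.hQS

theorem card_Z : Nat.card (Subgroup.zpowers z) = p := by rw [Nat.card_zpowers, D.ordz]

theorem card_S : Nat.card S = p * Nat.card Q := by
  rw [← Subgroup.card_mul_index (Q.subgroupOf S), D.index,
    Nat.card_congr (Subgroup.subgroupOfEquivOfLe D.hQS).toEquiv, mul_comm]

theorem normalQ : (Q.subgroupOf S).Normal := by
  haveI := D.fin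
  haveI := Fact.mk D.prime
  have key : IsCoatom (Q.subgroupOf S) := by
    refine ⟨fun h => ?_, fun K hK => ?_⟩
    · have h1 := D.index
      rw [h, Subgroup.index_top] at h1
      exact D.prime.one_lt.ne h1
    by_contra hne
    have h1 := PGroup.mul_card_le_of_lt D.hS hK
    have h2 := PGroup.mul_card_le_of_lt D.hS (lt_top_iff_ne_top.2 hne)
    have h3 := Subgroup.card_mul_index (Q.subgroupOf S)
    rw [D.index] at h3
    rw [Subgroup.card_top, ← h3] at h2
    have h4 : p * (p * Nat.card (Q.subgroupOf S)) ≤ Nat.card (Q.subgroupOf S) * p :=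
      (Nat.mul_le_mul_left p h1).trans h2
    rw [mul_comm (Nat.card _) p] at h4
    have h5 := Nat.le_of_mul_le_mul_left h4 D.prime.pos
    have : 0 < Nat.card (Q.subgroupOf S) := Nat.card_pos
    nlinarith [D.prime.two_le]
  exact PGroup.isCoatom_normal D.hS key

theorem conj_Q {s q : Ω} (hs : s ∈ S) (hq : q ∈ Q) : s * q * s⁻¹ ∈ Q :=
  D.normalQ.conj_mem ⟨q, D.hQS hq⟩ hq ⟨s, hs⟩

theorem comm_mem {a b : Ω} (ha : a ∈ Q) (hb : b ∈ Q) : ⁅a, b⁆ ∈ Subgroup.zpowers z := by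
  haveI := D.finQ
  haveI := Fact.mk D.prime
  rw [← D.center_eq]
  have h := Extraspecial.commutatorElement_mem_center D.hQ ⟨a, ha⟩ ⟨b, hb⟩
  exact ⟨(⁅(⟨a, ha⟩ : Q), (⟨b, hb⟩ : Q)⁆).2, Subgroup.mem_centralizer_iff.2 fun w hw =>
    congrArg Subtype.val (Subgroup.mem_center_iff.1 h ⟨w, hw⟩)⟩

theorem pth_mem {a : Ω} (ha : a ∈ Q) : a ^ p ∈ Subgroup.zpowers z := by
  haveI := D.finQ
  haveI := Fact.mk D.prime
  rw [← D.center_eq]
  have h := Extraspecial.pow_mem_center D.hQ (⟨a, ha⟩ : Q)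
  exact ⟨((⟨a, ha⟩ : Q) ^ p).2, Subgroup.mem_centralizer_iff.2 fun w hw =>
    congrArg Subtype.val (Subgroup.mem_center_iff.1 h ⟨w, hw⟩)⟩

theorem conj_eq_comm_mul {a b : Ω} : a * b * a⁻¹ = ⁅a, b⁆ * b := by
  rw [commutatorElement_def, inv_mul_cancel_right]

theorem comm_mul_left {a b c : Ω} (ha : a ∈ S) (hbc : ⁅b, c⁆ ∈ Subgroup.zpowers z) :
    ⁅a * b, c⁆ = ⁅b, c⁆ * ⁅a, c⁆ := by
  have h : ⁅a * b, c⁆ = a * ⁅b, c⁆ * a⁻¹ * ⁅a, c⁆ := by simp only [commutatorElement_def]; group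
  rw [h, D.zpow_comm ha hbc, mul_inv_cancel_right]

theorem comm_mul_right {a b c : Ω} (hb : b ∈ S) (hac : ⁅a, c⁆ ∈ Subgroup.zpowers z) :
    ⁅a, b * c⁆ = ⁅a, b⁆ * ⁅a, c⁆ := by
  have h : ⁅a, b * c⁆ = ⁅a, b⁆ * (b * ⁅a, c⁆ * b⁻¹) := by simp only [commutatorElement_def]; group
  rw [h, D.zpow_comm hb hac, mul_inv_cancel_right]

/-- A subgroup `H ⊇ Z` of `Q` and its centralizer in `Q`. -/
theorem card_centralizer_mul {H : Subgroup Ω} (hHQ : H ≤ Q) (hz : z ∈ H) :
    Nat.card H * Nat.card (Q ⊓ Subgroup.centralizer (H : Set Ω) : Subgroup Ω) = p * Nat.card Q := by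
  haveI := D.fin
  haveI := Fact.mk D.prime
  set A := H.subgroupOf S
  set B := Q.subgroupOf S
  set K := (Subgroup.zpowers z).subgroupOf S
  have hKc : Nat.card K = p := by
    rw [Nat.card_congr (Subgroup.subgroupOfEquivOfLe (Subgroup.zpowers_le.2 D.z_memS)).toEquiv, D.card_Z]
  have h := Extraspecial.relIndex_centralizer_eq A B K hKc
    (fun k hk g _ => Subtype.ext (D.zpow_comm g.2 hk).symm)
    (fun a ha b hb => D.comm_mem (hHQ ha) hb)
  have hA : A ⊓ Subgroup.centralizer (B : Set S) = K := by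
    ext a
    constructor
    · rintro ⟨ha, hac⟩
      refine D.center_eq.le ⟨hHQ ha, Subgroup.mem_centralizer_iff.2 fun w hw => ?_⟩
      exact congrArg Subtype.val (Subgroup.mem_centralizer_iff.1 hac ⟨w, D.hQS hw⟩ hw)
    · intro ha
      refine ⟨(Subgroup.zpowers_le.2 hz) ha, Subgroup.mem_centralizer_iff.2 fun w _ => Subtype.ext ?_⟩
      exact D.zpow_comm w.2 ha
  have hB : B ⊓ Subgroup.centralizer (A : Set S) =
      (Q ⊓ Subgroup.centralizer (H : Set Ω)).subgroupOf S := by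
    ext b
    simp only [Subgroup.mem_inf, Subgroup.mem_subgroupOf, Subgroup.mem_centralizer_iff]
    refine and_congr Iff.rfl ⟨fun h w hw => ?_, fun h w hw => Subtype.ext (h w hw)⟩
    exact congrArg Subtype.val (h ⟨w, D.hQS (hHQ hw)⟩ hw)
  rw [hA, hB] at h
  have h1 := Subgroup.card_mul_index (K.subgroupOf A)
  have h2 := Subgroup.card_mul_index (((Q ⊓ Subgroup.centralizer (H : Set Ω)).subgroupOf S).subgroupOf B)
  rw [Nat.card_congr (Subgroup.subgroupOfEquivOfLe (hA ▸ inf_le_left : K ≤ A)).toEquiv, hKc] at h1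
  rw [Nat.card_congr (Subgroup.subgroupOfEquivOfLe (hB ▸ inf_le_left : _ ≤ B)).toEquiv,
    Nat.card_congr (Subgroup.subgroupOfEquivOfLe (inf_le_left.trans D.hQS :
      Q ⊓ Subgroup.centralizer (H : Set Ω) ≤ S)).toEquiv] at h2
  rw [Subgroup.relIndex, Subgroup.relIndex] at h
  rw [← Nat.card_congr (Subgroup.subgroupOfEquivOfLe (hHQ.trans D.hQS)).toEquiv, ← h1,
    ← Nat.card_congr (Subgroup.subgroupOfEquivOfLe D.hQS).toEquiv, ← h2, h]
  ring

theorem card_abelian_sq {A : Subgroup Ω} (hAQ : A ≤ Q) (hA : ∀ a ∈ A, ∀ b ∈ A, a * b = b * a) :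
    Nat.card A * Nat.card A ≤ p * Nat.card Q := by
  haveI := D.finQ
  haveI := Fact.mk D.prime
  have h := Extraspecial.card_abelian_sq_le D.hQ (A := A.subgroupOf Q)
    (fun a ha b hb => Subtype.ext (hA a ha b hb))
  rwa [Nat.card_congr (Subgroup.subgroupOfEquivOfLe hAQ).toEquiv] at h

theorem exists_card : ∃ n : ℕ, 2 ≤ n ∧ Nat.card Q = p ^ (2 * n + 1) ∧ Nat.card S = p ^ (2 * n + 2) := by
  haveI := D.finQ
  haveI := Fact.mk D.prime
  obtain ⟨n, -, hn⟩ := Extraspecial.exists_card D.hQ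
  have hS : Nat.card S = p ^ (2 * n + 2) := by rw [D.card_S, hn]; ring
  refine ⟨n, ?_, hn, hS⟩
  have h := D.big
  rw [hS] at h
  have := (Nat.pow_le_pow_iff_right D.prime.one_lt).1 h
  omega

end Setup

/-- The exponent of `w ∈ ⟨z⟩` to base `z`. -/
noncomputable def zlog (p : ℕ) (z w : Ω) : ZMod p :=
  open Classical in if h : ∃ k : ℤ, z ^ k = w then (h.choose : ZMod p) else 0

/-- The commutator form. -/
noncomputable def omega (p : ℕ) (z a b : Ω) : ZMod p := zlog p z ⁅a, b⁆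

namespace Setup

variable (D : Setup F p Q z)
include D

theorem zpow_eq_iff {i j : ℤ} : z ^ i = z ^ j ↔ (i : ZMod p) = (j : ZMod p) := by
  rw [zpow_eq_zpow_iff_modEq, D.ordz, ← ZMod.intCast_eq_intCast_iff]

theorem zlog_zpow (k : ℤ) : zlog p z (z ^ k) = (k : ZMod p) := by
  have h : ∃ i : ℤ, z ^ i = z ^ k := ⟨k, rfl⟩
  rw [zlog, dif_pos h]
  exact D.zpow_eq_iff.1 h.choose_spec

theorem zlog_mul {v w : Ω} (hv : v ∈ Subgroup.zpowers z) (hw : w ∈ Subgroup.zpowers z) :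
    zlog p z (v * w) = zlog p z v + zlog p z w := by
  obtain ⟨i, rfl⟩ := Subgroup.mem_zpowers_iff.1 hv
  obtain ⟨j, rfl⟩ := Subgroup.mem_zpowers_iff.1 hw
  rw [← zpow_add, D.zlog_zpow, D.zlog_zpow, D.zlog_zpow, Int.cast_add]

theorem zlog_one : zlog p z (1 : Ω) = 0 := by
  simpa using D.zlog_zpow 0

theorem zlog_inv {v : Ω} (hv : v ∈ Subgroup.zpowers z) : zlog p z v⁻¹ = -zlog p z v := by
  obtain ⟨i, rfl⟩ := Subgroup.mem_zpowers_iff.1 hv
  rw [← zpow_neg, D.zlog_zpow, D.zlog_zpow, Int.cast_neg]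

theorem zlog_eq_zero {v : Ω} (hv : v ∈ Subgroup.zpowers z) : zlog p z v = 0 ↔ v = 1 := by
  obtain ⟨i, rfl⟩ := Subgroup.mem_zpowers_iff.1 hv
  rw [D.zlog_zpow, ← Int.cast_zero, ← D.zpow_eq_iff, zpow_zero]

theorem omega_mul_left {a b c : Ω} (ha : a ∈ Q) (hb : b ∈ Q) (hc : c ∈ Q) :
    omega p z (a * b) c = omega p z a c + omega p z b c := by
  rw [omega, omega, omega, D.comm_mul_left (D.hQS ha) (D.comm_mem hb hc),
    D.zlog_mul (D.comm_mem hb hc) (D.comm_mem ha hc), add_comm]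

theorem omega_mul_right {a b c : Ω} (ha : a ∈ Q) (hb : b ∈ Q) (hc : c ∈ Q) :
    omega p z a (b * c) = omega p z a b + omega p z a c := by
  rw [omega, omega, omega, D.comm_mul_right (D.hQS hb) (D.comm_mem ha hc),
    D.zlog_mul (D.comm_mem ha hb) (D.comm_mem ha hc)]

theorem omega_eq_zero {a b : Ω} (ha : a ∈ Q) (hb : b ∈ Q) : omega p z a b = 0 ↔ a * b = b * a :=
  (D.zlog_eq_zero (D.comm_mem ha hb)).trans commutatorElement_eq_one_iff_mul_comm

theorem omega_swap {a b : Ω} (ha : a ∈ Q) (hb : b ∈ Q) : omega p z b a = -omega p z a b := by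
  rw [omega, omega, ← commutatorElement_inv, D.zlog_inv (D.comm_mem ha hb)]

end Setup

end Cfsg.Agent.ExtraspecialIndexP
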