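import Cfsg.Agent.Lib.ExtraspecialIndexP.CaseTrans

/-
The tower `⟨x⟩ lev i` and the extension of the torus to `S`.
Main results (namespace `Cfsg.Agent.ExtraspecialIndexP`): `Setup.map_mem_Q`, `Trans.card_normalizer_R`,
`Trans.exists_torus_S` : for `t s ≡ 1` a map on `S` with `z ↦ z^t`, `x ↦ x^s`.
-/

set_option autoImplicit false

universe u

namespace Cfsg.Agent.ExtraspecialIndexP

open Cfsg Cfsg.FusionSystem Cfsg.Agent.Fusion Cfsg.Agent.FusionChain
open scoped commutatorElement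

variable {Ω : Type u} [Group Ω] {S : Subgroup Ω} {p : ℕ} {F : FusionSystem S} {Q : Subgroup Ω} {z : Ω}
variable {R : Subgroup Ω}

namespace Setup

variable (D : Setup F p Q z)
include D

theorem lev_one_congr {x : Ω} (hx : x ∈ S) (hxQ : x ∉ Q) {y : Ω} (hy : y ∈ S) (hyQ : y ∉ Q) :
    lev Q z y 1 = lev Q z x 1 := by
  ext q
  rw [D.mem_lev_succ hy 0, D.mem_lev_succ hx 0]
  exact and_congr_right fun hq => D.comm_lev_iff hx hxQ hy hyQ hq 0

theorem map_eq_zpow_int {P : Subgroup Ω} {f : Ω → Ω} (hf : IsMap F P f) {w : Ω} (hw : w ∈ P) (i : ℤ) :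
    f (w ^ i) = f w ^ i := by
  have _ := D
  obtain ⟨φ, -, hφ⟩ := hf
  rw [← hφ w hw, ← hφ _ (zpow_mem hw i), ← map_zpow]
  rfl

/-- A map on `S` fixing the line of `z` maps `Q` into itself, when the fixed space of `x` is small. -/
theorem map_mem_Q {x : Ω} (hx : x ∈ S) (hxQ : x ∉ Q) (hsmall : p * Nat.card (lev Q z x 1) < Nat.card Q)
    {f : Ω → Ω} (hf : IsMap F S f) (hfz : f z ∈ Subgroup.zpowers z) {q : Ω} (hq : q ∈ Q) : f q ∈ Q := by
  haveI := D.fin
  by_contra hn
  set A := img f Q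
  have hAS : A ≤ S := hf.img_le D.hQS fun a ha => hf.mem (D.hQS ha)
  have hle : A ⊓ Q ≤ lev Q z x 1 := by
    rintro w ⟨hwA, hwQ⟩
    obtain ⟨b, hb, rfl⟩ := (hf.mem_img_iff D.hQS).1 hwA
    rw [← D.lev_one_congr hx hxQ (hf.mem (D.hQS hq)) hn, D.mem_lev_succ (hf.mem (D.hQS hq)) 0]
    refine ⟨hwQ, ?_⟩
    have e : ⁅f q, f b⁆ = f ⁅q, b⁆ := by
      rw [commutatorElement_def, commutatorElement_def,
        hf.map_mul (mul_mem (mul_mem (D.hQS hq) (D.hQS hb)) (inv_mem (D.hQS hq))) (inv_mem (D.hQS hb)),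
        hf.map_conj (D.hQS hq) (D.hQS hb), hf.map_inv (D.hQS hb)]
    rw [e]
    exact D.map_mem_zpowers hf D.z_memS hfz (D.comm_mem hq hb)
  haveI := finite_of_le (S := S) (D.lev_le_S hx 1)
  have h := (D.card_le_mul_inf hAS).trans (Nat.mul_le_mul_left p (Subgroup.card_le_of_le hle))
  rw [hf.card_img D.hQS] at h
  omega

end Setup

/-- The group `lev i` with `x` adjoined. -/
def tower (Q : Subgroup Ω) (z x : Ω) (i : ℕ) : Subgroup Ω := lev Q z x i ⊔ Subgroup.zpowers x

namespace Trans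

variable {M : Mover F p Q z R} {x y : Ω} (T : Trans M x y)
include T

theorem x_pow : x ^ p = 1 := M.moved_pow T.moved

theorem mem_tower {i : ℕ} {s : Ω} :
    s ∈ tower Q z x i ↔ ∃ k : ℤ, ∃ q ∈ lev Q z x i, s = x ^ k * q := by
  have D := M.setup
  have hx := T.xS
  refine ⟨fun hs => ?_, fun ⟨k, q, hq, e⟩ =>
    e ▸ mul_mem (Subgroup.mem_sup_right (zpow_mem (Subgroup.mem_zpowers x) k)) (Subgroup.mem_sup_left hq)⟩
  have hn : Subgroup.zpowers x ≤ Subgroup.normalizer (lev Q z x i : Set Ω) := by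
    rw [Subgroup.zpowers_le, Subgroup.mem_normalizer_iff]
    refine fun w => ⟨fun hw => D.lev_conj hx i hx hw, fun hw => ?_⟩
    have := D.lev_conj hx i (inv_mem hx) hw
    simpa [mul_assoc] using this
  rw [tower, sup_comm, ← SetLike.mem_coe, Subgroup.coe_mul_of_left_le_normalizer_right _ _ hn] at hs
  obtain ⟨a, ha, q, hq, rfl⟩ := hs
  obtain ⟨k, rfl⟩ := Subgroup.mem_zpowers_iff.1 ha
  exact ⟨k, q, hq, rfl⟩

theorem tower_le (i : ℕ) : tower Q z x i ≤ S :=
  sup_le (M.setup.lev_le_S T.xS i) (Subgroup.zpowers_le.2 T.xS)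

theorem z_tower (i : ℕ) : z ∈ tower Q z x i := Subgroup.mem_sup_left (M.setup.z_mem_lev T.xS i)

theorem x_tower (i : ℕ) : x ∈ tower Q z x i := Subgroup.mem_sup_right (Subgroup.mem_zpowers x)

theorem tower_inf (i : ℕ) : tower Q z x i ⊓ Q = lev Q z x i := by
  refine le_antisymm ?_ (le_inf le_sup_left (M.setup.lev_le_Q T.xS i))
  rintro s ⟨hs, hsQ⟩
  obtain ⟨k, q, hq, rfl⟩ := T.mem_tower.1 hs
  have hk : x ^ k ∈ Q := by
    have := mul_mem hsQ (Q.inv_mem (M.setup.lev_le_Q T.xS i hq))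
    rwa [mul_inv_cancel_right] at this
  obtain ⟨d, rfl⟩ := (ZMod.intCast_zmod_eq_zero_iff_dvd k p).1
    (haveI := Fact.mk M.setup.prime; M.moved_zpow_mem_Q T.out T.moved hk)
  rw [zpow_mul, zpow_natCast, T.x_pow, one_zpow, one_mul]
  exact hq

theorem tower_zero : tower Q z x 0 = R := by
  refine le_antisymm (sup_le (Subgroup.zpowers_le.2 M.zR) (Subgroup.zpowers_le.2 T.xR)) fun r hr => ?_
  obtain ⟨k, v, hv, rfl⟩ := T.mem_R_iff.1 hr
  exact T.mem_tower.2 ⟨k, v, hv, rfl⟩

theorem card_tower {n : ℕ} (hn : Nat.card Q = p ^ (2 * n + 1)) {i : ℕ} (hi : i ≤ 2 * n) :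
    Nat.card (tower Q z x i) = p ^ (i + 2) := by
  have D := M.setup
  have hx := T.xS
  haveI := D.fin
  haveI := Fact.mk D.prime
  refine le_antisymm ((D.card_le_mul_inf (T.tower_le i)).trans_eq ?_) ?_
  · rw [T.tower_inf, T.card_lev hn i hi]; ring
  · have hlt : (lev Q z x i).subgroupOf S < (tower Q z x i).subgroupOf S := by
      refine lt_of_le_of_ne (fun w hw => Subgroup.mem_sup_left hw) fun e => T.xQ ?_
      have : (⟨x, hx⟩ : S) ∈ (lev Q z x i).subgroupOf S := e.symm ▸ T.x_tower i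
      exact D.lev_le_Q hx i this
    have := PGroup.mul_card_le_of_lt D.hS hlt
    rw [Nat.card_congr (Subgroup.subgroupOfEquivOfLe (D.lev_le_S hx i)).toEquiv, T.card_lev hn i hi,
      Nat.card_congr (Subgroup.subgroupOfEquivOfLe (T.tower_le i)).toEquiv] at this
    exact le_trans (le_of_eq (by ring)) this

theorem tower_top {n : ℕ} (hn : Nat.card Q = p ^ (2 * n + 1)) : tower Q z x (2 * n) = S := by
  refine le_antisymm (T.tower_le _) (M.setup.le_of_mem T.xS T.xQ ?_ (T.x_tower _))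
  exact le_sup_left.trans' (T.lev_top hn).ge

theorem card_normalizer_R : Nat.card (normalizerIn S R) ≤ p * (p * p) := by
  have D := M.setup
  haveI := D.fin
  haveI := finite_of_le (S := S) (D.lev_le_S T.xS 1)
  refine (D.card_le_mul_inf inf_le_left).trans (Nat.mul_le_mul_left p ?_)
  rw [← T.card_lev_one]
  exact Subgroup.card_le_of_le fun q hq => (D.mem_lev_succ T.xS 0).2 ⟨hq.2, T.norm_comm hq.2 hq.1⟩

/-- No map on a middle group of the tower sends an element outside `Q` into `Q`. -/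
theorem map_notMem {n : ℕ} (hn : Nat.card Q = p ^ (2 * n + 1)) (hn2 : 2 ≤ n) {i : ℕ} (hi1 : 1 ≤ i)
    (hi : i + 1 ≤ 2 * n) {f : Ω → Ω} (hf : IsMap F (tower Q z x i) f) {s : Ω} (hs : s ∈ tower Q z x i)
    (hsQ : s ∉ Q) : f s ∉ Q := by
  intro hfs
  have D := M.setup
  have hx := T.xS
  haveI := D.fin
  haveI := Fact.mk D.prime
  obtain ⟨k, q, hq, rfl⟩ := T.mem_tower.1 hs
  set x' := x ^ k
  have hx'R : x' ∈ R := zpow_mem T.xR k
  have hx'S : x' ∈ S := M.hRS hx'R
  have hx'Q : x' ∉ Q := fun h => hsQ (mul_mem h (D.lev_le_Q hx i hq))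
  have hqX : q ∈ im1 Q z x' := by
    rw [D.im1_eq_centralizer hx'S, D.lev_one_congr hx T.xQ hx'S hx'Q, ← D.im1_eq_centralizer hx,
      T.im1_eq_lev hn (by omega)]
    exact D.lev_mono hx (by omega) hq
  obtain ⟨b, hb, v, hv, he⟩ := (D.mem_im1 hx'S le_rfl).1 (inv_mem (D.im1_conj hx'S hx'Q hx'S hqX))
  have hse : b * x' * b⁻¹ = v * (x' * q) := by
    have e : (x' * q * x'⁻¹)⁻¹⁻¹ = (⁅x', b⁆ * v)⁻¹ := congrArg (·⁻¹) he
    rw [inv_inv] at e
    have e2 : x' * q = (⁅x', b⁆ * v)⁻¹ * x' := by rw [← e, inv_mul_cancel_right]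
    rw [e2, mul_inv_rev, ← mul_assoc v, ← mul_assoc v, mul_inv_cancel, one_mul, commutatorElement_def]
    group
  set N := tower Q z x i
  have hzN : z ∈ N := T.z_tower i
  have hvN : v ∈ N := Subgroup.zpowers_le.2 hzN hv
  have hN : Nat.card R < Nat.card N := by
    rw [T.card_R, T.card_tower hn (by omega : i ≤ 2 * n), ← pow_two]
    exact Nat.pow_lt_pow_right D.prime.one_lt (by omega)
  have hfz : f z ∈ Subgroup.zpowers z := M.big N f hf hzN hN
  have hfzne : f z ≠ 1 := fun e => D.z_ne (hf.inj hzN (one_mem _) (e.trans hf.map_one.symm))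
  have hbS := D.hQS hb
  let H : Subgroup Ω :=
    { carrier := {r | r ∈ R ∧ b * r * b⁻¹ ∈ N ∧ f (b * r * b⁻¹) ∈ Q}
      one_mem' := ⟨one_mem _, by simp, by
        have : b * 1 * b⁻¹ = 1 := by group
        rw [this, hf.map_one]; exact one_mem _⟩
      mul_mem' := fun {r r'} hr hr' => by
        have e : b * (r * r') * b⁻¹ = (b * r * b⁻¹) * (b * r' * b⁻¹) := by group
        refine ⟨mul_mem hr.1 hr'.1, ?_, ?_⟩
        · rw [e]; exact mul_mem hr.2.1 hr'.2.1
        · rw [e, hf.map_mul hr.2.1 hr'.2.1]; exact mul_mem hr.2.2 hr'.2.2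
      inv_mem' := fun {r} hr => by
        have e : b * r⁻¹ * b⁻¹ = (b * r * b⁻¹)⁻¹ := by group
        refine ⟨inv_mem hr.1, ?_, ?_⟩
        · rw [e]; exact inv_mem hr.2.1
        · rw [e, hf.map_inv hr.2.1]; exact inv_mem hr.2.2 }
  have hzb : b * z * b⁻¹ = z := by rw [D.z_comm hbS, mul_inv_cancel_right]
  have hzH : z ∈ H := ⟨M.zR, by rw [hzb]; exact hzN, by rw [hzb]; exact D.Z_le hfz⟩
  have hx'H : x' ∈ H := by
    refine ⟨hx'R, hse ▸ mul_mem hvN hs, ?_⟩
    rw [hse, hf.map_mul hvN hs]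
    exact mul_mem (D.Z_le (D.map_mem_zpowers hf hzN hfz hv)) hfs
  have hk0 : (k : ZMod p) ≠ 0 := fun h0 => hx'Q (by
    obtain ⟨d, rfl⟩ := (ZMod.intCast_zmod_eq_zero_iff_dvd k p).1 h0
    simp only [x', zpow_mul, zpow_natCast, T.x_pow, one_zpow, one_mem])
  have hxH : x ∈ H := by
    obtain ⟨j, hj⟩ := D.exists_mul_eq hk0 1
    have hxo : orderOf x = p := orderOf_eq_prime T.x_pow fun e => T.moved.2 (e ▸ one_mem _)
    have e : x' ^ j = x := by
      conv_rhs => rw [← zpow_one x]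
      rw [← zpow_natCast x', ← zpow_mul, zpow_eq_zpow_iff_modEq, hxo, ← ZMod.intCast_eq_intCast_iff,
        mul_comm, hj]
    exact e ▸ pow_mem hx'H j
  have hRH : ∀ r ∈ R, r ∈ H := fun r hr => by
    obtain ⟨l, w, hw, rfl⟩ := T.mem_R_iff.1 hr
    exact mul_mem (zpow_mem hxH l) (Subgroup.zpowers_le.2 hzH hw)
  have hφ : IsMap F R (fun r => f (b * r * b⁻¹)) := (IsMap.conj M.hRS hbS).comp hf fun r hr => (hRH r hr).2.1
  set P := img (fun r => f (b * r * b⁻¹)) R
  have hPQ : P ≤ Q := hφ.img_le le_rfl fun r hr => (hRH r hr).2.2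
  have hPS : P ≤ S := hPQ.trans D.hQS
  have hzP : Subgroup.zpowers z ≤ P := by
    haveI : Finite (Subgroup.zpowers z) := finite_of_le (Subgroup.zpowers_le.2 D.z_memS)
    have hm : f z ∈ P := by
      have := hφ.mem_img (Q := R) M.zR
      simpa [hzb] using this
    have heq : Subgroup.zpowers (f z) = Subgroup.zpowers z := by
      refine Subgroup.eq_of_le_of_card_ge (Subgroup.zpowers_le.2 hfz) ?_
      rw [D.card_Z, Nat.card_zpowers, orderOf_eq_prime (p := p) ?_ hfzne]
      rw [← D.map_eq_zpow hf hzN, D.z_pow, hf.map_one]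
    exact heq ▸ Subgroup.zpowers_le.2 hm
  have hQN : Q ≤ normalizerIn S P := by
    intro c hc
    haveI := finite_of_le (S := S) hPS
    refine mem_normalizerIn_of_conj (D.hQS hc) fun r hr => ?_
    have e : c * r * c⁻¹ = ⁅c, r⁆ * r := by rw [commutatorElement_def, inv_mul_cancel_right]
    rw [e]
    exact mul_mem (hzP (D.comm_mem hc (hPQ hr))) hr
  obtain ⟨g, hg, -, hgN⟩ := exists_normalizer_map D.hS
    (fullyAutomized_of_fullyNormalized D.hS D.hF M.fn) (receptive_of_fullyNormalized D.hS D.hF M.fn)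
    (isConj_symm (isConj_iff.2 ⟨_, hφ.isIso⟩))
  haveI := finite_of_le (S := S) (P := normalizerIn S R) inf_le_left
  haveI := finite_of_le (S := S) (P := normalizerIn S P) inf_le_left
  have h1 : Nat.card (normalizerIn S P) ≤ Nat.card (normalizerIn S R) := by
    rw [← hg.card_img le_rfl]
    exact Subgroup.card_le_of_le (hg.img_le le_rfl hgN)
  have h2 := ((Subgroup.card_le_of_le hQN).trans h1).trans T.card_normalizer_R
  rw [hn] at h2
  have h3 : p ^ (2 * n + 1) ≤ p ^ 3 := h2.trans_eq (by ring)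
  rw [Nat.pow_le_pow_iff_right D.prime.one_lt] at h3
  omega

theorem tower_fullyNormalized {n : ℕ} (hn : Nat.card Q = p ^ (2 * n + 1)) (hn2 : 2 ≤ n) {i : ℕ}
    (hi1 : 1 ≤ i) (hi : i + 1 ≤ 2 * n) :
    F.IsFullyNormalized (tower Q z x i) ∧ tower Q z x (i + 1) ≤ normalizerIn S (tower Q z x i) := by
  have D := M.setup
  have hx := T.xS
  haveI := D.fin
  haveI := Fact.mk D.prime
  set N := tower Q z x i
  haveI := finite_of_le (S := S) (T.tower_le i)
  have hup : tower Q z x (i + 1) ≤ normalizerIn S N := by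
    refine sup_le (fun q hq => ?_) (Subgroup.zpowers_le.2 (le_normalizerIn (T.tower_le i) (T.x_tower i)))
    have hqQ := D.lev_le_Q hx _ hq
    refine mem_normalizerIn_of_conj (D.hQS hqQ) fun w hw => ?_
    obtain ⟨k, v, hv, rfl⟩ := T.mem_tower.1 hw
    have e : q * (x ^ k * v) * q⁻¹ = (q * x * q⁻¹) ^ k * (q * v * q⁻¹) := by rw [conj_zpow]; group
    have e2 : q * x * q⁻¹ = ⁅x, q⁆⁻¹ * x := by simp only [commutatorElement_def]; group
    rw [e]
    refine mul_mem (zpow_mem ?_ k) (Subgroup.mem_sup_left (D.lev_conj hx i (D.hQS hqQ) hv))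
    rw [e2]
    exact mul_mem (Subgroup.mem_sup_left (inv_mem ((D.mem_lev_succ hx i).1 hq).2)) (T.x_tower i)
  refine ⟨⟨T.tower_le i, fun P hP => ?_⟩, hup⟩
  obtain ⟨f, hf⟩ := isConj_iff.1 hP
  have hPS := hf.le_right
  haveI := finite_of_le (S := S) hPS
  set y' := f x
  have hy'P : y' ∈ P := hf.mem (T.x_tower i)
  have hy'S : y' ∈ S := hPS hy'P
  have hy'Q : y' ∉ Q := T.map_notMem hn hn2 hi1 hi hf.1 (T.x_tower i) T.xQ
  have hN : Nat.card R < Nat.card N := by
    rw [T.card_R, T.card_tower hn (by omega : i ≤ 2 * n), ← pow_two]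
    exact Nat.pow_lt_pow_right D.prime.one_lt (by omega)
  have hfz := M.big N f hf.1 (T.z_tower i) hN
  have hzP : Subgroup.zpowers z ≤ P := by
    haveI : Finite (Subgroup.zpowers z) := finite_of_le (Subgroup.zpowers_le.2 D.z_memS)
    have hne : f z ≠ 1 := fun e => D.z_ne (hf.1.inj (T.z_tower i) (one_mem _) (e.trans hf.1.map_one.symm))
    have heq : Subgroup.zpowers (f z) = Subgroup.zpowers z := by
      refine Subgroup.eq_of_le_of_card_ge (Subgroup.zpowers_le.2 hfz) ?_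
      rw [D.card_Z, Nat.card_zpowers, orderOf_eq_prime (p := p) ?_ hne]
      rw [← D.map_eq_zpow hf.1 (T.z_tower i), D.z_pow, hf.1.map_one]
    exact heq ▸ Subgroup.zpowers_le.2 (hf.mem (T.z_tower i))
  have hcP : Nat.card P = p ^ (i + 2) := by rw [hf.card_eq, T.card_tower hn (by omega)]
  have hnorm : ∀ a ∈ P ⊓ Q, x * a * x⁻¹ ∈ P ⊓ Q := by
    intro a ha
    let G : Subgroup Ω := S ⊓ Subgroup.normalizer ((P ⊓ Q : Subgroup Ω) : Set Ω)
    haveI := finite_of_le (S := S) (P := P ⊓ Q) (inf_le_left.trans hPS)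
    have hQG : Q ≤ G := fun c hc => by
      refine mem_normalizerIn_of_conj (D.hQS hc) fun r hr => ⟨?_, D.conj_Q (D.hQS hc) hr.2⟩
      have e : c * r * c⁻¹ = ⁅c, r⁆ * r := by rw [commutatorElement_def, inv_mul_cancel_right]
      rw [e]
      exact mul_mem (hzP (D.comm_mem hc hr.2)) hr.1
    have hyG : y' ∈ G := mem_normalizerIn_of_conj hy'S fun r hr =>
      ⟨mul_mem (mul_mem hy'P hr.1) (P.inv_mem hy'P), D.conj_Q hy'S hr.2⟩
    exact normalizerIn_conj (D.le_of_mem hy'S hy'Q hQG hyG hx) ha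
  have hcard : Nat.card (P ⊓ Q : Subgroup Ω) = p ^ (i + 1) := by
    refine le_antisymm ?_ ?_
    · have hlt : (P ⊓ Q).subgroupOf S < P.subgroupOf S := by
        refine lt_of_le_of_ne (fun w hw => hw.1) fun e => hy'Q ?_
        have : (⟨y', hy'S⟩ : S) ∈ (P ⊓ Q).subgroupOf S := e.symm ▸ hy'P
        exact this.2
      have := PGroup.mul_card_le_of_lt D.hS hlt
      rw [Nat.card_congr (Subgroup.subgroupOfEquivOfLe (inf_le_left.trans hPS : P ⊓ Q ≤ S)).toEquiv,
        Nat.card_congr (Subgroup.subgroupOfEquivOfLe hPS).toEquiv, hcP] at this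
      exact Nat.le_of_mul_le_mul_left (this.trans_eq (by ring)) D.prime.pos
    · have := D.card_le_mul_inf hPS
      rw [hcP] at this
      exact Nat.le_of_mul_le_mul_left ((le_of_eq (by ring)).trans this) D.prime.pos
  have hPQ : P ⊓ Q = lev Q z x i :=
    T.eq_lev inf_le_right (le_inf hzP D.Z_le) hnorm hn (by omega) hcard
  have hle : normalizerIn S P ⊓ Q ≤ lev Q z x (i + 1) := by
    rintro q ⟨hqN, hqQ⟩
    refine (D.mem_lev_succ hx i).2 ⟨hqQ, (D.comm_lev_iff hx T.xQ hy'S hy'Q hqQ i).1 ?_⟩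
    rw [← hPQ]
    refine ⟨?_, D.comm_S_mem hy'S (D.hQS hqQ)⟩
    have e : ⁅y', q⁆ = y' * (q * y'⁻¹ * q⁻¹) := by simp only [commutatorElement_def]; group
    rw [e]
    exact mul_mem hy'P (normalizerIn_conj hqN (inv_mem hy'P))
  haveI := finite_of_le (S := S) (D.lev_le_S hx (i + 1))
  haveI := finite_of_le (S := S) (P := normalizerIn S N) inf_le_left
  calc Nat.card (normalizerIn S P) ≤ p * Nat.card (normalizerIn S P ⊓ Q : Subgroup Ω) :=
        D.card_le_mul_inf inf_le_left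
    _ ≤ p * p ^ (i + 2) := Nat.mul_le_mul_left p (by
        rw [← T.card_lev hn (i + 1) (by omega)]; exact Subgroup.card_le_of_le hle)
    _ = Nat.card (tower Q z x (i + 1)) := by rw [T.card_tower hn (by omega)]; ring
    _ ≤ _ := Subgroup.card_le_of_le hup

theorem tower_lev_invariant {n : ℕ} (hn : Nat.card Q = p ^ (2 * n + 1)) (hn2 : 2 ≤ n) {i : ℕ}
    (hi1 : 1 ≤ i) (hi : i + 1 ≤ 2 * n) {α : MulAut (tower Q z x i)} (hα : α ∈ F.autGroup (tower Q z x i))
    {j : ℕ} (hj : j ≤ i) {q : Ω} (hq : q ∈ lev Q z x j) : autFn α q ∈ lev Q z x j := by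
  have D := M.setup
  have hx := T.xS
  haveI := D.fin
  haveI := Fact.mk D.prime
  have hN := T.tower_le i
  have hf := (mem_autGroup_iff hN).1 hα
  have hQin : ∀ a ∈ lev Q z x i, autFn α a ∈ lev Q z x i := by
    intro a ha
    rw [← T.tower_inf i]
    refine ⟨autFn_mem α (Subgroup.mem_sup_left ha), ?_⟩
    by_contra hout
    have h := T.map_notMem hn hn2 hi1 hi ((mem_autGroup_iff hN).1 (inv_mem hα))
      (autFn_mem α (Subgroup.mem_sup_left ha)) hout
    refine h ?_
    rw [autFn_apply _ (autFn_mem α (Subgroup.mem_sup_left ha))]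
    simp only [autFn_apply α (Subgroup.mem_sup_left ha : a ∈ tower Q z x i), Subtype.coe_eta,
      MulAut.inv_apply_self]
    exact D.lev_le_Q hx i ha
  have hjN : lev Q z x j ≤ tower Q z x i := (D.lev_mono hx hj).trans le_sup_left
  have hA : img (autFn α) (lev Q z x j) = lev Q z x j := by
    have hzN := T.z_tower i
    refine T.eq_lev ((hf.img_le hjN fun a ha => hQin a (D.lev_mono hx hj ha)).trans (D.lev_le_Q hx i))
      ?_ ?_ hn (by omega) (by rw [hf.card_img hjN, T.card_lev hn j (by omega)])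
    · haveI : Finite (Subgroup.zpowers z) := finite_of_le (Subgroup.zpowers_le.2 D.z_memS)
      have hN' : Nat.card R < Nat.card (tower Q z x i) := by
        rw [T.card_R, T.card_tower hn (by omega : i ≤ 2 * n), ← pow_two]
        exact Nat.pow_lt_pow_right D.prime.one_lt (by omega)
      have hfz := M.big _ _ hf hzN hN'
      have hne : autFn α z ≠ 1 := fun e => D.z_ne (hf.inj hzN (one_mem _) (e.trans hf.map_one.symm))
      have heq : Subgroup.zpowers (autFn α z) = Subgroup.zpowers z := by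
        refine Subgroup.eq_of_le_of_card_ge (Subgroup.zpowers_le.2 hfz) ?_
        rw [D.card_Z, Nat.card_zpowers, orderOf_eq_prime (p := p) ?_ hne]
        rw [← D.map_eq_zpow hf hzN, D.z_pow, hf.map_one]
      exact heq ▸ Subgroup.zpowers_le.2 (hf.mem_img (D.z_mem_lev hx j))
    · intro b hb
      obtain ⟨a, ha, rfl⟩ := (hf.mem_img_iff hjN).1 hb
      obtain ⟨u, hu, hux⟩ := (isIso_autFn hN hα).exists_eq (T.x_tower i)
      have := hf.mem_img (Q := lev Q z x j) (D.lev_conj hx j (hN hu) ha)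
      rw [hf.map_conj hu (hjN ha), hux] at this
      exact this
  rw [← hA]
  exact hf.mem_img hq

/-- Every automorphism of a middle group extends one step. -/
theorem tower_extend {n : ℕ} (hn : Nat.card Q = p ^ (2 * n + 1)) (hn2 : 2 ≤ n) {i : ℕ}
    (hi1 : 1 ≤ i) (hi : i + 1 ≤ 2 * n) {α : MulAut (tower Q z x i)} (hα : α ∈ F.autGroup (tower Q z x i)) :
    ∃ f, IsMap F (tower Q z x (i + 1)) f ∧ (∀ w ∈ tower Q z x i, f w = autFn α w) ∧
      ∀ w ∈ tower Q z x (i + 1), f w ∈ tower Q z x (i + 1) := by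
  have D := M.setup
  have hx := T.xS
  haveI := D.fin
  haveI := Fact.mk D.prime
  set N := tower Q z x i
  obtain ⟨hfn, hup⟩ := T.tower_fullyNormalized hn hn2 hi1 hi
  haveI := finite_of_le (S := S) (T.tower_le i)
  let U : ℕ → Subgroup N := fun j => if j = 0 then ⊥ else if j ≤ i + 1 then (lev Q z x (j - 1)).subgroupOf N else ⊤
  have hU1 : ∀ j, 1 ≤ j → j ≤ i + 1 → U j = (lev Q z x (j - 1)).subgroupOf N := fun j h1 h2 => by
    simp only [U, if_neg (by omega : ¬ j = 0), if_pos h2]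
  have hUtop : ∀ j, i + 2 ≤ j → U j = ⊤ := fun j h => by
    simp only [U, if_neg (by omega : ¬ j = 0), if_neg (by omega : ¬ j ≤ i + 1)]
  have hT : autInducedBy S N ≤ pCoreAut F p N := by
    intro a ha
    obtain ⟨s, hs, hsa⟩ := mem_autInducedBy_iff.1 ha
    refine mem_pCoreAut_of_chain D.hS (T.tower_le i) (i + 2) U rfl (hUtop _ le_rfl) ?_ ?_
      (autInducedBy_le_autGroup F le_rfl (T.tower_le i) ha) ?_
    · intro j hj
      rcases j with _ | j
      · exact bot_le
      rcases (le_or_gt (j + 2) (i + 1)) with h | h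
      · rw [hU1 _ (by omega) (by omega), hU1 _ (by omega) (by omega)]
        intro w hw
        rw [Subgroup.mem_subgroupOf] at hw ⊢
        exact D.lev_mono hx (by omega : j + 1 - 1 ≤ j + 1 + 1 - 1) hw
      · rw [hUtop (j + 1 + 1) (by omega)]; exact le_top
    · intro b hb j _ w hw
      rcases j with _ | j
      · rw [show U 0 = ⊥ from rfl, Subgroup.mem_bot] at hw ⊢
        rw [hw, map_one]
      rcases (le_or_gt (j + 1) (i + 1)) with h | h
      · rw [hU1 _ (by omega) h] at hw ⊢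
        have := T.tower_lev_invariant hn hn2 hi1 hi hb (j := j) (by omega) hw
        change autFn b (w : Ω) ∈ _ at this
        rw [autFn_apply b w.2] at this
        exact this
      · rw [hUtop _ (by omega)]; trivial
    · intro j hj w hw
      have hval : ((w⁻¹ * a w : N) : Ω) = ⁅(w : Ω)⁻¹, s⁆ := by
        rw [Subgroup.coe_mul, Subgroup.coe_inv, hsa, commutatorElement_def]; group
      rcases j with _ | j
      · rw [hU1 1 le_rfl (by omega)] at hw
        rw [show U 0 = ⊥ from rfl, Subgroup.mem_bot]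
        refine Subtype.ext (hval.trans ?_)
        exact commutatorElement_eq_one_iff_mul_comm.2 (D.zpow_comm hs (inv_mem hw)).symm
      rw [hU1 _ (by omega) (by omega), Subgroup.mem_subgroupOf, hval]
      rcases (le_or_gt (j + 1 + 1) (i + 1)) with h | h
      · rw [hU1 _ (by omega) h, Subgroup.mem_subgroupOf] at hw
        obtain ⟨l, q, hq, rfl⟩ := D.exists_decomp hx T.xQ hs
        have hw' : (w : Ω)⁻¹ ∈ lev Q z x (j + 1) := inv_mem hw
        have hQ' := D.lev_le_Q hx _ hw'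
        rw [← commutatorElement_inv]
        refine inv_mem ?_
        by_cases hs0 : x ^ l * q ∈ Q
        · exact D.Z_le_lev hx _ (D.comm_mem hs0 hQ')
        · exact (D.comm_lev_iff hx T.xQ hs hs0 hQ' j).2 ((D.mem_lev_succ hx j).1 hw').2
      · have hji : j = i := by omega
        subst hji
        show _ ∈ lev Q z x (j + 1 - 1)
        rw [Nat.add_sub_cancel, ← T.tower_inf j]
        exact ⟨hval ▸ (w⁻¹ * a w).2, D.comm_S_mem (inv_mem (T.tower_le j w.2)) hs⟩
  have hA := fullyAutomized_of_fullyNormalized D.hS D.hF hfn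
  have hTeq : pCoreAut F p N = autInducedBy S N := le_antisymm (pCoreAut_le_autInducedBy hA) hT
  have hR' := receptive_of_fullyNormalized D.hS D.hF hfn
  obtain ⟨f, hf, hfα⟩ := exists_extension hR' hα hup fun g hg => by
    rw [← hTeq]
    exact conj_mem_pCoreAut hα (hT (range_normConj S N ▸ ⟨_, rfl⟩))
  have hsup : N ⊔ tower Q z x (i + 1) = tower Q z x (i + 1) :=
    sup_eq_right.2 (sup_le_sup_right (D.lev_le_succ hx i) _)
  rw [hsup] at hf
  refine ⟨f, hf, hfα, fun w hw => ?_⟩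
  -- the image lies in the normalizer, which is the next group
  haveI := finite_of_le (S := S) (P := normalizerIn S N) inf_le_left
  have heq : tower Q z x (i + 1) = normalizerIn S N := by
    refine eq_of_le_of_card inf_le_left hup ?_
    calc Nat.card (normalizerIn S N) ≤ p * Nat.card (normalizerIn S N ⊓ Q : Subgroup Ω) :=
          D.card_le_mul_inf inf_le_left
      _ ≤ p * p ^ (i + 2) := Nat.mul_le_mul_left p (by
          haveI := finite_of_le (S := S) (D.lev_le_S hx (i + 1))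
          rw [← T.card_lev hn (i + 1) (by omega)]
          refine Subgroup.card_le_of_le ?_
          rintro q ⟨hqN, hqQ⟩
          refine (D.mem_lev_succ hx i).2 ⟨hqQ, ?_⟩
          rw [← T.tower_inf i]
          refine ⟨?_, D.comm_S_mem hx (D.hQS hqQ)⟩
          have e : ⁅x, q⁆ = x * (q * x⁻¹ * q⁻¹) := by simp only [commutatorElement_def]; group
          rw [e]
          exact mul_mem (T.x_tower i) (normalizerIn_conj hqN (inv_mem (T.x_tower i))))
      _ = _ := by rw [T.card_tower hn (by omega)]; ring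
  have himg : img f N = N := by
    rw [img_congr hfα]
    exact (isIso_autFn (T.tower_le i) hα).2
  rw [heq]
  exact map_normalizerIn hf (le_sup_left.trans_eq hsup) himg hw (heq ▸ hw)

/-- The transvection induced by `y` and its conjugate. -/
theorem exists_transvections :
    ∃ a ∈ F.autGroup R, ∃ b ∈ F.autGroup R, ∃ k m : ℤ, (k : ZMod p) ≠ 0 ∧ (m : ZMod p) ≠ 0 ∧
      a ∈ autInducedBy S R ∧ autFn a z = z ∧ autFn a x = x * z ^ k ∧
      autFn b x = x ∧ autFn b z = z * x ^ m := by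
  have D := M.setup
  haveI := Fact.mk D.prime
  set a := normConj S R ⟨y, T.y_norm⟩
  have ha : a ∈ autInducedBy S R := M.normConj_mem T.y_norm
  have haL : a ∈ F.autGroup R := autInducedBy_le_autGroup F le_rfl M.hRS ha
  obtain ⟨k, hk⟩ := Subgroup.mem_zpowers_iff.1 (T.y_comm T.xS)
  have hax : autFn a x = x * z ^ k := by
    rw [autFn_apply a T.xR]
    show y * x * y⁻¹ = x * z ^ k
    rw [D.zpow_comm T.xS (⟨k, rfl⟩ : z ^ k ∈ Subgroup.zpowers z), hk, commutatorElement_def, inv_mul_cancel_right]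
  have hk0 : (k : ZMod p) ≠ 0 := fun h0 => T.ne (by
    rw [← commutatorElement_inv, inv_eq_one, ← hk, ← zpow_zero z]
    exact D.zpow_eq_iff.2 (by simpa using h0))
  obtain ⟨⟨g, hg, hgz⟩, hxZ⟩ := T.moved
  set b := g * a * g⁻¹
  have hgzR : g ⟨z, M.zR⟩ = ⟨x, T.xR⟩ := Subtype.ext (by rw [← autFn_apply g M.zR]; exact hgz)
  have haz : a ⟨z, M.zR⟩ = ⟨z, M.zR⟩ := Subtype.ext ((autFn_apply a M.zR).symm.trans (M.inducedBy_fix ha))
  have hbx : b ⟨x, T.xR⟩ = ⟨x, T.xR⟩ := by
    show g (a (g⁻¹ _)) = _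
    rw [← hgzR, MulAut.inv_apply_self, haz]
  obtain ⟨l, v, hv, hw⟩ := T.mem_R_iff.1 (autFn_mem g⁻¹ M.zR)
  obtain ⟨j, hj⟩ := Subgroup.mem_zpowers_iff.1 hv
  have hw' : g⁻¹ ⟨z, M.zR⟩ = (⟨x, T.xR⟩ : R) ^ l * (⟨z, M.zR⟩ : R) ^ j := Subtype.ext (by
    rw [← autFn_apply g⁻¹ M.zR, hw, Subgroup.coe_mul, Subgroup.coe_zpow, Subgroup.coe_zpow, hj])
  have hbz : b ⟨z, M.zR⟩ = ⟨z, M.zR⟩ * (⟨x, T.xR⟩ : R) ^ (k * l) := by
    show g (a (g⁻¹ _)) = _
    have hax' : a ⟨x, T.xR⟩ = ⟨x, T.xR⟩ * (⟨z, M.zR⟩ : R) ^ k := Subtype.ext (by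
      rw [← autFn_apply a T.xR, hax, Subgroup.coe_mul, Subgroup.coe_zpow])
    have hab : ∀ r r' : R, r * r' = r' * r := fun r r' => Subtype.ext (M.out_abelian T.out r r.2 r' r'.2)
    rw [hw', map_mul a, map_zpow a, map_zpow a, hax', haz,
      (show Commute (⟨x, T.xR⟩ : R) ((⟨z, M.zR⟩ : R) ^ k) from hab _ _).mul_zpow, ← zpow_mul,
      mul_assoc, hab ((⟨z, M.zR⟩ : R) ^ (k * l)), ← mul_assoc, ← hw', map_mul g, map_zpow g, hgzR,
      MulAut.apply_inv_self]
  refine ⟨a, haL, b, mul_mem (mul_mem hg haL) (inv_mem hg), k, k * l, hk0, ?_, ha, M.inducedBy_fix ha, hax,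
    by rw [autFn_apply b T.xR, hbx], by
      rw [autFn_apply b M.zR, hbz, Subgroup.coe_mul, Subgroup.coe_zpow]⟩
  intro h0
  rw [Int.cast_mul, mul_eq_zero] at h0
  have hl0 := h0.resolve_left hk0
  obtain ⟨d, rfl⟩ := (ZMod.intCast_zmod_eq_zero_iff_dvd l p).1 hl0
  rw [zpow_mul, zpow_natCast, T.x_pow, one_zpow, one_mul] at hw
  refine hxZ ?_
  have hgs : g⁻¹ ∈ M.stab := ⟨inv_mem hg, hw ▸ hv⟩
  rw [← hgz]
  exact (inv_inv g ▸ inv_mem hgs : g ∈ M.stab).2

/-- The torus on `S`. -/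
theorem exists_torus_S {n : ℕ} (hn : Nat.card Q = p ^ (2 * n + 1)) (hn2 : 2 ≤ n) (t s : ℕ)
    (hts : (t : ZMod p) * (s : ZMod p) = 1) :
    ∃ f, IsMap F S f ∧ f z = z ^ t ∧ f x = x ^ s := by
  have D := M.setup
  have hx := T.xS
  haveI := D.fin
  haveI := Fact.mk D.prime
  haveI := M.finR
  obtain ⟨a, haL, b, hbL, k, m, hk, hm, haI, haz, hax, hbx, hbz⟩ := T.exists_transvections
  set zR : R := ⟨z, M.zR⟩
  set xR : R := ⟨x, T.xR⟩
  have haz' : a zR = zR := Subtype.ext ((autFn_apply a M.zR).symm.trans haz)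
  have hax' : a xR = xR * zR ^ k := Subtype.ext ((autFn_apply a T.xR).symm.trans hax)
  have hbx' : b xR = xR := Subtype.ext ((autFn_apply b T.xR).symm.trans hbx)
  have hbz' : b zR = zR * xR ^ m := Subtype.ext ((autFn_apply b M.zR).symm.trans hbz)
  have hab : ∀ r r' : R, r * r' = r' * r := fun r r' => Subtype.ext (M.out_abelian T.out r r.2 r' r'.2)
  have hxo : orderOf xR = p := orderOf_eq_prime (Subtype.ext T.x_pow) fun e =>
    T.moved.2 (by rw [show x = 1 from congrArg Subtype.val e]; exact one_mem _)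
  have hzo : orderOf zR = p := orderOf_eq_prime (Subtype.ext D.z_pow) fun e => D.z_ne (congrArg Subtype.val e)
  have hzc : ∀ i j : ℤ, (i : ZMod p) = j → zR ^ i = zR ^ j := fun i j h => by
    rw [zpow_eq_zpow_iff_modEq, hzo, ← ZMod.intCast_eq_intCast_iff]; exact h
  have hxc : ∀ i j : ℤ, (i : ZMod p) = j → xR ^ i = xR ^ j := fun i j h => by
    rw [zpow_eq_zpow_iff_modEq, hxo, ← ZMod.intCast_eq_intCast_iff]; exact h
  -- the Weyl elements
  have hw : ∀ c d : ℤ, (c : ZMod p) * d = 1 → ∃ w ∈ F.autGroup R, w xR = zR ^ (-c) ∧ w zR = xR ^ d := by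
    intro c d hcd
    obtain ⟨i, hi⟩ := D.exists_mul_eq hk (-c)
    obtain ⟨j, hj⟩ := D.exists_mul_eq hm d
    have hA : (a ^ i) xR = xR * zR ^ (-c) := by
      rw [transvection_pow (by rw [map_zpow, haz']) hax' i, ← zpow_natCast, ← zpow_mul]
      rw [hzc (k * i) (-c) (by rw [mul_comm, hi])]
    have hB : (b ^ j) zR = zR * xR ^ d := by
      rw [transvection_pow (by rw [map_zpow, hbx']) hbz' j, ← zpow_natCast, ← zpow_mul]
      rw [hxc (m * j) d (by rw [mul_comm, hj])]
    have hA1 : (a ^ i) zR = zR := by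
      clear hi hA
      induction i with
      | zero => rfl
      | succ i ih => rw [pow_succ, MulAut.mul_apply, haz']; exact ih
    have hB1 : (b ^ j) xR = xR := by
      clear hj hB
      induction j with
      | zero => rfl
      | succ j ih => rw [pow_succ, MulAut.mul_apply, hbx']; exact ih
    have hU : (b ^ j) (zR ^ (-c)) = zR ^ (-c) * xR⁻¹ * (1 : R) ^ (0 : ℤ) := by
      rw [map_zpow, hB, (show Commute zR (xR ^ d) from hab _ _).mul_zpow, ← zpow_mul,
        hxc (d * -c) (-1) (by push_cast; linear_combination -hcd), zpow_neg_one, zpow_zero, mul_one]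
    obtain ⟨e1, e2, -⟩ := weyl hab (A := a ^ i) (U := b ^ j) (a := zR ^ (-c)) (b := xR) (v := 1) (l := 0)
      (i := 0) (by rw [map_zpow, hA1]) (map_one _) (by rw [hA, zpow_zero, mul_one]) hB1 (map_one _) hU
    refine ⟨a ^ i * b ^ j * a ^ i, mul_mem (mul_mem (pow_mem haL i) (pow_mem hbL j)) (pow_mem haL i),
      by rw [e2, one_zpow, mul_one], ?_⟩
    rw [one_zpow, mul_one, map_zpow] at e1
    have e3 := congrArg (· ^ (-d)) e1
    simp only [← zpow_mul] at e3
    rw [inv_zpow', neg_neg, ← map_zpow, hzc (-c * -d) 1 (by push_cast; linear_combination hcd),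
      zpow_one] at e3
    exact e3
  obtain ⟨w1, hw1L, hw1x, hw1z⟩ := hw 1 1 (by simp)
  obtain ⟨w2, hw2L, hw2x, hw2z⟩ := hw t s (by simpa using hts)
  set β := w2 * w1⁻¹
  have hβL : β ∈ F.autGroup R := mul_mem hw2L (inv_mem hw1L)
  have hβx : β xR = xR ^ (s : ℤ) := by
    show w2 (w1⁻¹ xR) = _
    rw [show w1⁻¹ xR = zR from w1.injective (by rw [MulAut.apply_inv_self, hw1z, zpow_one]), hw2z]
  have hβz : β zR = zR ^ (t : ℤ) := by
    show w2 (w1⁻¹ zR) = _
    rw [show w1⁻¹ zR = xR⁻¹ from w1.injective (by rw [MulAut.apply_inv_self, map_inv, hw1x, zpow_neg_one,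
      inv_inv]), map_inv, hw2x, zpow_neg, inv_inv]
  -- the first step
  have hext : ∀ σ τ : MulAut R, σ xR = τ xR → σ zR = τ zR → σ = τ := by
    intro σ τ h1 h2
    refine MulEquiv.ext fun r => ?_
    obtain ⟨l, v, hv, e⟩ := T.mem_R_iff.1 r.2
    obtain ⟨j, rfl⟩ := Subgroup.mem_zpowers_iff.1 hv
    have e' : r = xR ^ l * zR ^ j := Subtype.ext (by rw [e, Subgroup.coe_mul, Subgroup.coe_zpow, Subgroup.coe_zpow])
    rw [e', map_mul, map_mul, map_zpow, map_zpow, map_zpow, map_zpow, h1, h2]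
  have hconj : ∀ σ ∈ autInducedBy S R, β * σ * β⁻¹ ∈ autInducedBy S R := by
    intro σ hσ
    obtain ⟨g, hg, hgσ⟩ := mem_autInducedBy_iff.1 hσ
    have hσz : σ zR = zR := Subtype.ext ((autFn_apply σ M.zR).symm.trans (M.inducedBy_fix hσ))
    have hσx : ∃ j : ℤ, σ xR = xR * zR ^ j := by
      have hgN : g ∈ normalizerIn S R := mem_normalizerIn_of_aut hg hgσ
      obtain ⟨l, q, hq, rfl⟩ := D.exists_decomp hx T.xQ hg
      have hqN : q ∈ normalizerIn S R := by
        have := mul_mem (inv_mem (le_normalizerIn M.hRS (zpow_mem T.xR l))) hgN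
        rwa [inv_mul_cancel_left] at this
      obtain ⟨j, hj⟩ := Subgroup.mem_zpowers_iff.1 (T.norm_comm hq hqN)
      refine ⟨-j, Subtype.ext ?_⟩
      rw [hgσ, Subgroup.coe_mul, Subgroup.coe_zpow]
      show x ^ l * q * x * (x ^ l * q)⁻¹ = x * z ^ (-j)
      have e1 : q * x * q⁻¹ = z ^ (-j) * x := by
        rw [zpow_neg, hj, commutatorElement_def]; group
      have e2 : x ^ l * q * x * (x ^ l * q)⁻¹ = x ^ l * (q * x * q⁻¹) * (x ^ l)⁻¹ := by group
      rw [e2, e1, ← D.zpow_comm hx ⟨-j, rfl⟩, ← mul_assoc, ← (Commute.self_zpow x l).eq, mul_assoc x,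
        D.zpow_comm (zpow_mem hx l) ⟨-j, rfl⟩, ← mul_assoc, mul_inv_cancel_right]
    obtain ⟨j, hσx⟩ := hσx
    obtain ⟨i, hi⟩ := D.exists_mul_eq hk ((t : ℤ) * (t : ℤ) * j)
    have hts' : ((s : ℤ) * t : ℤ) = (s * t : ℤ) := rfl
    have hbx : β⁻¹ xR = xR ^ (t : ℤ) := β.injective (by
      rw [MulAut.apply_inv_self, map_zpow, hβx, ← zpow_mul,
        hxc ((s : ℤ) * t) 1 (by push_cast; linear_combination hts), zpow_one])
    have hbz : β⁻¹ zR = zR ^ (s : ℤ) := β.injective (by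
      rw [MulAut.apply_inv_self, map_zpow, hβz, ← zpow_mul,
        hzc ((t : ℤ) * s) 1 (by push_cast; linear_combination hts), zpow_one])
    have e : β * σ * β⁻¹ = a ^ i := by
      refine hext _ _ ?_ ?_
      · show β (σ (β⁻¹ xR)) = _
        rw [hbx, map_zpow σ, hσx, (show Commute xR (zR ^ j) from hab _ _).mul_zpow, ← zpow_mul,
          map_mul β, map_zpow β, map_zpow β, hβx, hβz, ← zpow_mul, ← zpow_mul,
          hxc ((s : ℤ) * t) 1 (by push_cast; linear_combination hts), zpow_one,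
          transvection_pow (by rw [map_zpow, haz']) hax' i, ← zpow_natCast (zR ^ k), ← zpow_mul,
          hzc ((t : ℤ) * (j * t)) (k * i) (by
            push_cast at hi ⊢; linear_combination -hi)]
      · show β (σ (β⁻¹ zR)) = _
        rw [hbz, map_zpow σ, hσz, map_zpow β, hβz, ← zpow_mul,
          hzc ((t : ℤ) * s) 1 (by push_cast; linear_combination hts), zpow_one]
        clear hi
        induction i with
        | zero => rfl
        | succ i ih => rw [pow_succ, MulAut.mul_apply, haz']; exact ih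
    rw [e]
    exact pow_mem haI i
  -- climb the tower
  have hN1 : tower Q z x 1 = normalizerIn S R := by
    refine eq_of_le_of_card inf_le_left ?_ ?_
    · refine sup_le (fun q hq => ?_) (Subgroup.zpowers_le.2 (le_normalizerIn M.hRS T.xR))
      obtain ⟨hqQ, hqx⟩ := (D.mem_lev_succ hx 0).1 hq
      refine mem_normalizerIn_of_conj (D.hQS hqQ) fun r hr => ?_
      obtain ⟨l, v, hv, rfl⟩ := T.mem_R_iff.1 hr
      have e : q * (x ^ l * v) * q⁻¹ = (q * x * q⁻¹) ^ l * (q * v * q⁻¹) := by rw [conj_zpow]; group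
      have e2 : q * x * q⁻¹ = ⁅x, q⁆⁻¹ * x := by simp only [commutatorElement_def]; group
      rw [e, e2, D.zpow_comm (D.hQS hqQ) hv, mul_inv_cancel_right]
      exact mul_mem (zpow_mem (mul_mem (Subgroup.zpowers_le.2 M.zR (inv_mem hqx)) T.xR) l)
        (Subgroup.zpowers_le.2 M.zR hv)
    · rw [T.card_tower hn (by omega : 1 ≤ 2 * n)]
      exact T.card_normalizer_R.trans_eq (by ring)
  have key : ∀ i, 1 ≤ i → i ≤ 2 * n → ∃ f, IsMap F (tower Q z x i) f ∧
      (∀ w ∈ tower Q z x i, f w ∈ tower Q z x i) ∧ f z = z ^ t ∧ f x = x ^ s := by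
    intro i
    induction i with
    | zero => intro h; omega
    | succ i ih =>
      intro _ hi2
      rcases Nat.eq_zero_or_pos i with rfl | hi0
      · obtain ⟨f, hf, hfβ⟩ := exists_extension (receptive_of_fullyNormalized D.hS D.hF M.fn) hβL le_rfl
          fun g hg => hconj _ (M.normConj_mem hg)
        have himg : img f R = R := by
          rw [img_congr hfβ]; exact (isIso_autFn M.hRS hβL).2
        refine ⟨f, hf.mono (hN1 ▸ le_sup_right), fun w hw => ?_, ?_, ?_⟩
        · rw [hN1] at hw ⊢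
          exact map_normalizerIn hf le_sup_left himg (Subgroup.mem_sup_right hw) hw
        · rw [hfβ z M.zR, autFn_apply β M.zR]
          show ((β zR : R) : Ω) = _
          rw [hβz, zpow_natCast, SubmonoidClass.coe_pow]
        · rw [hfβ x T.xR, autFn_apply β T.xR]
          show ((β xR : R) : Ω) = _
          rw [hβx, zpow_natCast, SubmonoidClass.coe_pow]
      · obtain ⟨f, hf, hfm, hfz, hfx⟩ := ih hi0 (by omega)
        haveI := finite_of_le (S := S) (T.tower_le i)
        have hiso : IsIso F (tower Q z x i) (tower Q z x i) f :=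
          ⟨hf, eq_of_le_of_card (T.tower_le i) (hf.img_le le_rfl hfm) (hf.card_img le_rfl).ge⟩
        obtain ⟨α, hα, hαf⟩ := exists_aut_of_isIso hiso
        obtain ⟨f', hf', he, hfm'⟩ := T.tower_extend hn hn2 hi0 hi2 hα
        refine ⟨f', hf', hfm', ?_, ?_⟩
        · rw [he z (T.z_tower i), autFn_apply α (T.z_tower i), hαf ⟨z, T.z_tower i⟩, hfz]
        · rw [he x (T.x_tower i), autFn_apply α (T.x_tower i), hαf ⟨x, T.x_tower i⟩, hfx]
  obtain ⟨f, hf, -, hfz, hfx⟩ := key (2 * n) (by omega) le_rfl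
  exact ⟨f, T.tower_top hn ▸ hf, hfz, hfx⟩

end Trans

end Cfsg.Agent.ExtraspecialIndexP
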