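import Cfsg.Agent.Lib.ExtraspecialIndexP.Weights
import Cfsg.Agent.Lib.ExtraspecialIndexP.SFrames

/-
The one-block case in rank two: the data of the frame.
Main result (namespace `Cfsg.Agent.ExtraspecialIndexP`): `Trans.gData`.
-/

set_option autoImplicit false

universe u

namespace Cfsg.Agent.ExtraspecialIndexP

open Cfsg Cfsg.FusionSystem Cfsg.Agent.Fusion
open scoped commutatorElement

variable {Ω : Type u} [Group Ω] {S : Subgroup Ω} {p : ℕ} {F : FusionSystem S} {Q : Subgroup Ω} {z : Ω}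
variable {R : Subgroup Ω}

theorem Setup.lev_congr (D : Setup F p Q z) {x : Ω} (hx : x ∈ S) (hxQ : x ∉ Q) {y : Ω} (hy : y ∈ S)
    (hyQ : y ∉ Q) : ∀ i, lev Q z y i = lev Q z x i := by
  intro i
  induction i with
  | zero => rfl
  | succ i ih =>
    ext q
    rw [D.mem_lev_succ hy i, D.mem_lev_succ hx i, ih]
    exact and_congr_right fun hq => D.comm_lev_iff hx hxQ hy hyQ hq i

namespace Trans

variable {M : Mover F p Q z R} {x y : Ω} (T : Trans M x y)
include T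

theorem exists_omega_ne {a : Ω} (ha : a ∈ Q) (haZ : a ∉ Subgroup.zpowers z) : ∃ b ∈ Q, omega p z b a ≠ 0 := by
  by_contra hc
  push Not at hc
  exact haZ (M.setup.center_eq.le ⟨ha, Subgroup.mem_centralizer_iff.2 fun b hb =>
    (M.setup.omega_eq_zero hb ha).1 (hc b hb)⟩)

theorem lev_one_le {a : Ω} (ha : a ∈ lev Q z x 1) (haZ : a ∉ Subgroup.zpowers z) :
    lev Q z x 1 ≤ Subgroup.zpowers z ⊔ Subgroup.zpowers a := by
  have D := M.setup
  haveI := D.fin
  obtain ⟨b, hb, hba⟩ := T.exists_omega_ne (D.lev_le_Q T.xS 1 ha) haZ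
  have h := D.step_card D.Z_le (D.lev_le_Q T.xS 1 ha) hb (fun v hv => D.zpow_comm (D.hQS hb) hv) hba
  rw [D.card_Z, ← T.card_lev_one] at h
  exact (eq_of_le_of_card (D.lev_le_S T.xS 1)
    (sup_le (D.Z_le_lev T.xS 1) (Subgroup.zpowers_le.2 ha)) h).ge

/-- Rank two gives the data of the one-block frame. -/
theorem gData (hn : Nat.card Q = p ^ 5) : GData S p Q z := by
  have D := M.setup
  haveI := D.fin
  haveI := Fact.mk D.prime
  have hn' : Nat.card Q = p ^ (2 * 2 + 1) := hn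
  have hp := T.n_eq hn' le_rfl
  have hyl : y ∈ lev Q z x 1 := (D.mem_lev_succ T.xS 0).2 ⟨T.yQ, T.comm⟩
  have hyZ : y ∉ Subgroup.zpowers z := fun h =>
    T.ne (commutatorElement_eq_one_iff_mul_comm.2 (D.zpow_comm T.xS h))
  obtain ⟨q0, hq0, hq0y⟩ := T.exists_omega_ne T.yQ hyZ
  set t := (-zlog p z ⁅x, y⁆ / omega p z q0 y).val
  set x' := x * q0 ^ t
  have hq : q0 ^ t ∈ Q := pow_mem hq0 t
  have hx' : x' ∈ S := mul_mem T.xS (D.hQS hq)
  have hx'Q : x' ∉ Q := fun h => T.xQ (by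
    have := mul_mem h (inv_mem hq)
    rwa [mul_inv_cancel_right] at this)
  have hx'y : ⁅x', y⁆ = 1 := by
    have hc := D.comm_mem hq T.yQ
    rw [D.comm_mul_left T.xS hc, ← D.zlog_eq_zero (mul_mem hc T.comm), D.zlog_mul hc T.comm]
    show omega p z (q0 ^ t) y + zlog p z ⁅x, y⁆ = 0
    rw [D.omega_pow_left hq0 T.yQ, ZMod.natCast_zmod_val, div_mul_cancel₀ _ hq0y, neg_add_cancel]
  have hlev := D.lev_congr T.xS T.xQ hx' hx'Q
  have hcen : ∀ a ∈ lev Q z x 1, ⁅x', a⁆ = 1 := fun a ha => by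
    have hle : Subgroup.zpowers z ⊔ Subgroup.zpowers y ≤ Subgroup.centralizer {x'} :=
      sup_le (fun v hv => Subgroup.mem_centralizer_singleton_iff.2 (D.zpow_comm hx' hv).symm)
        (Subgroup.zpowers_le.2 (Subgroup.mem_centralizer_singleton_iff.2
          (commutatorElement_eq_one_iff_mul_comm.1 hx'y).symm))
    exact commutatorElement_eq_one_iff_mul_comm.2
      (Subgroup.mem_centralizer_singleton_iff.1 (hle (T.lev_one_le hyl hyZ ha))).symm
  obtain ⟨q1, hq1, hq1'⟩ := SetLike.exists_of_lt (show lev Q z x 3 < Q from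
    lt_of_le_of_ne (D.lev_le_Q T.xS _) fun e => by
      have h1 := T.card_lev hn' 3 (by norm_num)
      rw [e, hn] at h1
      have := Nat.pow_right_injective D.prime.two_le h1
      omega)
  have hbase : Base S p Q x' :=
    { card_Q := hn
      pow_Q := fun q hq => T.Q_exponent hn' le_rfl hq
      xS := hx'
      xQ := hx'Q
      xp := congrArg Subtype.val (T.exponent_eq hn' le_rfl ⟨x', hx'⟩) }
  have step : ∀ i, ∀ q ∈ lev Q z x (i + 1), q ∉ lev Q z x i →
      ⁅x', q⁆ ∈ lev Q z x i ∧ (∀ j, j + 1 = i → ⁅x', q⁆ ∉ lev Q z x j) := by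
    intro i q hq hqi
    rw [← hlev] at hq
    obtain ⟨hqQ, hc⟩ := (D.mem_lev_succ hx' i).1 hq
    refine ⟨hlev i ▸ hc, fun j hj h => hqi ?_⟩
    subst hj
    rw [← hlev]
    exact (D.mem_lev_succ hx' j).2 ⟨hqQ, (hlev j).symm ▸ h⟩
  obtain ⟨a3, b3⟩ := step 3 q1 ((T.lev_top hn').ge hq1) hq1'
  obtain ⟨a2, b2⟩ := step 2 _ a3 (b3 2 rfl)
  obtain ⟨a1, b1⟩ := step 1 _ a2 (b2 1 rfl)
  set q4 := ⁅x', ⁅x', ⁅x', q1⁆⁆⁆
  have hq4Z : q4 ∉ Subgroup.zpowers z := b1 0 rfl
  have hq4Q : q4 ∈ Q := D.lev_le_Q T.xS 1 a1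
  refine ⟨by omega, x', q1, hbase, hq1, hcen _ a1, fun h0 => hq1' ?_⟩
  have him := T.im1_eq_lev hn' (by norm_num)
  rw [show 2 * 2 - 1 = 3 from rfl, D.im1_eq_centralizer T.xS] at him
  refine him.le ⟨hq1, Subgroup.mem_centralizer_iff.2 fun a ha => ?_⟩
  have hle : Subgroup.zpowers z ⊔ Subgroup.zpowers q4 ≤ Subgroup.centralizer {q1} :=
    sup_le (fun v hv => Subgroup.mem_centralizer_singleton_iff.2 (D.zpow_comm (D.hQS hq1) hv).symm)
      (Subgroup.zpowers_le.2 (Subgroup.mem_centralizer_singleton_iff.2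
        ((D.omega_eq_zero hq1 hq4Q).1 h0).symm))
  exact Subgroup.mem_centralizer_singleton_iff.1 (hle (T.lev_one_le a1 hq4Z ha))

end Trans

end Cfsg.Agent.ExtraspecialIndexP
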